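import Mathlib
import Cfsg.Agent.H94.Syl2Sym
import Cfsg.Agent.TwoFusion.OddAut
import Cfsg.Agent.FooteOdd.PSU
import Cfsg.Agent.TwoFusion.CyclicAut
import Cfsg.Agent.S1217
import Cfsg.Agent.CharactersDeep.QuatSylow
import Cfsg.Agent.GH.Cov.SylowThree_m3
import Cfsg.Agent.GH.L3S.Parity
import Cfsg.Agent.H991.QuatQuot
import Cfsg.Agent.Classification.QDW.AutSylow
import Cfsg.Agent.S0243
import Cfsg.Agent.ClosedTwo.PspWr
import Cfsg.Agent.LieClassical.SympCenter
import Cfsg.Agent.LieClassical.SympCount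
import Cfsg.Agent.S0261
import Cfsg.Agent.S0276
import Cfsg.Agent.FastGrp
import Cfsg.Agent.Prune
set_option linter.all false

section
prune_inst 0x7ff0fcf82db927ffdfff7e6ff6d1cffc19949fffe6def943ffe8e1ff8fdf030a09c56b850de058fe0ef7e01410b87813eb7eeeffe363dc7ffffd5ff41ffbee1fe5f6b50811d488340f340ff603f07f8e7f3fffffffffffffffffffffffffffbeffbfffffffff

-- part: H763/PsaAsm
section
prune_inst 0x303404088002000001008261003e4696000092006b80015100060006821f6009402f21802018100022aa042034004811100000421000000a000800011c0080800256028348a10c860099801000000000000000000000000000000000041000000000000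
set_option linter.all false
open scoped Cfsg.Agent.FastGrp

-- part: H763/PsaAbs
section
/-!
# Automorphisms of odd order of a 2-group with a big abelian subgroup (helper763, S5174)

* `eq_one_of_cosets` : `A` an abelian subgroup of a finite 2-group `S`, invariant under the automorphism `α` of odd order,
  elements `t j` whose cosets `t j * A` are fixed by `α`, with `[t j, A] = ⟨c j⟩` cyclic, `⟨c j : j⟩` normal with
  centralizer `≤ A`, and containing the involutions of `C_A(t j : j)`: then `α = 1`.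
* `coset_fix` : the cosets are fixed if they are permuted by `α`, and by `S` as a Sylow 2-subgroup of the symmetric group.
-/

set_option autoImplicit false

namespace Cfsg.Agent.H763.Psa

open Subgroup Equiv
open Cfsg.Agent.TwoFusion.OddAut

variable {S : Type*} [Group S]

theorem isOddAut {α : MulAut S} {k : ℕ} (hk : Odd k) (hα : α ^ k = 1) : IsOddAut (⊤ : Subgroup S) (fun x => α x) := by
  refine ⟨fun x _ => mem_top _, fun x _ y _ => map_mul α x y, k, hk, fun x _ => ?_⟩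
  have : ∀ n : ℕ, ∀ y : S, (fun x => α x)^[n] y = (α ^ n) y := by
    intro n
    induction n with
    | zero => intro y; rfl
    | succ n ih =>
      intro y
      rw [Function.iterate_succ_apply, ih, pow_succ]
      rfl
  rw [this, hα]
  rfl

theorem exists_pow [Finite S] (h2 : IsPGroup 2 S) : ∃ m : ℕ, ∀ x : S, x ^ 2 ^ m = 1 := by
  obtain ⟨m, hm⟩ := IsPGroup.iff_card.1 h2
  exact ⟨m, fun x => by rw [← hm]; exact pow_card_eq_one'⟩

/-- **The abstract criterion.** -/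
theorem eq_one_of_cosets [Finite S] (h2 : IsPGroup 2 S) {ι : Type*} {α : MulAut S} {k : ℕ} (hk : Odd k) (hα : α ^ k = 1)
    (A : Subgroup S) (hcomm : ∀ a ∈ A, ∀ b ∈ A, a * b = b * a) (hA : ∀ a ∈ A, α a ∈ A) (t c : ι → S)
    (ht : ∀ j, ∃ a ∈ A, α (t j) = t j * a)
    (hc : ∀ j, ∀ a ∈ A, t j * a * (t j)⁻¹ * a⁻¹ ∈ zpowers (c j))
    (hc' : ∀ j, ∃ a ∈ A, t j * a * (t j)⁻¹ * a⁻¹ = c j)
    (hconj : ∀ s : S, ∀ j, ∃ i, s * c j * s⁻¹ ∈ zpowers (c i))
    (hcent : ∀ s : S, (∀ j, s * c j = c j * s) → s ∈ A)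
    (hinv : ∀ z ∈ A, z * z = 1 → (∀ j, z * t j = t j * z) → z ∈ _root_.Subgroup.closure (Set.range c)) : α = 1 := by
  obtain ⟨m, hm⟩ := exists_pow h2
  have hodd := isOddAut hk hα
  -- the basic formula
  have form : ∀ j, ∀ a ∈ A, α (t j * a * (t j)⁻¹ * a⁻¹) = t j * α a * (t j)⁻¹ * (α a)⁻¹ := by
    intro j a ha
    obtain ⟨b, hb, hbe⟩ := ht j
    rw [map_mul, map_mul, map_mul, map_inv, map_inv, hbe]
    have h1 : b * α a * b⁻¹ = α a := by rw [hcomm b hb _ (hA a ha), mul_inv_cancel_right]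
    calc t j * b * α a * (t j * b)⁻¹ * (α a)⁻¹ = t j * (b * α a * b⁻¹) * (t j)⁻¹ * (α a)⁻¹ := by group
      _ = _ := by rw [h1]
  -- the `c j` are fixed
  have hcfix : ∀ j, α (c j) = c j := by
    intro j
    obtain ⟨a, ha, hae⟩ := hc' j
    have h1 : α (c j) ∈ zpowers (c j) := by
      rw [← hae, form j a ha, hae]
      exact hc j _ (hA a ha)
    obtain ⟨i, hi⟩ := mem_zpowers_iff.1 h1
    have h3 : α (c j) = c j * c j ^ (i - 1) := by rw [← hi, ← zpow_one_add]; congr 1; ring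
    have h4 : c j ^ (i - 1) = 1 := by
      refine hodd.eq_one_of_eq_mul (g := c j) (mem_top _) (mem_top _) (j := i) (m := m) h3 ?_ (hm _)
      rw [map_zpow, ← hi, ← zpow_mul, ← zpow_mul, mul_comm]
    rw [h3, h4, mul_one]
  have hcz : ∀ j, ∀ x ∈ zpowers (c j), α x = x := by
    rintro j _ ⟨i, rfl⟩
    change α (c j ^ i) = c j ^ i
    rw [map_zpow, hcfix]
  have hD : ∀ x ∈ _root_.Subgroup.closure (Set.range c), α x = x := by
    intro x hx
    have : closure (Set.range c) ≤ (MonoidHom.eqLocus α.toMonoidHom (MonoidHom.id S)) := by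
      rw [closure_le]
      rintro _ ⟨j, rfl⟩
      exact hcfix j
    exact this hx
  -- `α` is trivial modulo `A`
  have hmod : ∀ s : S, s⁻¹ * α s ∈ A := by
    intro s
    refine hcent _ fun j => ?_
    obtain ⟨i, hi⟩ := hconj s j
    have h1 : α s * c j * (α s)⁻¹ = s * c j * s⁻¹ := by
      have := hcz i _ hi
      rwa [map_mul, map_mul, map_inv, hcfix] at this
    have h3 : α s * c j = s * c j * s⁻¹ * α s := by rw [← h1]; group
    rw [mul_assoc, h3]
    group
  -- the elements `a⁻¹ * α a` commute with the `t j`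
  have hB : ∀ a ∈ A, ∀ j, a⁻¹ * α a * t j = t j * (a⁻¹ * α a) := by
    intro a ha j
    have h1 := form j a ha
    rw [hcz j _ (hc j a ha)] at h1
    have h3 : (t j * a * (t j)⁻¹)⁻¹ * (t j * α a * (t j)⁻¹) = a⁻¹ * α a := by
      have e1 : t j * a * (t j)⁻¹ = (t j * a * (t j)⁻¹ * a⁻¹) * a := by group
      have e2 : t j * α a * (t j)⁻¹ = (t j * a * (t j)⁻¹ * a⁻¹) * α a := by rw [h1]; group
      rw [e2, e1]
      group
    have h4 : t j * (a⁻¹ * α a) * (t j)⁻¹ = a⁻¹ * α a := by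
      refine Eq.trans ?_ h3
      group
    rw [mul_inv_eq_iff_eq_mul] at h4
    exact h4.symm
  -- `α` is trivial on the centralizer of the `t j` in `A`
  have hBfix : ∀ n : ℕ, ∀ d ∈ A, d ^ 2 ^ n = 1 → (∀ j, d * t j = t j * d) → α d = d := by
    intro n
    induction n with
    | zero =>
      intro d _ hd _
      rw [pow_zero, pow_one] at hd
      rw [hd, map_one]
    | succ n ih =>
      intro d hdA hd hdt
      have h1 : α (d * d) = d * d := by
        refine ih _ (A.mul_mem hdA hdA) ?_ fun j => ?_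
        · rw [← pow_two, ← pow_mul, ← pow_succ', hd]
        · rw [mul_assoc, hdt, ← mul_assoc, hdt, mul_assoc]
      have heA : d⁻¹ * α d ∈ A := A.mul_mem (A.inv_mem hdA) (hA d hdA)
      have h3 : (d⁻¹ * α d) * (d⁻¹ * α d) = 1 := by
        have e1 : α d * d⁻¹ = d⁻¹ * α d := hcomm _ (hA d hdA) _ (A.inv_mem hdA)
        calc (d⁻¹ * α d) * (d⁻¹ * α d) = d⁻¹ * (α d * d⁻¹) * α d := by group
          _ = (d * d)⁻¹ * (α d * α d) := by rw [e1]; group
          _ = 1 := by rw [← map_mul, h1, inv_mul_cancel]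
      have h4 : α (d⁻¹ * α d) = d⁻¹ * α d := hD _ (hinv _ heA h3 (hB d hdA))
      have h5 := hodd.fix_of_eq_mul (g := d) (k := d⁻¹ * α d) (mem_top _) (mem_top _) (m := m) (by group) h4 (hm _)
      rw [inv_mul_eq_one] at h5
      exact h5.symm
  have hAfix : ∀ a ∈ A, α a = a := by
    intro a ha
    have h1 := hBfix m (a⁻¹ * α a) (A.mul_mem (A.inv_mem ha) (hA a ha)) (hm _) (hB a ha)
    have h5 := hodd.fix_of_eq_mul (g := a) (k := a⁻¹ * α a) (mem_top _) (mem_top _) (m := m) (by group) h1 (hm _)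
    rw [inv_mul_eq_one] at h5
    exact h5.symm
  ext s
  have h5 := hodd.fix_of_eq_mul (g := s) (k := s⁻¹ * α s) (mem_top _) (mem_top _) (m := m) (by group) (hAfix _ (hmod s)) (hm _)
  rw [inv_mul_eq_one] at h5
  exact h5.symm

/-- **The cosets are fixed.** -/
theorem coset_fix {ι : Type*} [Finite ι] {α : MulAut S} {k : ℕ} (hk : Odd k) (hα : α ^ k = 1)
    (A : Subgroup S) (hA : ∀ a ∈ A, α a ∈ A) (hAn : ∀ s : S, ∀ a ∈ A, s * a * s⁻¹ ∈ A) (t : ι → S) (π : S →* Perm ι)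
    (Q : Sylow 2 (Perm ι)) (hπ : π.range = Q)
    (hconj : ∀ (s : S) (j : ι), ∃ a ∈ A, s * t j * s⁻¹ = t (π s j) * a)
    (hinj : ∀ i j, (t i)⁻¹ * t j ∈ A → i = j)
    (hchar : ∀ j, ∃ i, ∃ a ∈ A, α (t j) = t i * a) : ∀ j, ∃ a ∈ A, α (t j) = t j * a := by
  classical
  choose σ hσ using hchar
  have hApow : ∀ n : ℕ, ∀ a ∈ A, (α ^ n) a ∈ A := by
    intro n
    induction n with
    | zero => intro a ha; exact ha
    | succ n ih =>
      intro a ha
      rw [pow_succ']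
      exact hA _ (ih a ha)
  have hAinv : ∀ a : S, α a ∈ A → a ∈ A := by
    intro a ha
    obtain ⟨l, hl⟩ := hk
    have h1 := hApow (2 * l) _ ha
    have h2 : (α ^ (2 * l)) (α a) = (α ^ k) a := by rw [hl, pow_succ]; rfl
    rw [h2, hα] at h1
    exact h1
  have hσinj : Function.Injective σ := by
    intro i j hij
    apply hinj
    apply hAinv
    obtain ⟨a, ha, h1⟩ := hσ i
    obtain ⟨b, hb, h3⟩ := hσ j
    rw [map_mul, map_inv, h1, h3, hij]
    have : (t (σ j) * a)⁻¹ * (t (σ j) * b) = a⁻¹ * b := by group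
    rw [this]
    exact A.mul_mem (A.inv_mem ha) hb
  have hσbij : Function.Bijective σ := Finite.injective_iff_bijective.1 hσinj
  set τ : Perm ι := Equiv.ofBijective σ hσbij with hτ
  have hτa : ∀ j, τ j = σ j := fun j => rfl
  -- iterates
  have hit : ∀ n : ℕ, ∀ j, ∃ a ∈ A, (α ^ n) (t j) = t ((τ ^ n) j) * a := by
    intro n
    induction n with
    | zero => intro j; exact ⟨1, A.one_mem, by simp⟩
    | succ n ih =>
      intro j
      obtain ⟨a, ha, h1⟩ := ih j
      obtain ⟨b, hb, h3⟩ := hσ ((τ ^ n) j)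
      refine ⟨b * α a, A.mul_mem hb (hA _ ha), ?_⟩
      rw [pow_succ', MulAut.mul_apply, h1, map_mul, h3, pow_succ', Perm.mul_apply, hτa, mul_assoc]
  have hτk : τ ^ k = 1 := by
    ext j
    obtain ⟨a, ha, h1⟩ := hit k j
    rw [hα] at h1
    symm
    apply hinj
    have h3 : (t j)⁻¹ * t ((τ ^ k) j) = a⁻¹ := by
      have h4 : t j = t ((τ ^ k) j) * a := h1
      rw [inv_mul_eq_iff_eq_mul, eq_mul_inv_iff_mul_eq]
      exact h4.symm
    change (t j)⁻¹ * t ((τ ^ k) j) ∈ A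
    rw [h3]
    exact A.inv_mem ha
  -- `τ` normalises `Q`
  have hcomm : ∀ s : S, τ * π s = π (α s) * τ := by
    intro s
    ext j
    apply hinj
    obtain ⟨a, ha, h1⟩ := hconj s j
    obtain ⟨b, hb, h3⟩ := hσ (π s j)
    obtain ⟨c, hc, h4⟩ := hσ j
    obtain ⟨d, hd, h5⟩ := hconj (α s) (σ j)
    have h6 : α s * α (t j) * (α s)⁻¹ = t (σ (π s j)) * (b * α a) := by
      rw [← map_inv, ← map_mul, ← map_mul, h1, map_mul, h3, mul_assoc]
    have h7 : α s * α (t j) * (α s)⁻¹ = t (π (α s) (σ j)) * (d * (α s * c * (α s)⁻¹)) := by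
      have e : t (π (α s) (σ j)) * (d * (α s * c * (α s)⁻¹)) = (t (π (α s) (σ j)) * d) * (α s * c * (α s)⁻¹) := by group
      rw [h4, e, ← h5]
      group
    rw [Perm.mul_apply, Perm.mul_apply, hτa, hτa]
    have h8 : t (σ (π s j)) * (b * α a) = t (π (α s) (σ j)) * (d * (α s * c * (α s)⁻¹)) := by rw [← h6, h7]
    have h9 : (t (σ (π s j)))⁻¹ * t (π (α s) (σ j)) = (b * α a) * (d * (α s * c * (α s)⁻¹))⁻¹ := by
      rw [inv_mul_eq_iff_eq_mul, ← mul_assoc, h8, mul_inv_cancel_right]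
    rw [h9]
    exact A.mul_mem (A.mul_mem hb (hA _ ha)) (A.inv_mem (A.mul_mem hd (hAn _ _ hc)))
  have hτN : τ ∈ normalizer ((Q : Subgroup (Perm ι)) : Set (Perm ι)) := by
    have hle : ∀ g ∈ (Q : Subgroup (Perm ι)), τ * g * τ⁻¹ ∈ (Q : Subgroup (Perm ι)) := by
      intro g hg
      rw [← hπ] at hg
      obtain ⟨s, rfl⟩ := hg
      rw [hcomm, mul_inv_cancel_right, ← hπ]
      exact ⟨_, rfl⟩
    have hle' : ∀ n : ℕ, ∀ g ∈ (Q : Subgroup (Perm ι)), τ ^ n * g * (τ ^ n)⁻¹ ∈ (Q : Subgroup (Perm ι)) := by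
      intro n
      induction n with
      | zero => intro g hg; simpa using hg
      | succ n ih =>
        intro g hg
        have := hle _ (ih g hg)
        rw [pow_succ']
        convert this using 1
        group
    rw [mem_normalizer_iff]
    intro g
    refine ⟨hle g, fun hg => ?_⟩
    obtain ⟨l, hl⟩ := hk
    have h1 := hle' (2 * l) _ hg
    have h3 : τ ^ (2 * l) = τ⁻¹ := by
      rw [eq_inv_iff_mul_eq_one, ← pow_succ, ← hl, hτk]
    rw [h3] at h1
    convert h1 using 1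
    group
  have hτ1 : τ = 1 :=
    H94.Syl2Sym.eq_one_of_normalizer Q (hk.of_dvd_nat (orderOf_dvd_of_pow_eq_one hτk)) hτN
  intro j
  obtain ⟨a, ha, h1⟩ := hσ j
  refine ⟨a, ha, ?_⟩
  rw [h1, ← hτa, hτ1]
  rfl

end Cfsg.Agent.H763.Psa
end

-- part: H763/PsaBlk
section
/-!
# Block matrices for the Sylow 2-subgroups of `PSL_n(q)`, `q` odd (helper763, S5174)

`PDat P M D2 c0 t0` : facts about a Sylow 2-subgroup `P` of `GL_2(q)`: `M` is an abelian subgroup of index 2, `D2` the group of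
scalars (the Sylow 2-subgroup of `Kˣ`), `⟨c0⟩ = M ∩ SL_2`, ...
-/

set_option autoImplicit false
set_option linter.unusedVariables false
set_option linter.unusedSectionVars false

namespace Cfsg.Agent.H763.Psa

open Subgroup Equiv
open Cfsg.Agent.FooteOdd

variable {K : Type*} [Field K]

/-- `GL_2` -/
abbrev G2 (K : Type*) [Field K] := (Fin 2 → K) ≃ₗ[K] (Fin 2 → K)

/-- facts about a Sylow 2-subgroup of `GL_2(q)` or `GU_2(q)` -/
structure PDat (P M : Subgroup (G2 K)) (D2 : Subgroup Kˣ) (c0 t0 : G2 K) : Prop where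
  MP : M ≤ P
  comm : ∀ a ∈ M, ∀ b ∈ M, a * b = b * a
  two : ∀ f ∈ P, ∀ g ∈ P, f ∉ M → g ∉ M → f * g ∈ M
  det_mem : ∀ f ∈ P, LinearEquiv.det f ∈ D2
  sc_mem : ∀ d ∈ D2, sc d ∈ M
  c0M : c0 ∈ M
  c0det : LinearEquiv.det c0 = 1
  c0ord : ∃ w, 2 ≤ w ∧ orderOf c0 = 2 ^ w
  c0gen : ∀ a ∈ M, LinearEquiv.det a = 1 → a ∈ zpowers c0
  inv : ∀ f ∈ P, f ∉ M → f * c0 * f⁻¹ = c0⁻¹
  usurj : ∀ f ∈ P, f ∉ M → ∃ a ∈ M, f * a * f⁻¹ * a⁻¹ = c0
  fix : ∀ f ∈ P, f ∉ M → ∀ a ∈ M, f * a = a * f → ∃ d : Kˣ, a = sc d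
  dsurj : ∀ d ∈ D2, ∃ a ∈ M, LinearEquiv.det a = d
  t0P : t0 ∈ P
  t0M : t0 ∉ M
  t0det : LinearEquiv.det t0 = 1
  neg : ∃ k : ℤ, c0 ^ k = sc (-1)
  nonsq : ∃ d ∈ D2, ∀ e ∈ D2, e * e ≠ d
  sc_P : ∀ d : Kˣ, sc d ∈ P → d ∈ D2

theorem det_sc2 (d : Kˣ) : LinearEquiv.det (sc d : G2 K) = d * d := by
  rw [sc, det_dg, Fin.prod_univ_two]

theorem sc_inj {ι : Type*} [Nonempty ι] {c d : Kˣ} (h : (sc c : (ι → K) ≃ₗ[K] (ι → K)) = sc d) : c = d := by
  obtain ⟨i⟩ := ‹Nonempty ι›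
  exact congrFun (dg_injective h) i

theorem sc_one {ι : Type*} : (sc 1 : (ι → K) ≃ₗ[K] (ι → K)) = 1 := by
  ext v i; simp

theorem sc_inv {ι : Type*} (c : Kˣ) : (sc c : (ι → K) ≃ₗ[K] (ι → K))⁻¹ = sc c⁻¹ := by
  rw [inv_eq_iff_mul_eq_one, ← sc_mul, mul_inv_cancel, sc_one]

namespace PDat

variable {P M : Subgroup (G2 K)} {D2 : Subgroup Kˣ} {c0 t0 : G2 K} (h : PDat P M D2 c0 t0)

include h

theorem c0P : c0 ∈ P := h.MP h.c0M

theorem conj {f a : G2 K} (hf : f ∈ P) (ha : a ∈ M) : f * a * f⁻¹ ∈ M := by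
  by_cases hfM : f ∈ M
  · exact M.mul_mem (M.mul_mem hfM ha) (M.inv_mem hfM)
  · refine h.two _ (P.mul_mem hf (h.MP ha)) _ (P.inv_mem hf) (fun h1 => hfM ?_) (fun h1 => hfM ?_)
    · exact (M.mul_mem_cancel_right ha).1 h1
    · exact (M.inv_mem_iff).1 h1

theorem c0sq : c0 * c0 ≠ 1 := by
  obtain ⟨w, hw, hc⟩ := h.c0ord
  intro h1
  have h2 : orderOf c0 ∣ 2 := orderOf_dvd_of_pow_eq_one (by rw [pow_two]; exact h1)
  rw [hc] at h2
  have h3 : (2 : ℕ) ^ 2 ∣ 2 := (pow_dvd_pow 2 hw).trans h2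
  norm_num at h3

theorem pow_sc {k : ℤ} {d : Kˣ} (hk : c0 ^ k = sc d) : d * d = 1 := by
  have h1 := congrArg LinearEquiv.det hk
  rw [map_zpow, h.c0det, one_zpow, det_sc2] at h1
  exact h1.symm

theorem c0ns {d : Kˣ} (hd : c0 = sc d) : False := by
  have h1 : d * d = 1 := h.pow_sc (k := 1) (by rw [zpow_one]; exact hd)
  apply h.c0sq
  rw [hd, ← sc_mul, h1, sc_one]

/-- an element of `P` commuting with `c0` and `t0` is a scalar -/
theorem centr {g : G2 K} (hg : g ∈ P) (h1 : g * c0 = c0 * g) (h2 : g * t0 = t0 * g) : ∃ d : Kˣ, g = sc d := by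
  have hgM : g ∈ M := by
    by_contra hgM
    have h3 := h.inv g hg hgM
    rw [h1, mul_inv_cancel_right] at h3
    exact h.c0sq (eq_inv_iff_mul_eq_one.1 h3)
  exact h.fix t0 h.t0P h.t0M g hgM h2.symm

end PDat

section pairs

variable {α β : Type*}

/-- pairs -/
abbrev Pa (K : Type*) [Field K] (α β : Type*) := (α → G2 K) × (β → Kˣ)

/-- the entries of a pair, as elements of `GL_2` -/
def ent (a : Pa K α β) : α ⊕ β → G2 K := Sum.elim a.1 fun j => sc (a.2 j)

@[simp] theorem ent_inl (a : Pa K α β) (i : α) : ent a (Sum.inl i) = a.1 i := rfl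
@[simp] theorem ent_inr (a : Pa K α β) (j : β) : ent a (Sum.inr j) = sc (a.2 j) := rfl

@[simp] theorem ent_mul (a b : Pa K α β) (l : α ⊕ β) : ent (a * b) l = ent a l * ent b l := by
  rcases l with i | j
  · rfl
  · exact sc_mul _ _

@[simp] theorem ent_one (l : α ⊕ β) : ent (1 : Pa K α β) l = 1 := by
  rcases l with i | j
  · rfl
  · exact sc_one

@[simp] theorem ent_inv (a : Pa K α β) (l : α ⊕ β) : ent a⁻¹ l = (ent a l)⁻¹ := by
  rw [eq_inv_iff_mul_eq_one, ← ent_mul, inv_mul_cancel, ent_one]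

theorem ext_ent {a b : Pa K α β} (h : ∀ l, ent a l = ent b l) : a = b := by
  refine Prod.ext (funext fun i => h (Sum.inl i)) (funext fun j => sc_inj (h (Sum.inr j)))

/-- the action of a block matrix on block diagonal matrices -/
def cj (p : Pa K α β) (π : Perm α) (a : Pa K α β) : Pa K α β :=
  (fun i => p.1 i * a.1 (π⁻¹ i) * (p.1 i)⁻¹, a.2)

theorem cj_spec (p : Pa K α β) (π : Perm α) (a : Pa K α β) :
    (J p * bp π) * J a * (J p * bp π)⁻¹ = J (cj p π a) := by
  have h1 := bp_J (K := K) (α := α) (β := β) π a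
  calc (J p * bp π) * J a * (J p * bp π)⁻¹ = J p * (bp π * J a * (bp π)⁻¹) * (J p)⁻¹ := by group
    _ = J (p * (a.1 ∘ ⇑π⁻¹, a.2) * p⁻¹) := by rw [h1, map_mul, map_mul, map_inv]
    _ = _ := by
      congr 1
      refine Prod.ext rfl ?_
      change p.2 * a.2 * p.2⁻¹ = a.2
      rw [mul_comm p.2, mul_inv_cancel_right]

@[simp] theorem cj_inl (p : Pa K α β) (π : Perm α) (a : Pa K α β) (i : α) :
    ent (cj p π a) (Sum.inl i) = p.1 i * ent a (Sum.inl (π⁻¹ i)) * (p.1 i)⁻¹ := rfl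

@[simp] theorem cj_inr (p : Pa K α β) (π : Perm α) (a : Pa K α β) (j : β) :
    ent (cj p π a) (Sum.inr j) = ent a (Sum.inr j) := rfl

theorem sc_eq_J (c : Kˣ) : (sc c : (Ix α β → K) ≃ₗ[K] (Ix α β → K)) = J (fun _ => sc c, fun _ => c) := by
  ext v (⟨i, s⟩ | j)
  · simp
  · simp

theorem ent_sc (c : Kˣ) (l : α ⊕ β) : ent ((fun _ => sc c, fun _ => c) : Pa K α β) l = sc c := by
  rcases l with i | j <;> rfl

/-- equality of block matrices up to scalars -/
theorem J_eq_sc_mul {a b : Pa K α β} {c : Kˣ} (h : J a = sc c * J b) (l : α ⊕ β) : ent a l = sc c * ent b l := by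
  rw [sc_eq_J, ← map_mul] at h
  rw [J_injective h, ent_mul, ent_sc]

variable [DecidableEq α] [DecidableEq β]

/-- one entry in `α` -/
def sg (i : α) (x : G2 K) : Pa K α β := (Pi.mulSingle i x, 1)

theorem sg_same (i : α) (x : G2 K) : ent (sg (β := β) i x) (Sum.inl i) = x := Pi.mulSingle_eq_same _ _

theorem sg_ne {i : α} {l : α ⊕ β} (h : l ≠ Sum.inl i) (x : G2 K) : ent (sg (β := β) i x) l = 1 := by
  rcases l with i' | j
  · exact Pi.mulSingle_eq_of_ne (fun h1 => h (by rw [h1])) _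
  · exact sc_one

theorem sg_mul (i : α) (x y : G2 K) : sg (β := β) i (x * y) = sg i x * sg i y := by
  refine Prod.ext (Pi.mulSingle_mul _ _ _) (by simp [sg])

theorem sg_one (i : α) : sg (β := β) i (1 : G2 K) = 1 := Prod.ext (Pi.mulSingle_one _) rfl

theorem sg_inv (i : α) (x : G2 K) : sg (β := β) i x⁻¹ = (sg i x)⁻¹ := by
  rw [eq_inv_iff_mul_eq_one, ← sg_mul, inv_mul_cancel, sg_one]

end pairs

end Cfsg.Agent.H763.Psa
end

-- part: H763/PsaMod
section
/-!
# Odd automorphisms of the Sylow 2-subgroups of `PSL_n(q)`, `n ≥ 5` (helper763, S5174)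
-/

set_option autoImplicit false
set_option linter.unusedVariables false
set_option linter.unusedSectionVars false

namespace Cfsg.Agent.H763.Psa

open Subgroup Equiv
open Cfsg.Agent.FooteOdd

variable {K : Type*} [Field K] {α β : Type*} [Fintype α] [DecidableEq α] [Fintype β] [DecidableEq β]

/-- block diagonal matrices with entries in `P` and determinant 1 -/
def IsB (P : Subgroup (G2 K)) (D2 : Subgroup Kˣ) (a : Pa K α β) : Prop :=
  (∀ i, a.1 i ∈ P) ∧ (∀ j, a.2 j ∈ D2) ∧ LinearEquiv.det (J a) = 1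

/-- the model of a Sylow 2-subgroup of `SL_n(q)` -/
noncomputable def St (α β : Type*) [Fintype α] [DecidableEq α] [Fintype β] [DecidableEq β] (P : Subgroup (G2 K)) (D2 : Subgroup Kˣ)
    (Q : Subgroup (Perm α)) : Subgroup ((Ix α β → K) ≃ₗ[K] (Ix α β → K)) :=
  R P D2 Q ⊓ (LinearEquiv.det : ((Ix α β → K) ≃ₗ[K] (Ix α β → K)) →* Kˣ).ker

/-- a quotient by the scalars -/
structure Mod (α β : Type*) [Fintype α] [DecidableEq α] [Fintype β] [DecidableEq β] (P : Subgroup (G2 K)) (D2 : Subgroup Kˣ)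
    (Q : Subgroup (Perm α)) (S : Type*) [Group S] where
  Ψ : ((Ix α β → K) ≃ₗ[K] (Ix α β → K)) → S
  mul : ∀ g ∈ St α β P D2 Q, ∀ h ∈ St α β P D2 Q, Ψ (g * h) = Ψ g * Ψ h
  surj : ∀ s : S, ∃ g ∈ St α β P D2 Q, Ψ g = s
  ker : ∀ g ∈ St α β P D2 Q, (Ψ g = 1 ↔ ∃ c : Kˣ, g = sc c)

variable {P M : Subgroup (G2 K)} {D2 : Subgroup Kˣ} {c0 t0 : G2 K} {Q : Subgroup (Perm α)} {S : Type*} [Group S]

theorem IsB.mul {a b : Pa K α β} (ha : IsB P D2 a) (hb : IsB P D2 b) : IsB P D2 (a * b) :=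
  ⟨fun i => P.mul_mem (ha.1 i) (hb.1 i), fun j => D2.mul_mem (ha.2.1 j) (hb.2.1 j), by
    rw [map_mul, map_mul, ha.2.2, hb.2.2, one_mul]⟩

theorem IsB.inv {a : Pa K α β} (ha : IsB P D2 a) : IsB P D2 a⁻¹ :=
  ⟨fun i => P.inv_mem (ha.1 i), fun j => D2.inv_mem (ha.2.1 j), by
    rw [map_inv, map_inv, ha.2.2, inv_one]⟩

theorem IsB.one : IsB P D2 (1 : Pa K α β) :=
  ⟨fun i => P.one_mem, fun j => D2.one_mem, by rw [map_one, map_one]⟩

theorem IsB.mono {a : Pa K α β} {P' : Subgroup (G2 K)} (h : P ≤ P') (ha : IsB P D2 a) : IsB P' D2 a :=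
  ⟨fun i => h (ha.1 i), ha.2.1, ha.2.2⟩

theorem IsB.mem {a : Pa K α β} (ha : IsB P D2 a) : J a ∈ St α β P D2 Q :=
  ⟨⟨a, 1, Q.one_mem, ha.1, ha.2.1, by rw [map_one, mul_one]⟩, ha.2.2⟩

theorem det_sg (i : α) (x : G2 K) : LinearEquiv.det (J (sg (β := β) i x)) = LinearEquiv.det x := by
  rw [det_J]
  have h1 : ∀ i', LinearEquiv.det ((sg (β := β) i x).1 i') = (Pi.mulSingle i (LinearEquiv.det x) : α → Kˣ) i' := by
    intro i'
    change LinearEquiv.det ((Pi.mulSingle i x : α → G2 K) i') = _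
    by_cases hi : i' = i
    · subst hi; rw [Pi.mulSingle_eq_same, Pi.mulSingle_eq_same]
    · rw [Pi.mulSingle_eq_of_ne hi, Pi.mulSingle_eq_of_ne hi, map_one]
  rw [Finset.prod_congr rfl fun i' _ => h1 i', Finset.prod_pi_mulSingle']
  simp only [sg, _root_.Finset.mem_univ, ↓ _root_.reduceIte, _root_.Pi.one_apply, _root_.Finset.prod_const_one, _root_.mul_one]

theorem isB_sg {i : α} {x : G2 K} (hx : x ∈ P) (hd : LinearEquiv.det x = 1) : IsB P D2 (sg (β := β) i x) := by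
  refine ⟨fun i' => ?_, fun j => D2.one_mem, by rw [det_sg, hd]⟩
  change (Pi.mulSingle i x : α → G2 K) i' ∈ P
  rw [Pi.mulSingle_apply]; split_ifs
  · exact hx
  · exact P.one_mem

theorem bp_mem_St {π : Perm α} (hπ : π ∈ Q) : (bp π : (Ix α β → K) ≃ₗ[K] (Ix α β → K)) ∈ St α β P D2 Q :=
  ⟨⟨1, π, hπ, fun i => P.one_mem, fun j => D2.one_mem, by simp only [_root_.map_one, _root_.one_mul]⟩, det_bp π⟩

theorem exists_of_mem {g : (Ix α β → K) ≃ₗ[K] (Ix α β → K)} (hg : g ∈ St α β P D2 Q) :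
    ∃ p : Pa K α β, ∃ π ∈ Q, IsB P D2 p ∧ g = J p * bp π := by
  obtain ⟨⟨p, π, hπ, h1, h2, rfl⟩, h3⟩ := hg
  refine ⟨p, π, hπ, ⟨h1, h2, ?_⟩, rfl⟩
  have h4 : LinearEquiv.det (J p * bp π) = 1 := h3
  rwa [map_mul, det_bp, mul_one] at h4

theorem mem_St {p : Pa K α β} (hp : IsB P D2 p) {π : Perm α} (hπ : π ∈ Q) :
    (J p * bp π : (Ix α β → K) ≃ₗ[K] (Ix α β → K)) ∈ St α β P D2 Q := mul_mem hp.mem (bp_mem_St hπ)

theorem cj_isB {p : Pa K α β} (hp : IsB P D2 p) {π : Perm α} (hπ : π ∈ Q) {a : Pa K α β} (ha : IsB P D2 a) :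
    IsB P D2 (cj p π a) := by
  refine ⟨fun i => P.mul_mem (P.mul_mem (hp.1 i) (ha.1 _)) (P.inv_mem (hp.1 i)), ha.2.1, ?_⟩
  rw [← cj_spec, map_mul, map_mul, ha.2.2, mul_one, map_inv, mul_inv_cancel]

/-- adjusting the determinant -/
theorem exists_adj (h : PDat P M D2 c0 t0) (k : α ⊕ β) {δ : Kˣ} (hδ : δ ∈ D2) :
    ∃ b : Pa K α β, (∀ i, b.1 i ∈ M) ∧ (∀ j, b.2 j ∈ D2) ∧ LinearEquiv.det (J b) = δ ∧ ∀ l, l ≠ k → ent b l = 1 := by
  rcases k with i | j
  · obtain ⟨x, hx, hxd⟩ := h.dsurj δ hδ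
    refine ⟨sg i x, fun i' => ?_, fun j => D2.one_mem, by rw [det_sg, hxd], fun l hl => sg_ne hl x⟩
    change (Pi.mulSingle i x : α → G2 K) i' ∈ M
    rw [Pi.mulSingle_apply]; split_ifs
    · exact hx
    · exact M.one_mem
  · refine ⟨(1, Pi.mulSingle j δ), fun i' => M.one_mem, fun j' => ?_, ?_, fun l hl => ?_⟩
    · change (Pi.mulSingle j δ : β → Kˣ) j' ∈ D2
      rw [Pi.mulSingle_apply]; split_ifs
      · exact hδ
      · exact D2.one_mem
    · rw [det_J, Finset.prod_pi_mulSingle']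
      simp only [_root_.Pi.one_apply, _root_.map_one, _root_.Finset.prod_const_one, _root_.Finset.mem_univ, ↓ _root_.reduceIte, _root_.one_mul]
    · rcases l with i' | j'
      · rfl
      · change sc ((Pi.mulSingle j δ : β → Kˣ) j') = 1
        rw [Pi.mulSingle_eq_of_ne (fun h1 => hl (by rw [h1])), sc_one]

/-- elements of `A` with a given entry -/
theorem exists_A (h : PDat P M D2 c0 t0) {i : α} {k : α ⊕ β} (hk : k ≠ Sum.inl i) {g : G2 K} (hg : g ∈ M) :
    ∃ a : Pa K α β, IsB M D2 a ∧ ent a (Sum.inl i) = g ∧ ∀ l, l ≠ Sum.inl i → l ≠ k → ent a l = 1 := by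
  obtain ⟨b, h1, h2, h3, h4⟩ := exists_adj (α := α) (β := β) h k (D2.inv_mem (h.det_mem g (h.MP hg)))
  refine ⟨sg i g * b, ⟨fun i' => ?_, fun j => ?_, ?_⟩, ?_, fun l hl hlk => ?_⟩
  · refine M.mul_mem ?_ (h1 i')
    change (Pi.mulSingle i g : α → G2 K) i' ∈ M
    rw [Pi.mulSingle_apply]; split_ifs
    · exact hg
    · exact M.one_mem
  · exact D2.mul_mem D2.one_mem (h2 j)
  · rw [map_mul, map_mul, det_sg, h3, mul_inv_cancel]
  · rw [ent_mul, sg_same, h4 _ hk.symm, mul_one]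
  · rw [ent_mul, sg_ne hl, h4 _ hlk, mul_one]

namespace Mod

variable (md : Mod α β P D2 Q S)

theorem one : md.Ψ 1 = 1 := (md.ker 1 (one_mem _)).2 ⟨1, sc_one.symm⟩

theorem inv {g : (Ix α β → K) ≃ₗ[K] (Ix α β → K)} (hg : g ∈ St α β P D2 Q) : md.Ψ g⁻¹ = (md.Ψ g)⁻¹ := by
  rw [eq_inv_iff_mul_eq_one, ← md.mul _ (inv_mem hg) _ hg, inv_mul_cancel, md.one]

theorem eq_iff {g g' : (Ix α β → K) ≃ₗ[K] (Ix α β → K)} (hg : g ∈ St α β P D2 Q) (hg' : g' ∈ St α β P D2 Q) :
    md.Ψ g = md.Ψ g' ↔ ∃ c : Kˣ, g = sc c * g' := by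
  rw [← mul_inv_eq_one, ← md.inv hg', ← md.mul _ hg _ (inv_mem hg'), md.ker _ (mul_mem hg (inv_mem hg'))]
  refine exists_congr fun c => mul_inv_eq_iff_eq_mul

/-- the entries of elements with the same image -/
theorem ent_eq {a b : Pa K α β} (ha : IsB P D2 a) (hb : IsB P D2 b) (h : md.Ψ (J a) = md.Ψ (J b)) :
    ∃ c : Kˣ, ∀ l, ent a l = sc c * ent b l := by
  obtain ⟨c, hc⟩ := (md.eq_iff ha.mem hb.mem).1 h
  exact ⟨c, J_eq_sc_mul hc⟩

theorem Jmul {a b : Pa K α β} (ha : IsB P D2 a) (hb : IsB P D2 b) : md.Ψ (J (a * b)) = md.Ψ (J a) * md.Ψ (J b) := by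
  rw [map_mul, md.mul _ ha.mem _ hb.mem]

theorem Jinv {a : Pa K α β} (ha : IsB P D2 a) : md.Ψ (J a⁻¹) = (md.Ψ (J a))⁻¹ := by
  rw [map_inv, md.inv ha.mem]

theorem conj_eq {p : Pa K α β} (hp : IsB P D2 p) {π : Perm α} (hπ : π ∈ Q) {a : Pa K α β} (ha : IsB P D2 a) :
    md.Ψ (J p * bp π) * md.Ψ (J a) * (md.Ψ (J p * bp π))⁻¹ = md.Ψ (J (cj p π a)) := by
  have hx : (J p * bp π : (Ix α β → K) ≃ₗ[K] (Ix α β → K)) ∈ St α β P D2 Q := mem_St hp hπ
  have hJa : (J a : (Ix α β → K) ≃ₗ[K] (Ix α β → K)) ∈ St α β P D2 Q := ha.mem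
  rw [← cj_spec, md.mul _ (mul_mem hx hJa) _ (inv_mem hx), md.mul _ hx _ hJa, md.inv hx]

theorem comm_eq {p : Pa K α β} (hp : IsB P D2 p) {π : Perm α} (hπ : π ∈ Q) {a : Pa K α β} (ha : IsB P D2 a) :
    md.Ψ (J p * bp π) * md.Ψ (J a) * (md.Ψ (J p * bp π))⁻¹ * (md.Ψ (J a))⁻¹ = md.Ψ (J (cj p π a * a⁻¹)) := by
  rw [md.conj_eq hp hπ ha, md.Jmul (cj_isB hp hπ ha) ha.inv, md.Jinv ha]

/-- the permutation of the blocks is determined by the image -/
theorem perm_eq {p p' : Pa K α β} (hp : IsB P D2 p) (hp' : IsB P D2 p') {π π' : Perm α} (hπ : π ∈ Q) (hπ' : π' ∈ Q)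
    (h : md.Ψ (J p * bp π) = md.Ψ (J p' * bp π')) : π = π' := by
  obtain ⟨c, hc⟩ := (md.eq_iff (mem_St hp hπ) (mem_St hp' hπ')).1 h
  rw [sc_eq_J, ← mul_assoc, ← map_mul] at hc
  have h1 : J (((fun _ => sc c, fun _ => c) * p')⁻¹ * p) = bp (π' * π⁻¹) := by
    have h2 : (bp (π' * π⁻¹) : (Ix α β → K) ≃ₗ[K] (Ix α β → K)) = bp π' * (bp π)⁻¹ := by rw [map_mul, map_inv]
    rw [h2, map_mul, map_inv, inv_mul_eq_iff_eq_mul, ← mul_assoc, ← hc, mul_inv_cancel_right]
  exact (mul_inv_eq_one.1 (eq_one_of_J_eq_bp h1)).symm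

/-- the subgroup `A` -/
def A (hMP : M ≤ P) : Subgroup S where
  carrier := {s | ∃ a : Pa K α β, IsB M D2 a ∧ md.Ψ (J a) = s}
  mul_mem' := by
    rintro _ _ ⟨a, ha, rfl⟩ ⟨b, hb, rfl⟩
    exact ⟨a * b, ha.mul hb, md.Jmul (ha.mono hMP) (hb.mono hMP)⟩
  one_mem' := ⟨1, IsB.one, by rw [map_one, md.one]⟩
  inv_mem' := by
    rintro _ ⟨a, ha, rfl⟩
    exact ⟨a⁻¹, ha.inv, md.Jinv (ha.mono hMP)⟩

end Mod

end Cfsg.Agent.H763.Psa
end

-- part: H763/PsaFive
section
/-!
# Odd automorphisms of the Sylow 2-subgroups of `PSL_n(q)`, `n ≥ 5`, continued (helper763, S5174)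
-/

set_option autoImplicit false
set_option linter.unusedVariables false
set_option linter.unusedSectionVars false

namespace Cfsg.Agent.H763.Psa

open Subgroup Equiv
open Cfsg.Agent.FooteOdd

variable {K : Type*} [Field K] {α β : Type*} [Fintype α] [DecidableEq α] [Fintype β] [DecidableEq β]
variable {P M : Subgroup (G2 K)} {D2 : Subgroup Kˣ} {c0 t0 : G2 K} {Q : Subgroup (Perm α)} {S : Type*} [Group S]

theorem conj_sc {f x : G2 K} {c : Kˣ} (h : f * x * f⁻¹ = sc c) : x = sc c := by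
  have h1 : x = f⁻¹ * (f * x * f⁻¹) * f := by group
  rw [h1, h, ← sc_comm, inv_mul_cancel_right]

/-- the entries of the commutator with an element with one entry -/
theorem comm_sg (p : Pa K α β) {π : Perm α} {i : α} (hi : π i ≠ i) (x : G2 K) :
    ent (cj p π (sg i x) * (sg i x)⁻¹) (Sum.inl (π i)) = p.1 (π i) * x * (p.1 (π i))⁻¹ ∧
    ent (cj p π (sg i x) * (sg i x)⁻¹) (Sum.inl i) = x⁻¹ ∧
    ∀ l, l ≠ Sum.inl i → l ≠ Sum.inl (π i) → ent (cj p π (sg i x) * (sg i x)⁻¹) l = 1 := by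
  refine ⟨?_, ?_, ?_⟩
  · rw [ent_mul, ent_inv, cj_inl, show π⁻¹ (π i) = i from π.symm_apply_apply i, sg_same,
      sg_ne (fun h => hi (Sum.inl.inj h)), inv_one, mul_one]
  · rw [ent_mul, ent_inv, cj_inl, sg_same, sg_ne, mul_one, mul_inv_cancel, one_mul]
    intro h
    have h1 : π⁻¹ i = i := Sum.inl.inj h
    exact hi (by conv_lhs => rw [← h1]
                 exact π.apply_symm_apply i)
  · intro l hl hl'
    rw [ent_mul, ent_inv, sg_ne hl, inv_one, mul_one]
    rcases l with l | j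
    · rw [cj_inl, sg_ne, mul_one, mul_inv_cancel]
      intro h
      have h1 : π⁻¹ l = i := Sum.inl.inj h
      apply hl'
      rw [← h1, show π (π⁻¹ l) = l from π.apply_symm_apply l]
    · rw [cj_inr, sg_ne hl]

theorem cj_sg (p : Pa K α β) (π : Perm α) (i : α) (x : G2 K) :
    cj p π (sg i x) = sg (π i) (p.1 (π i) * x * (p.1 (π i))⁻¹) := by
  apply ext_ent
  intro l
  by_cases hl : l = Sum.inl (π i)
  · subst hl
    rw [cj_inl, sg_same, show π⁻¹ (π i) = i from π.symm_apply_apply i, sg_same]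
  · rw [sg_ne hl]
    rcases l with l | j
    · rw [cj_inl, sg_ne, mul_one, mul_inv_cancel]
      intro h
      have h1 : π⁻¹ l = i := Sum.inl.inj h
      apply hl
      rw [← h1, show π (π⁻¹ l) = l from π.apply_symm_apply l]
    · rw [cj_inr, sg_ne (by simp)]

namespace Mod

variable (md : Mod α β P D2 Q S)

/-- **A normal abelian subgroup is contained in `A`** (at least three places). -/
theorem le_A (h : PDat P M D2 c0 t0) (h3 : ∀ l l' : α ⊕ β, ∃ k, k ≠ l ∧ k ≠ l') (N : Subgroup S) (hN : N.Normal)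
    (hab : ∀ a ∈ N, ∀ b ∈ N, a * b = b * a) : N ≤ md.A h.MP := by
  intro s hs
  obtain ⟨g, hg, rfl⟩ := md.surj s
  obtain ⟨p, π, hπ, hp, rfl⟩ := exists_of_mem hg
  have key : ∀ b, IsB P D2 b → ∃ c : Kˣ, ∀ l, ent (cj p π (cj p π b * b⁻¹)) l = sc c * ent (cj p π b * b⁻¹) l := by
    intro b hb
    have hy : md.Ψ (J (cj p π b * b⁻¹)) ∈ N := by
      rw [← md.comm_eq hp hπ hb, mul_assoc, mul_assoc, ← mul_assoc (md.Ψ (J b))]
      exact N.mul_mem hs (hN.conj_mem _ (N.inv_mem hs) _)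
    have hyB : IsB P D2 (cj p π b * b⁻¹) := (cj_isB hp hπ hb).mul hb.inv
    refine md.ent_eq (cj_isB hp hπ hyB) hyB ?_
    rw [← md.conj_eq hp hπ hyB, hab _ hs _ hy, mul_inv_cancel_right]
  have hπ1 : π = 1 := by
    by_contra hne
    obtain ⟨i, hi⟩ : ∃ i, π i ≠ i := by
      by_contra hcon
      push Not at hcon
      exact hne (Equiv.ext hcon)
    obtain ⟨c, hc⟩ := key (sg i c0) (isB_sg h.c0P h.c0det)
    obtain ⟨e1, e2, e3⟩ := comm_sg p hi c0
    have f1 := hc (Sum.inl (π i))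
    rw [cj_inl, show π⁻¹ (π i) = i from π.symm_apply_apply i, e1, e2] at f1
    have f2 : c0⁻¹ = sc c * c0 := by
      have h1 : p.1 (π i) * c0⁻¹ * (p.1 (π i))⁻¹ = p.1 (π i) * (sc c * c0) * (p.1 (π i))⁻¹ := by
        rw [f1, ← mul_assoc, ← mul_assoc, ← mul_assoc, sc_comm]
      exact mul_left_cancel (mul_right_cancel h1)
    have f3 : sc c ≠ (1 : G2 K) := by
      intro h1
      rw [h1, one_mul] at f2
      exact h.c0sq (inv_eq_iff_mul_eq_one.1 f2)
    obtain ⟨k, hk1, hk2⟩ := h3 (Sum.inl i) (Sum.inl (π i))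
    have f4 := hc k
    rw [e3 k hk1 hk2, mul_one] at f4
    rcases k with k | k
    · rw [cj_inl] at f4
      by_cases hk3 : π⁻¹ k = π i
      · rw [hk3, e1] at f4
        exact h.c0ns (conj_sc (conj_sc f4))
      · rw [e3 (Sum.inl (π⁻¹ k)), mul_one, mul_inv_cancel] at f4
        · exact f3 f4.symm
        · intro h1
          have h2 : π⁻¹ k = i := Sum.inl.inj h1
          apply hk2
          rw [← h2, show π (π⁻¹ k) = k from π.apply_symm_apply k]
        · intro h1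
          exact hk3 (Sum.inl.inj h1)
    · rw [cj_inr, e3 _ hk1 hk2] at f4
      exact f3 f4.symm
  subst hπ1
  have hpM : ∀ i, p.1 i ∈ M := by
    intro i
    by_contra hi
    obtain ⟨g, hgM, hgc⟩ := h.usurj _ (hp.1 i) hi
    obtain ⟨k, hk, _⟩ := h3 (Sum.inl i) (Sum.inl i)
    obtain ⟨l, hl1, hl2⟩ := h3 (Sum.inl i) k
    obtain ⟨a, ha, ha1, ha2⟩ := exists_A h hk hgM
    obtain ⟨c, hc⟩ := key a (ha.mono h.MP)
    have e1 : ent (cj p 1 a * a⁻¹) (Sum.inl i) = c0 := by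
      rw [ent_mul, ent_inv, cj_inl, inv_one, Perm.one_apply, ha1, hgc]
    have e2 : ent (cj p 1 a * a⁻¹) l = 1 := by
      rw [ent_mul, ent_inv, ha2 l hl1 hl2, inv_one, mul_one]
      rcases l with l | l
      · rw [cj_inl, inv_one, Perm.one_apply, ha2 _ hl1 hl2, mul_one, mul_inv_cancel]
      · rw [cj_inr, ha2 _ hl1 hl2]
    have e3 : sc c = (1 : G2 K) := by
      have h1 := hc l
      rw [e2, mul_one] at h1
      rw [← h1]
      rcases l with l | l
      · rw [cj_inl, inv_one, Perm.one_apply, e2, mul_one, mul_inv_cancel]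
      · rw [cj_inr, e2]
    have h1 := hc (Sum.inl i)
    rw [cj_inl, inv_one, Perm.one_apply, e1, e3, one_mul, h.inv _ (hp.1 i) hi] at h1
    exact h.c0sq (inv_eq_iff_mul_eq_one.1 h1)
  exact ⟨p, ⟨hpM, hp.2.1, hp.2.2⟩, by rw [map_one, mul_one]⟩

/-- an element acting on `A` with the commutators in a cyclic group of order `|c0|` -/
theorem char_t (h : PDat P M D2 c0 t0) (h3 : ∀ l l' : α ⊕ β, ∃ k, k ≠ l ∧ k ≠ l') {y c : S}
    (hcord : orderOf c = orderOf c0) (hyc : ∀ a ∈ md.A h.MP, y * a * y⁻¹ * a⁻¹ ∈ zpowers c) :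
    y ∈ md.A h.MP ∨ ∃ j, ∃ a ∈ md.A h.MP, y = md.Ψ (J (sg j t0)) * a := by
  obtain ⟨g, hg, rfl⟩ := md.surj y
  obtain ⟨p, π, hπ, hp, rfl⟩ := exists_of_mem hg
  obtain ⟨w, hw, hcw⟩ := h.c0ord
  have key : ∀ b, IsB M D2 b → md.Ψ (J (cj p π b * b⁻¹)) ∈ zpowers c := by
    intro b hb
    rw [← md.comm_eq hp hπ (hb.mono h.MP)]
    exact hyc _ ⟨b, hb, rfl⟩
  have hfin : Finite (zpowers c) := by
    have : 0 < orderOf c := by rw [hcord, hcw]; positivity
    exact (orderOf_pos_iff.1 this).finite_zpowers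
  -- powers of images
  have hpow : ∀ b : Pa K α β, IsB P D2 b → ∀ s : ℤ, md.Ψ (J b) ^ s = md.Ψ (J (b ^ s)) ∧ IsB P D2 (b ^ s) := by
    intro b hb s
    have h1 : ∀ n : ℕ, md.Ψ (J b) ^ n = md.Ψ (J (b ^ n)) ∧ IsB P D2 (b ^ n) := by
      intro n
      induction n with
      | zero => rw [pow_zero, pow_zero, map_one, md.one]; exact ⟨rfl, IsB.one⟩
      | succ n ih => rw [pow_succ, pow_succ, ih.1, md.Jmul ih.2 hb]; exact ⟨rfl, ih.2.mul hb⟩
    obtain ⟨n, rfl | rfl⟩ := s.eq_nat_or_neg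
    · rw [zpow_natCast, zpow_natCast]; exact h1 n
    · rw [zpow_neg, zpow_neg, zpow_natCast, zpow_natCast, (h1 n).1, md.Jinv (h1 n).2]
      exact ⟨rfl, (h1 n).2.inv⟩
  have entpow : ∀ (b : Pa K α β) (s : ℤ) (l : α ⊕ β), ent (b ^ s) l = ent b l ^ s := by
    intro b s l
    let f : Pa K α β →* G2 K := ⟨⟨fun b => ent b l, ent_one l⟩, fun b b' => ent_mul b b' l⟩
    exact map_zpow f b s
  -- equal orders give equal cyclic groups
  have hzp : ∀ u ∈ zpowers c, ∀ v ∈ zpowers c, orderOf u = orderOf v → u ∈ zpowers v := by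
    intro u hu v hv huv
    have h1 := TwoFusion.CyclicAut.zpowers_eq_of_orderOf_eq (C := zpowers c) ⟨u, hu⟩ ⟨v, hv⟩
      (by rw [orderOf_mk, orderOf_mk]; exact huv)
    have h2 : (⟨u, hu⟩ : zpowers c) ∈ zpowers (⟨v, hv⟩ : zpowers c) := by rw [← h1]; exact mem_zpowers _
    obtain ⟨s, hs⟩ := mem_zpowers_iff.1 h2
    exact ⟨s, congrArg Subtype.val hs⟩
  -- images of elements with one trivial entry
  have hinj : ∀ b : Pa K α β, IsB P D2 b → ∀ k : α ⊕ β, ent b k = 1 → ∀ s : ℤ, md.Ψ (J b) ^ s = 1 → ∀ l, ent b l ^ s = 1 := by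
    intro b hb k hk s hs l
    obtain ⟨e1, e2⟩ := hpow b hb s
    rw [e1, (md.ker _ e2.mem)] at hs
    obtain ⟨d, hd⟩ := hs
    have h1 : J (b ^ s) = sc d * J (1 : Pa K α β) := by rw [hd, map_one, mul_one]
    have h2 := J_eq_sc_mul h1
    have h4 := h2 k
    rw [entpow, hk, one_zpow, ent_one, mul_one] at h4
    have h5 := h2 l
    rw [entpow, ent_one, mul_one, ← h4] at h5
    exact h5
  have hord1 : ∀ b : Pa K α β, IsB P D2 b → ∀ k : α ⊕ β, ent b k = 1 → ∀ l, orderOf (ent b l) ∣ orderOf (md.Ψ (J b)) := by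
    intro b hb k hk l
    have h1 := hinj b hb k hk (orderOf (md.Ψ (J b))) (by rw [zpow_natCast, pow_orderOf_eq_one]) l
    rw [zpow_natCast] at h1
    exact orderOf_dvd_of_pow_eq_one h1
  have hord2 : ∀ b : Pa K α β, IsB P D2 b → ∀ n : ℕ, (∀ l, ent b l ^ n = 1) → orderOf (md.Ψ (J b)) ∣ n := by
    intro b hb n hn
    apply orderOf_dvd_of_pow_eq_one
    have h1 := (hpow b hb n).1
    rw [zpow_natCast, zpow_natCast] at h1
    rw [h1]
    have h2 : b ^ n = 1 := ext_ent fun l => by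
      have := entpow b n l
      rw [zpow_natCast, zpow_natCast] at this
      rw [this, hn, ent_one]
    rw [h2, map_one, md.one]
  have hπ1 : π = 1 := by
    by_contra hne
    obtain ⟨i, hi⟩ : ∃ i, π i ≠ i := by
      by_contra hcon
      push Not at hcon
      exact hne (Equiv.ext hcon)
    obtain ⟨e1, e2, e3⟩ := comm_sg p hi c0
    obtain ⟨k, hk1, hk2⟩ := h3 (Sum.inl i) (Sum.inl (π i))
    have hB0 : IsB M D2 (sg (β := β) i c0) := isB_sg h.c0M h.c0det
    have hvB : IsB P D2 (cj p π (sg i c0) * (sg i c0)⁻¹) := (cj_isB hp hπ (hB0.mono h.MP)).mul (hB0.mono h.MP).inv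
    set v := cj p π (sg i c0) * (sg i c0)⁻¹ with hv
    have hvc : md.Ψ (J v) ∈ zpowers c := key _ hB0
    have hvord : orderOf (md.Ψ (J v)) = orderOf c := by
      rw [hcord]
      apply Nat.dvd_antisymm
      · refine hord2 v hvB _ fun l => ?_
        by_cases hl1 : l = Sum.inl i
        · rw [hl1, e2, inv_pow, pow_orderOf_eq_one, inv_one]
        · by_cases hl2 : l = Sum.inl (π i)
          · rw [hl2, e1, conj_pow, pow_orderOf_eq_one, mul_one, mul_inv_cancel]
          · rw [e3 l hl1 hl2, one_pow]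
      · have := hord1 v hvB k (e3 k hk1 hk2) (Sum.inl i)
        rwa [e2, orderOf_inv] at this
    have hall : ∀ b, IsB M D2 b → ∃ (d : Kˣ) (s : ℤ), ∀ l, ent (cj p π b * b⁻¹) l = sc d * ent v l ^ s := by
      intro b hb
      have h1 : zpowers c ≤ zpowers (md.Ψ (J v)) := by
        rw [zpowers_le]
        exact hzp _ (mem_zpowers c) _ hvc hvord.symm
      obtain ⟨s, hs⟩ := mem_zpowers_iff.1 (h1 (key b hb))
      rw [(hpow v hvB s).1] at hs
      obtain ⟨d, hd⟩ := md.ent_eq ((cj_isB hp hπ (hb.mono h.MP)).mul (hb.mono h.MP).inv) (hpow v hvB s).2 hs.symm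
      refine ⟨d, s, fun l => ?_⟩
      rw [hd l, entpow]
    by_cases hii : π (π i) = i
    · obtain ⟨δ, hδ, hδn⟩ := h.nonsq
      obtain ⟨x, hx, hxd⟩ := h.dsurj δ hδ
      obtain ⟨b, hb, hb1, hb2⟩ := exists_A h hk1 hx
      obtain ⟨d, s, hds⟩ := hall b hb
      have h1 := hds (Sum.inl i)
      have h2 : π⁻¹ i = π i := by rw [Perm.inv_eq_iff_eq, hii]
      rw [ent_mul, ent_inv, cj_inl, h2, hb2 _ (fun h => hi (Sum.inl.inj h)) (Ne.symm hk2), mul_one, mul_inv_cancel, one_mul,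
        hb1, e2] at h1
      have h0 : d ∈ D2 := by
        refine h.sc_P d ?_
        have h5 : sc d = x⁻¹ * (c0⁻¹ ^ s)⁻¹ := by
          rw [h1, mul_inv_cancel_right]
        rw [h5]
        exact P.mul_mem (P.inv_mem (h.MP hx)) (P.inv_mem (P.zpow_mem (P.inv_mem h.c0P) _))
      have h4 := congrArg LinearEquiv.det h1
      rw [map_inv, map_mul, map_zpow, map_inv, h.c0det, inv_one, one_zpow, mul_one, det_sc2, hxd] at h4
      apply hδn d⁻¹ (D2.inv_mem h0)
      rw [← mul_inv, ← h4, inv_inv]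
    · obtain ⟨d, s, hds⟩ := hall (sg (π i) c0) (isB_sg h.c0M h.c0det)
      have hj : π (π i) ≠ π i := fun h1 => hi (π.injective h1)
      obtain ⟨g1, g2, g3⟩ := comm_sg p hj c0
      have h1 := hds (Sum.inl (π (π i)))
      rw [g1, e3 _ (fun h => hii (Sum.inl.inj h)) (fun h => hj (Sum.inl.inj h)), one_zpow, mul_one] at h1
      exact h.c0ns (conj_sc h1)
  subst hπ1
  by_cases hall : ∀ i, p.1 i ∈ M
  · left
    exact ⟨p, ⟨hall, hp.2.1, hp.2.2⟩, by rw [map_one, mul_one]⟩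
  push Not at hall
  obtain ⟨j, hj⟩ := hall
  -- the commutator with `sg i c0`
  have hcs : ∀ i, p.1 i ∉ M → md.Ψ (J (sg i (c0⁻¹ * c0⁻¹))) ∈ zpowers c := by
    intro i hi
    have h1 := key (sg i c0) (isB_sg h.c0M h.c0det)
    have h2 : cj p 1 (sg i c0) * (sg i c0)⁻¹ = sg i (c0⁻¹ * c0⁻¹) := by
      rw [cj_sg, Perm.one_apply, h.inv _ (hp.1 i) hi, sg_mul, sg_inv]
    rwa [h2] at h1
  have honly : ∀ i, i ≠ j → p.1 i ∈ M := by
    intro i hij
    by_contra hi
    obtain ⟨k, hk1, hk2⟩ := h3 (Sum.inl i) (Sum.inl j)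
    have hd : LinearEquiv.det (c0⁻¹ * c0⁻¹) = 1 := by rw [map_mul, map_inv, h.c0det]; simp
    have hcP : c0⁻¹ * c0⁻¹ ∈ P := P.mul_mem (P.inv_mem h.c0P) (P.inv_mem h.c0P)
    have hBi : ∀ i : α, IsB P D2 (sg (β := β) i (c0⁻¹ * c0⁻¹)) := fun i => isB_sg hcP hd
    have ho : ∀ i : α, (Sum.inl i : α ⊕ β) ≠ k →
        orderOf (md.Ψ (J (sg (β := β) i (c0⁻¹ * c0⁻¹)))) = orderOf (c0⁻¹ * c0⁻¹) := by
      intro i hik
      apply Nat.dvd_antisymm
      · refine hord2 _ (hBi i) _ fun l => ?_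
        by_cases hl : l = Sum.inl i
        · rw [hl, sg_same, pow_orderOf_eq_one]
        · rw [sg_ne hl, one_pow]
      · have := hord1 _ (hBi i) k (sg_ne (Ne.symm hik) _) (Sum.inl i)
        rwa [sg_same] at this
    have h1 := hzp _ (hcs i hi) _ (hcs j hj) (by rw [ho i (Ne.symm hk1), ho j (Ne.symm hk2)])
    obtain ⟨s, hs⟩ := mem_zpowers_iff.1 h1
    rw [(hpow _ (hBi j) s).1] at hs
    obtain ⟨d, hd⟩ := md.ent_eq (hBi i) (hpow _ (hBi j) s).2 hs.symm
    have h4 := hd k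
    rw [sg_ne hk1, entpow, sg_ne hk2, one_zpow, mul_one] at h4
    have h5 := hd (Sum.inl i)
    rw [sg_same, entpow, sg_ne (fun h => hij (Sum.inl.inj h)), one_zpow, mul_one, ← h4, ← mul_inv_rev, inv_eq_one] at h5
    exact h.c0sq h5
  right
  refine ⟨j, md.Ψ (J (sg j t0⁻¹ * p)), ⟨sg j t0⁻¹ * p, ⟨fun i => ?_, fun j' => ?_, ?_⟩, rfl⟩, ?_⟩
  · change ent (sg (β := β) j t0⁻¹) (Sum.inl i) * p.1 i ∈ M
    by_cases hij : i = j
    · subst hij
      rw [sg_same]
      exact h.two _ (P.inv_mem h.t0P) _ (hp.1 i) (fun h1 => h.t0M (M.inv_mem_iff.1 h1)) hj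
    · rw [sg_ne (fun h => hij (Sum.inl.inj h)), one_mul]
      exact honly i hij
  · exact D2.mul_mem D2.one_mem (hp.2.1 j')
  · rw [map_mul, map_mul, det_sg, map_inv, h.t0det, hp.2.2]; simp
  · have hB1 : IsB P D2 (sg (β := β) j t0) := isB_sg h.t0P h.t0det
    have hB2 : IsB P D2 (sg (β := β) j t0⁻¹) := isB_sg (P.inv_mem h.t0P) (by rw [map_inv, h.t0det, inv_one])
    rw [← md.Jmul hB1 (hB2.mul hp), ← mul_assoc, ← sg_mul, mul_inv_cancel, sg_one, one_mul, map_one, mul_one]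

end Mod

end Cfsg.Agent.H763.Psa
end

-- part: H763/PsaAsm
section
/-!
# Odd automorphisms of the Sylow 2-subgroups of `PSL_n(q)`: assembly (helper763, S5174)
-/

set_option autoImplicit false
set_option linter.unusedVariables false
set_option linter.unusedSectionVars false

namespace Cfsg.Agent.H763.Psa

open Subgroup Equiv
open Cfsg.Agent.FooteOdd

variable {K : Type*} [Field K] {α β : Type*} [Fintype α] [DecidableEq α] [Fintype β] [DecidableEq β]
variable {P M : Subgroup (G2 K)} {D2 : Subgroup Kˣ} {c0 t0 : G2 K} {Q : Subgroup (Perm α)} {S : Type*} [Group S]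

theorem PDat.conj_c0 (h : PDat P M D2 c0 t0) {f : G2 K} (hf : f ∈ P) : f * c0 * f⁻¹ = c0 ∨ f * c0 * f⁻¹ = c0⁻¹ := by
  by_cases hfM : f ∈ M
  · left
    rw [h.comm f hfM c0 h.c0M, mul_inv_cancel_right]
  · exact Or.inr (h.inv f hf hfM)

theorem PDat.sc_mem_P (h : PDat P M D2 c0 t0) {d : Kˣ} (hd : sc d ∈ P) : d ∈ D2 := h.sc_P d hd

namespace Mod

variable (md : Mod α β P D2 Q S)

/-- the elements `t j` -/
def t (md : Mod α β P D2 Q S) (t0 : G2 K) (j : α) : S := md.Ψ (J (sg j t0))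

theorem zpow_sg {x : G2 K} (hx : x ∈ P) (hd : LinearEquiv.det x = 1) (i : α) (n : ℤ) :
    md.Ψ (J (sg i x)) ^ n = md.Ψ (J (sg i (x ^ n))) := by
  let f : ↥(P ⊓ (LinearEquiv.det : G2 K →* Kˣ).ker) →* S :=
    { toFun := fun x => md.Ψ (J (sg i (x : G2 K)))
      map_one' := by
        change md.Ψ (J (sg i 1)) = 1
        rw [sg_one, map_one, md.one]
      map_mul' := fun x y => by
        change md.Ψ (J (sg i ((x : G2 K) * y))) = _
        rw [sg_mul, md.Jmul (isB_sg x.2.1 x.2.2) (isB_sg y.2.1 y.2.2)] }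
  exact ((map_zpow f ⟨x, hx, hd⟩ n).symm :)

/-- the commutators with `t j` -/
theorem comm_t (h : PDat P M D2 c0 t0) (j : α) {a : Pa K α β} (ha : IsB M D2 a) :
    md.t t0 j * md.Ψ (J a) * (md.t t0 j)⁻¹ * (md.Ψ (J a))⁻¹ = md.Ψ (J (sg j (t0 * a.1 j * t0⁻¹ * (a.1 j)⁻¹))) := by
  have hB : IsB P D2 (sg (β := β) j t0) := isB_sg h.t0P h.t0det
  have h1 := md.comm_eq hB (one_mem Q) (ha.mono h.MP)
  rw [map_one, mul_one] at h1
  rw [t, h1]
  congr 2
  apply ext_ent
  intro l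
  by_cases hl : l = Sum.inl j
  · subst hl
    rw [ent_mul, ent_inv, cj_inl, sg_same, inv_one, Perm.one_apply]
    change ent (sg (β := β) j t0) (Sum.inl j) * a.1 j * (ent (sg (β := β) j t0) (Sum.inl j))⁻¹ * (a.1 j)⁻¹ = _
    rw [sg_same]
  · rw [ent_mul, ent_inv, sg_ne hl]
    rcases l with l | l
    · rw [cj_inl, inv_one, Perm.one_apply]
      change ent (sg (β := β) j t0) (Sum.inl l) * a.1 l * (ent (sg (β := β) j t0) (Sum.inl l))⁻¹ * (a.1 l)⁻¹ = _
      rw [sg_ne hl, inv_one, one_mul, mul_one, mul_inv_cancel]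
    · rw [cj_inr, mul_inv_cancel]

theorem hcomm (h : PDat P M D2 c0 t0) : ∀ a ∈ md.A h.MP, ∀ b ∈ md.A h.MP, a * b = b * a := by
  rintro _ ⟨a, ha, rfl⟩ _ ⟨b, hb, rfl⟩
  rw [← md.Jmul (ha.mono h.MP) (hb.mono h.MP), ← md.Jmul (hb.mono h.MP) (ha.mono h.MP)]
  congr 2
  exact Prod.ext (funext fun i => h.comm _ (ha.1 i) _ (hb.1 i)) (mul_comm _ _)

theorem hnorm (h : PDat P M D2 c0 t0) : ∀ s : S, ∀ a ∈ md.A h.MP, s * a * s⁻¹ ∈ md.A h.MP := by
  rintro s _ ⟨a, ha, rfl⟩
  obtain ⟨g, hg, rfl⟩ := md.surj s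
  obtain ⟨p, π, hπ, hp, rfl⟩ := exists_of_mem hg
  rw [md.conj_eq hp hπ (ha.mono h.MP)]
  have h1 := cj_isB hp hπ (ha.mono h.MP)
  exact ⟨_, ⟨fun i => h.conj (hp.1 i) (ha.1 _), h1.2.1, h1.2.2⟩, rfl⟩

/-- an element commuting with the `c j` is in `A` -/
theorem hcent (h : PDat P M D2 c0 t0) (h2 : ∀ l : α ⊕ β, ∃ k, k ≠ l) (s : S)
    (hs : ∀ j, s * md.t c0 j = md.t c0 j * s) : s ∈ md.A h.MP := by
  obtain ⟨g, hg, rfl⟩ := md.surj s
  obtain ⟨p, π, hπ, hp, rfl⟩ := exists_of_mem hg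
  have hB : ∀ j : α, IsB P D2 (sg (β := β) j c0) := fun j => isB_sg h.c0P h.c0det
  have key : ∀ j, ∃ d : Kˣ, ∀ l, ent (cj p π (sg j c0)) l = sc d * ent (sg j c0) l := by
    intro j
    refine md.ent_eq (cj_isB hp hπ (hB j)) (hB j) ?_
    rw [← md.conj_eq hp hπ (hB j)]
    exact mul_inv_eq_iff_eq_mul.2 (hs j)
  have hπ1 : π = 1 := by
    refine Equiv.ext fun j => ?_
    rw [Perm.one_apply]
    by_contra hj
    obtain ⟨d, hd⟩ := key j
    have h1 := hd (Sum.inl j)
    rw [cj_sg, sg_ne (fun h => hj (Sum.inl.inj h).symm), sg_same] at h1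
    have h3 : c0 = sc d⁻¹ := by
      rw [← sc_inv, eq_inv_iff_mul_eq_one, ← sc_comm]
      exact h1.symm
    exact h.c0ns h3
  subst hπ1
  refine ⟨p, ⟨fun j => ?_, hp.2.1, hp.2.2⟩, by rw [map_one, mul_one]⟩
  by_contra hj
  obtain ⟨d, hd⟩ := key j
  obtain ⟨k, hk⟩ := h2 (Sum.inl j)
  have h1 := hd k
  rw [cj_sg, Perm.one_apply, sg_ne hk, sg_ne hk, mul_one] at h1
  have h3 := hd (Sum.inl j)
  rw [cj_sg, Perm.one_apply, sg_same, sg_same, ← h1, one_mul, h.inv _ (hp.1 j) hj] at h3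
  exact h.c0sq (inv_eq_iff_mul_eq_one.1 h3)

/-- the involutions of `A` commuting with the `t j` -/
theorem hinv [Nonempty α] [Subsingleton β] (two : (2 : K) ≠ 0) (h : PDat P M D2 c0 t0) (h2 : ∀ l : α ⊕ β, ∃ k, k ≠ l) :
    ∀ z ∈ md.A h.MP, z * z = 1 → (∀ j, z * md.t t0 j = md.t t0 j * z) → z ∈ _root_.Subgroup.closure (Set.range (md.t c0)) := by
  rintro _ ⟨a, ha, rfl⟩ hz hzt
  have haP := ha.mono h.MP
  -- the entries in `α` are scalars
  have h1 : ∀ j, ∃ d : Kˣ, a.1 j = sc d := by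
    intro j
    have hB : IsB P D2 (sg (β := β) j t0) := isB_sg h.t0P h.t0det
    have h3 := md.comm_t h j ha
    rw [← hzt j, mul_inv_cancel_right, mul_inv_cancel] at h3
    have hc : IsB P D2 (sg (β := β) j (t0 * a.1 j * t0⁻¹ * (a.1 j)⁻¹)) := by
      refine isB_sg (P.mul_mem (P.mul_mem (P.mul_mem h.t0P (haP.1 j)) (P.inv_mem h.t0P)) (P.inv_mem (haP.1 j))) ?_
      rw [map_mul, map_mul, map_mul, map_inv, map_inv]
      rw [mul_comm (LinearEquiv.det t0), mul_inv_cancel_right, mul_inv_cancel]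
    obtain ⟨d, hd⟩ := (md.ker _ hc.mem).1 h3.symm
    have h4 : J (sg (β := β) j (t0 * a.1 j * t0⁻¹ * (a.1 j)⁻¹)) = sc d * J (1 : Pa K α β) := by rw [hd, map_one, mul_one]
    have h5 := J_eq_sc_mul h4
    obtain ⟨k, hk⟩ := h2 (Sum.inl j)
    have h6 := h5 k
    rw [sg_ne hk, ent_one, mul_one] at h6
    have h7 := h5 (Sum.inl j)
    rw [sg_same, ent_one, ← h6, mul_one, mul_inv_eq_one, mul_inv_eq_iff_eq_mul] at h7
    exact h.fix t0 h.t0P h.t0M _ (ha.1 j) h7
  choose e he using h1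
  -- the square is a scalar
  obtain ⟨c, hc⟩ : ∃ c : Kˣ, ∀ l, ent a l * ent a l = sc c := by
    rw [← md.Jmul haP haP] at hz
    obtain ⟨c, hc⟩ := (md.ker _ (haP.mul haP).mem).1 hz
    have h4 : J (a * a) = sc c * J (1 : Pa K α β) := by rw [hc, map_one, mul_one]
    refine ⟨c, fun l => ?_⟩
    have h5 := J_eq_sc_mul h4 l
    rwa [ent_mul, ent_one, mul_one] at h5
  have he2 : ∀ i, e i * e i = c := by
    intro i
    have := hc (Sum.inl i)
    rw [ent_inl, he, ← sc_mul] at this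
    exact sc_inj this
  have hb2 : ∀ j, a.2 j * a.2 j = c := by
    intro j
    have := hc (Sum.inr j)
    rw [ent_inr, ← sc_mul] at this
    exact sc_inj this
  obtain ⟨ν, hν, hνb⟩ : ∃ ν : Kˣ, ν * ν = c ∧ ∀ j, a.2 j = ν := by
    rcases isEmpty_or_nonempty β with hβ | ⟨⟨j⟩⟩
    · obtain ⟨i⟩ := ‹Nonempty α›
      exact ⟨e i, he2 i, fun j => (hβ.false j).elim⟩
    · exact ⟨a.2 j, hb2 j, fun j' => by rw [Subsingleton.elim j' j]⟩
  -- the signs
  have hε : ∀ i, e i * ν⁻¹ = 1 ∨ e i * ν⁻¹ = -1 := by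
    intro i
    have h3 : ((e i * ν⁻¹ : Kˣ) : K) * ((e i * ν⁻¹ : Kˣ) : K) = 1 := by
      rw [← Units.val_mul, mul_mul_mul_comm, he2, ← mul_inv, hν, mul_inv_cancel, Units.val_one]
    rcases mul_self_eq_one_iff.1 h3 with h4 | h4
    · exact Or.inl (Units.ext (by rw [h4, Units.val_one]))
    · exact Or.inr (Units.ext (by rw [h4, Units.val_neg, Units.val_one]))
  set b : Pa K α β := (fun i => sc (e i * ν⁻¹), 1) with hb
  have hab : J a = sc ν * J b := by
    rw [sc_eq_J, ← map_mul]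
    congr 1
    refine Prod.ext (funext fun i => ?_) (funext fun j => ?_)
    · change a.1 i = sc ν * sc (e i * ν⁻¹)
      rw [he, ← sc_mul, mul_comm (e i), mul_inv_cancel_left]
    · change a.2 j = ν * 1
      rw [mul_one, hνb]
  obtain ⟨k0, hk0⟩ := h.neg
  -- each sign is a power of `c0`
  have hs : ∀ i, ∃ m : ℤ, sc (e i * ν⁻¹) = c0 ^ m := by
    intro i
    rcases hε i with h4 | h4
    · exact ⟨0, by rw [h4, sc_one, zpow_zero]⟩
    · exact ⟨k0, by rw [h4, hk0]⟩
  choose m hm using hs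
  have hB : ∀ x : α → Multiplicative ℤ, IsB P D2 ((fun i => c0 ^ (x i).toAdd, 1) : Pa K α β) := by
    intro x
    refine ⟨fun i => P.zpow_mem h.c0P _, fun j => D2.one_mem, ?_⟩
    rw [det_J]
    simp only [map_zpow, h.c0det, _root_.one_zpow, _root_.Finset.prod_const_one, _root_.Pi.one_apply, _root_.mul_one]
  let φ : (α → Multiplicative ℤ) →* S :=
    { toFun := fun x => md.Ψ (J (fun i => c0 ^ (x i).toAdd, 1))
      map_one' := by
        have : ((fun i => c0 ^ ((1 : α → Multiplicative ℤ) i).toAdd, 1) : Pa K α β) = 1 := by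
          refine Prod.ext (funext fun i => ?_) rfl
          change c0 ^ (0 : ℤ) = 1
          exact zpow_zero _
        rw [this, map_one, md.one]
      map_mul' := fun x y => by
        rw [← md.Jmul (hB x) (hB y)]
        congr 2
        refine Prod.ext (funext fun i => ?_) (mul_one _).symm
        change c0 ^ ((x i).toAdd + (y i).toAdd) = c0 ^ (x i).toAdd * c0 ^ (y i).toAdd
        exact zpow_add _ _ _ }
  have hφ : (fun i => Multiplicative.ofAdd (m i)) ∈ (_root_.Subgroup.closure (Set.range (md.t c0))).comap φ := by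
    refine pi_mem_of_mulSingle_mem _ fun i => ?_
    change φ (Pi.mulSingle i (Multiplicative.ofAdd (m i))) ∈ closure (Set.range (md.t c0))
    have h3 : φ (Pi.mulSingle i (Multiplicative.ofAdd (m i))) = md.t c0 i ^ m i := by
      rw [t, md.zpow_sg h.c0P h.c0det]
      change md.Ψ (J _) = _
      congr 2
      refine Prod.ext (funext fun i' => ?_) rfl
      change c0 ^ ((Pi.mulSingle i (Multiplicative.ofAdd (m i)) : α → Multiplicative ℤ) i').toAdd = (Pi.mulSingle i (c0 ^ m i) : α → G2 K) i'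
      by_cases hi : i' = i
      · subst hi
        rw [Pi.mulSingle_eq_same, Pi.mulSingle_eq_same]
        rfl
      · rw [Pi.mulSingle_eq_of_ne hi, Pi.mulSingle_eq_of_ne hi]
        exact zpow_zero _
    rw [h3]
    exact zpow_mem (_root_.Subgroup.subset_closure (Set.mem_range_self i)) _
  have hφb : φ (fun i => Multiplicative.ofAdd (m i)) = md.Ψ (J a) := by
    have h3 : φ (fun i => Multiplicative.ofAdd (m i)) = md.Ψ (J b) := by
      change md.Ψ (J _) = _
      congr 2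
      exact Prod.ext (funext fun i => (hm i).symm) rfl
    rw [h3, eq_comm, md.eq_iff haP.mem]
    · exact ⟨ν, hab⟩
    · have h4 := (hB fun i => Multiplicative.ofAdd (m i)).mem (Q := Q)
      have h5 : ((fun i => c0 ^ ((fun i => Multiplicative.ofAdd (m i)) i : Multiplicative ℤ).toAdd, 1) : Pa K α β) = b :=
        Prod.ext (funext fun i => (hm i).symm) rfl
      rwa [h5] at h4
  rw [← hφb]
  exact hφ

theorem t_mem_A (h : PDat P M D2 c0 t0) (j : α) : md.t c0 j ∈ md.A h.MP := ⟨_, isB_sg h.c0M h.c0det, rfl⟩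

/-- **The automorphism is trivial if it fixes `A` and the cosets `t j * A`.** -/
theorem eq_one_of_fix [Nonempty α] [Subsingleton β] [Finite S] (hS : IsPGroup 2 S) (two : (2 : K) ≠ 0) (h : PDat P M D2 c0 t0)
    (h2 : ∀ l : α ⊕ β, ∃ k, k ≠ l) {φ : MulAut S} {k : ℕ} (hk : Odd k) (hφ : φ ^ k = 1)
    (hA : ∀ a ∈ md.A h.MP, φ a ∈ md.A h.MP) (ht : ∀ j, ∃ a ∈ md.A h.MP, φ (md.t t0 j) = md.t t0 j * a) : φ = 1 := by
  refine eq_one_of_cosets hS hk hφ (md.A h.MP) (md.hcomm h) hA (md.t t0) (md.t c0) ht ?_ ?_ ?_ (fun s hs => md.hcent h h2 s hs)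
    (md.hinv two h h2)
  · rintro j _ ⟨a, ha, rfl⟩
    rw [md.comm_t h j ha]
    have h1 : t0 * a.1 j * t0⁻¹ * (a.1 j)⁻¹ ∈ zpowers c0 := by
      refine h.c0gen _ (M.mul_mem (h.conj h.t0P (ha.1 j)) (M.inv_mem (ha.1 j))) ?_
      rw [map_mul, map_mul, map_mul, map_inv, map_inv, mul_comm (LinearEquiv.det t0), mul_inv_cancel_right, mul_inv_cancel]
    obtain ⟨n, hn⟩ := mem_zpowers_iff.1 h1
    rw [← hn, ← md.zpow_sg h.c0P h.c0det]
    exact zpow_mem (mem_zpowers _) _
  · intro j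
    obtain ⟨g, hg, hgc⟩ := h.usurj _ h.t0P h.t0M
    obtain ⟨k, hk⟩ := h2 (Sum.inl j)
    obtain ⟨a, ha, ha1, ha2⟩ := exists_A h hk hg
    refine ⟨_, ⟨a, ha, rfl⟩, ?_⟩
    rw [md.comm_t h j ha]
    have : a.1 j = g := ha1
    rw [this, hgc]
    rfl
  · intro s j
    obtain ⟨g, hg, rfl⟩ := md.surj s
    obtain ⟨p, π, hπ, hp, rfl⟩ := exists_of_mem hg
    refine ⟨π j, ?_⟩
    change md.Ψ (J p * bp π) * md.Ψ (J (sg j c0)) * (md.Ψ (J p * bp π))⁻¹ ∈ zpowers (md.Ψ (J (sg (π j) c0)))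
    rw [md.conj_eq hp hπ (isB_sg h.c0P h.c0det), cj_sg]
    rcases h.conj_c0 (hp.1 (π j)) with h1 | h1
    · rw [h1]
      exact mem_zpowers _
    · rw [h1]
      have := md.zpow_sg h.c0P h.c0det (π j) (-1)
      rw [zpow_neg_one c0] at this
      rw [← this]
      exact zpow_mem (mem_zpowers _) _

/-- the permutation of the blocks -/
theorem exists_perm : ∃ ρ : S →* Perm α, ρ.range = Q ∧
    ∀ (p : Pa K α β) (π : Perm α), IsB P D2 p → π ∈ Q → ρ (md.Ψ (J p * bp π)) = π := by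
  have hex : ∀ s : S, ∃ π : Perm α, π ∈ Q ∧ ∃ p : Pa K α β, IsB P D2 p ∧ md.Ψ (J p * bp π) = s := by
    intro s
    obtain ⟨g, hg, rfl⟩ := md.surj s
    obtain ⟨p, π, hπ, hp, rfl⟩ := exists_of_mem hg
    exact ⟨π, hπ, p, hp, rfl⟩
  choose f hf hf' using hex
  have huniq : ∀ (p : Pa K α β) (π : Perm α), IsB P D2 p → π ∈ Q → f (md.Ψ (J p * bp π)) = π := by
    intro p π hp hπ
    obtain ⟨p', hp', h1⟩ := hf' (md.Ψ (J p * bp π))
    exact md.perm_eq hp' hp (hf _) hπ h1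
  refine ⟨MonoidHom.mk' f ?_, ?_, huniq⟩
  · intro s s'
    obtain ⟨p, hp, h1⟩ := hf' s
    obtain ⟨p', hp', h2⟩ := hf' s'
    set π := f s with hπ
    set π' := f s' with hπ'
    have hπQ : π ∈ Q := hf s
    have hπQ' : π' ∈ Q := hf s'
    have h3 : s * s' = md.Ψ (J (p * cj 1 π p') * bp (π * π')) := by
      rw [← h1, ← h2, ← md.mul _ (mem_St hp hπQ) _ (mem_St hp' hπQ')]
      congr 1
      have h4 := cj_spec (K := K) (β := β) 1 π p'
      rw [map_one, one_mul] at h4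
      have h5 : (bp (π * π') : (Ix α β → K) ≃ₗ[K] (Ix α β → K)) = bp π * bp π' := map_mul _ _ _
      rw [map_mul, ← h4, h5]
      group
    rw [h3]
    exact huniq _ _ (hp.mul (cj_isB IsB.one hπQ hp')) (Q.mul_mem hπQ hπQ')
  · ext π
    constructor
    · rintro ⟨s, rfl⟩
      exact hf s
    · intro hπ
      refine ⟨md.Ψ (J 1 * bp π), huniq _ _ IsB.one hπ⟩

/-- the order of the image of an element with one entry -/
theorem sg_eq_one (h2 : ∀ l : α ⊕ β, ∃ k, k ≠ l) {j : α} {x : G2 K} (hx : x ∈ P) (hd : LinearEquiv.det x = 1)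
    (h1 : md.Ψ (J (sg j x)) = 1) : x = 1 := by
  obtain ⟨k, hk⟩ := h2 (Sum.inl j)
  have hB : IsB P D2 (sg (β := β) j x) := isB_sg hx hd
  obtain ⟨d, hd'⟩ := (md.ker _ hB.mem).1 h1
  have h4 : J (sg (β := β) j x) = sc d * J (1 : Pa K α β) := by rw [hd', map_one, mul_one]
  have h5 := J_eq_sc_mul h4
  have h6 := h5 k
  rw [sg_ne hk, ent_one, mul_one] at h6
  have h7 := h5 (Sum.inl j)
  rwa [sg_same, ent_one, ← h6, mul_one] at h7

theorem orderOf_sg (h2 : ∀ l : α ⊕ β, ∃ k, k ≠ l) (j : α) {x : G2 K} (hx : x ∈ P) (hd : LinearEquiv.det x = 1) :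
    orderOf (md.Ψ (J (sg j x))) = orderOf x := by
  apply Nat.dvd_antisymm
  · apply orderOf_dvd_of_pow_eq_one
    have := md.zpow_sg hx hd j (orderOf x)
    rw [zpow_natCast, zpow_natCast, pow_orderOf_eq_one, sg_one, map_one, md.one] at this
    exact this
  · apply orderOf_dvd_of_pow_eq_one
    have := md.zpow_sg hx hd j (orderOf (md.Ψ (J (sg j x))))
    rw [zpow_natCast, zpow_natCast, pow_orderOf_eq_one] at this
    exact md.sg_eq_one h2 (P.pow_mem hx _) (by rw [map_pow, hd, one_pow]) this.symm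

theorem t_notMem (h : PDat P M D2 c0 t0) (h2 : ∀ l : α ⊕ β, ∃ k, k ≠ l) (j : α) : md.t t0 j ∉ md.A h.MP := by
  intro h1
  have h4 := md.comm_t h j (isB_sg (i := j) h.c0M h.c0det : IsB M D2 (sg (β := β) j c0))
  have h5 := md.hcomm h _ h1 _ (md.t_mem_A h j)
  change md.t t0 j * md.t c0 j * (md.t t0 j)⁻¹ * (md.t c0 j)⁻¹ = _ at h4
  rw [h5, mul_inv_cancel_right, mul_inv_cancel] at h4
  have h6 : (sg (β := β) j c0).1 j = c0 := sg_same (β := β) j c0
  rw [h6, h.inv t0 h.t0P h.t0M] at h4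
  have h7 := md.sg_eq_one h2 (P.mul_mem (P.inv_mem h.c0P) (P.inv_mem h.c0P)) (by rw [map_mul, map_inv, h.c0det]; simp) h4.symm
  rw [← mul_inv_rev, inv_eq_one] at h7
  exact h.c0sq h7

include md in
/-- **At least three places.** -/
theorem eq_one_five [Nonempty α] [Subsingleton β] [Finite S] (hS : IsPGroup 2 S) (two : (2 : K) ≠ 0) (h : PDat P M D2 c0 t0)
    (QS : Sylow 2 (Perm α)) (hQS : (QS : Subgroup (Perm α)) = Q)
    (h3 : ∀ l l' : α ⊕ β, ∃ k, k ≠ l ∧ k ≠ l') {φ : MulAut S} {k : ℕ} (hk : Odd k) (hφ : φ ^ k = 1) : φ = 1 := by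
  have h2 : ∀ l : α ⊕ β, ∃ k, k ≠ l := fun l => by
    obtain ⟨k, hk, _⟩ := h3 l l
    exact ⟨k, hk⟩
  have hA : ∀ a ∈ md.A h.MP, φ a ∈ md.A h.MP := by
    intro a ha
    have hn : ((md.A h.MP).map φ.toMonoidHom).Normal := by
      refine ⟨?_⟩
      rintro _ ⟨x, hx, rfl⟩ g
      refine ⟨φ⁻¹ g * x * (φ⁻¹ g)⁻¹, md.hnorm h _ _ hx, ?_⟩
      change φ (φ⁻¹ g * x * (φ⁻¹ g)⁻¹) = g * φ x * g⁻¹
      rw [map_mul, map_mul, map_inv, MulAut.apply_inv_self]
    refine md.le_A h h3 _ hn ?_ ⟨a, ha, rfl⟩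
    rintro _ ⟨x, hx, rfl⟩ _ ⟨y, hy, rfl⟩
    change φ x * φ y = φ y * φ x
    rw [← map_mul, ← map_mul, md.hcomm h x hx y hy]
  refine md.eq_one_of_fix hS two h h2 hk hφ hA ?_
  obtain ⟨ρ, hρ, hρ'⟩ := md.exists_perm
  refine coset_fix hk hφ (md.A h.MP) hA (md.hnorm h) (md.t t0) ρ QS (by rw [hρ, hQS]) ?_ ?_ ?_
  · intro s j
    obtain ⟨g, hg, rfl⟩ := md.surj s
    obtain ⟨p, π, hπ, hp, rfl⟩ := exists_of_mem hg
    rw [hρ' p π hp hπ]
    have hB : ∀ (x : G2 K), x ∈ P → LinearEquiv.det x = 1 → IsB P D2 (sg (β := β) (π j) x) := fun x hx hd => isB_sg hx hd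
    have hx : p.1 (π j) * t0 * (p.1 (π j))⁻¹ ∈ P := P.mul_mem (P.mul_mem (hp.1 _) h.t0P) (P.inv_mem (hp.1 _))
    have hxd : LinearEquiv.det (p.1 (π j) * t0 * (p.1 (π j))⁻¹) = 1 := by
      rw [map_mul, map_mul, map_inv, h.t0det, mul_one, mul_inv_cancel]
    have ht' : t0⁻¹ ∈ P := P.inv_mem h.t0P
    have hd' : LinearEquiv.det t0⁻¹ = 1 := by rw [map_inv, h.t0det, inv_one]
    refine ⟨md.Ψ (J (sg (π j) (t0⁻¹ * (p.1 (π j) * t0 * (p.1 (π j))⁻¹)))), ⟨_, isB_sg ?_ ?_, rfl⟩, ?_⟩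
    · refine h.two _ ht' _ hx (fun h1 => h.t0M (M.inv_mem_iff.1 h1)) fun h1 => h.t0M ?_
      have h4 := h.conj (P.inv_mem (hp.1 (π j))) h1
      have h5 : (p.1 (π j))⁻¹ * (p.1 (π j) * t0 * (p.1 (π j))⁻¹) * ((p.1 (π j))⁻¹)⁻¹ = t0 := by group
      rwa [h5] at h4
    · rw [map_mul, hd', hxd, one_mul]
    · rw [t, md.conj_eq hp hπ (isB_sg h.t0P h.t0det), cj_sg, t, ← md.Jmul (hB _ h.t0P h.t0det)
        (hB _ (P.mul_mem ht' hx) (by rw [map_mul, hd', hxd, one_mul])), ← sg_mul, mul_inv_cancel_left]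
  · intro i j hij
    by_contra hne
    obtain ⟨a, ha, hae⟩ := hij
    have hB : ∀ j : α, IsB P D2 (sg (β := β) j t0) := fun j => isB_sg h.t0P h.t0det
    rw [t, t, ← md.Jinv (hB i), ← md.Jmul (hB i).inv (hB j)] at hae
    obtain ⟨d, hd⟩ := md.ent_eq (ha.mono h.MP) ((hB i).inv.mul (hB j)) hae
    have h1 := hd (Sum.inl j)
    rw [ent_mul, ent_inv, sg_ne (fun h => hne (Sum.inl.inj h).symm), inv_one, one_mul, sg_same] at h1
    have h4 : sc d = a.1 j * t0⁻¹ := by
      rw [eq_mul_inv_iff_mul_eq]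
      exact h1.symm
    have h5 : d ∈ D2 := h.sc_mem_P (by rw [h4]; exact P.mul_mem (h.MP (ha.1 j)) (P.inv_mem h.t0P))
    apply h.t0M
    have h6 : t0 = (sc d)⁻¹ * a.1 j := by
      rw [eq_inv_mul_iff_mul_eq]
      exact h1.symm
    rw [h6]
    exact M.mul_mem (M.inv_mem (h.sc_mem _ h5)) (ha.1 j)
  · intro j
    have hAinv : ∀ a, φ a ∈ md.A h.MP → a ∈ md.A h.MP := by
      intro a ha
      have hpow : ∀ n : ℕ, ∀ a ∈ md.A h.MP, (φ ^ n) a ∈ md.A h.MP := by
        intro n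
        induction n with
        | zero => intro a ha; exact ha
        | succ n ih =>
          intro a ha
          rw [pow_succ']
          exact hA _ (ih a ha)
      obtain ⟨l, hl⟩ := hk
      have h1 := hpow (2 * l) _ ha
      have h2 : (φ ^ (2 * l)) (φ a) = (φ ^ k) a := by rw [hl, pow_succ]; rfl
      rw [h2, hφ] at h1
      exact h1
    have hord : orderOf (φ (md.t c0 j)) = orderOf c0 := by
      rw [MulEquiv.orderOf_eq]
      exact md.orderOf_sg h2 j h.c0P h.c0det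
    have hcy : ∀ a ∈ md.A h.MP, φ (md.t t0 j) * a * (φ (md.t t0 j))⁻¹ * a⁻¹ ∈ zpowers (φ (md.t c0 j)) := by
      intro a ha
      obtain ⟨b, rfl⟩ := φ.surjective a
      obtain ⟨b', hb', rfl⟩ := hAinv _ ha
      rw [← map_inv, ← map_mul, ← map_inv, ← map_mul, ← map_mul, md.comm_t h j hb']
      have h4 : t0 * b'.1 j * t0⁻¹ * (b'.1 j)⁻¹ ∈ zpowers c0 := by
        refine h.c0gen _ (M.mul_mem (h.conj h.t0P (hb'.1 j)) (M.inv_mem (hb'.1 j))) ?_
        rw [map_mul, map_mul, map_mul, map_inv, map_inv, mul_comm (LinearEquiv.det t0), mul_inv_cancel_right, mul_inv_cancel]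
      obtain ⟨n, hn⟩ := mem_zpowers_iff.1 h4
      rw [← hn, ← md.zpow_sg h.c0P h.c0det, map_zpow]
      exact zpow_mem (mem_zpowers _) _
    rcases md.char_t h h3 hord hcy with h1 | ⟨i, a, ha, h1⟩
    · exact absurd (hAinv _ h1) (md.t_notMem h h2 j)
    · exact ⟨i, a, ha, h1⟩

end Mod

end Cfsg.Agent.H763.Psa
end

private theorem dce_7c3728a9ba8f : _root_.True := by
  try have : _root_.True := by simp only [_root_.Cfsg.Agent.H763.Psa.Mod.t.eq_1]
  try have : _root_.True := by simp only [_root_.Cfsg.Agent.H763.Psa.sg.eq_1]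
  exact _root_.True.intro
end

-- part: H763/PsaTwo
section
prune_inst 0xc0000400088002000001000020002000040000000000000000000000020000000900000000000000002080000004010000000000c000000000000000000000008000060001400008860009000000000000000000000000000000000000000000000000000
set_option linter.all false
open scoped Cfsg.Agent.FastGrp

-- part: H763/PsaFour
section
/-!
# Odd automorphisms of the Sylow 2-subgroups of `PSL_4(q)` (helper763, S5174)
-/

set_option autoImplicit false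
set_option linter.unusedVariables false
set_option linter.unusedSectionVars false

namespace Cfsg.Agent.H763.Psa

open Subgroup Equiv
open Cfsg.Agent.FooteOdd Cfsg.Agent.TwoFusion.OddAut

/-- automorphisms of odd order of a dihedral group of order 8 -/
theorem dih_fix {H : Type*} [Group H] {φ : MulAut H} {k : ℕ} (hk : Odd k) (hφ : φ ^ k = 1) {t u b : H} (ht : t * t = 1)
    (hu : u * u = 1) (hb : b * b = 1) (htu : t * u = u * t) (hbt : b * t = u * b) (hne : t ≠ u) (ht1 : t ≠ 1) (hu1 : u ≠ 1)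
    (hall : ∀ x : H, x = 1 ∨ x = t ∨ x = u ∨ x = t * u ∨ x = b ∨ x = b * t ∨ x = b * u ∨ x = b * (t * u)) :
    φ t = t ∧ φ u = u := by
  have hz1 : t * u ≠ 1 := fun h => hne (by
    have := mul_eq_one_iff_eq_inv.1 h
    rw [this]; exact inv_eq_of_mul_eq_one_left hu)
  have htb : t * b = b * u := by
    calc t * b = (b * b) * t * b := by rw [hb, one_mul]
      _ = b * (b * t) * b := by group
      _ = b * u * (b * b) := by rw [hbt]; group
      _ = b * u := by rw [hb, mul_one]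
  have hub : u * b = b * t := hbt.symm
  have hodd := isOddAut hk hφ
  have crit : ∀ {ψ : MulAut H} {l : ℕ}, Odd l → ψ ^ l = 1 → ∀ g : H, ψ g = g * (t * u) → ψ (t * u) = t * u → False := by
    intro ψ l hl hψ g h1 h2
    exact hz1 ((isOddAut hl hψ).fix_of_eq_mul (g := g) (k := t * u) (mem_top _) (mem_top _) (m := 1) h1 h2 (by
      rw [pow_one, pow_two]
      calc t * u * (t * u) = t * (u * t) * u := by group
        _ = (t * t) * (u * u) := by rw [← htu]; group
        _ = 1 := by rw [ht, hu, mul_one]))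
  have sq1 : (b * t) * (b * t) = t * u := by
    calc (b * t) * (b * t) = b * (t * b) * t := by group
      _ = (b * b) * u * t := by rw [htb]; group
      _ = t * u := by rw [hb, one_mul, htu]
  have sq2 : (b * u) * (b * u) = t * u := by
    calc (b * u) * (b * u) = (t * b) * (b * u) := by rw [htb]
      _ = t * (b * b) * u := by group
      _ = t * u := by rw [hb, mul_one]
  have sq3 : (t * u) * (t * u) = 1 := by
    calc t * u * (t * u) = t * (u * t) * u := by group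
      _ = (t * t) * (u * u) := by rw [← htu]; group
      _ = 1 := by rw [ht, hu, mul_one]
  have hbz : b * (t * u) = (t * u) * b := by
    calc b * (t * u) = (b * t) * u := by group
      _ = u * (b * u) := by rw [hbt]; group
      _ = u * (t * b) := by rw [htb]
      _ = (t * u) * b := by rw [htu]; group
  have sq4 : (b * (t * u)) * (b * (t * u)) = 1 := by
    calc (b * (t * u)) * (b * (t * u)) = (b * (t * u)) * ((t * u) * b) := by rw [hbz]
      _ = b * ((t * u) * (t * u)) * b := by group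
      _ = 1 := by rw [sq3, mul_one, hb]
  -- the image of `b * t`
  have h1 : φ (b * t) = b * t ∨ φ (b * t) = b * u := by
    have h2 : φ (b * t) * φ (b * t) ≠ 1 := by
      rw [← map_mul, sq1]
      exact fun h => hz1 (φ.injective (by rw [h, map_one]))
    rcases hall (φ (b * t)) with h | h | h | h | h | h | h | h
    · rw [h] at h2; simp at h2
    · rw [h] at h2; exact absurd ht h2
    · rw [h] at h2; exact absurd hu h2
    · rw [h] at h2; exact absurd sq3 h2
    · rw [h] at h2; exact absurd hb h2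
    · exact Or.inl h
    · exact Or.inr h
    · rw [h] at h2; exact absurd sq4 h2
  have hz : φ (t * u) = t * u := by
    rw [← sq1, map_mul]
    rcases h1 with h | h
    · rw [h]
    · rw [h, sq2, sq1]
  have hbt' : φ (b * t) = b * t := by
    rcases h1 with h | h
    · exact h
    · exfalso
      refine crit hk hφ (b * t) ?_ hz
      rw [h]
      calc b * u = b * (t * t) * u := by rw [ht, mul_one]
        _ = b * t * (t * u) := by group
  have hu' : u = t * (t * u) := by rw [← mul_assoc, ht, one_mul]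
  have hφu : φ u = φ t * (t * u) := by
    conv_lhs => rw [hu']
    rw [map_mul, hz]
  have hφt : φ t * φ t = 1 := by rw [← map_mul, ht, map_one]
  have hφb : φ b = b * t * φ t := by
    rw [← hbt', ← map_mul, mul_assoc, ht, mul_one]
  have hφ2 : (φ ^ 2) ^ k = 1 := by rw [← pow_mul, mul_comm, pow_mul, hφ, one_pow]
  have hz2 : (φ ^ 2) (t * u) = t * u := by
    rw [pow_two, MulAut.mul_apply, hz, hz]
  have hmain : φ t = t := by
    rcases hall (φ t) with h | h | h | h | h | h | h | h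
    · exact absurd (φ.injective (by rw [h, map_one])) ht1
    · exact h
    · exact (crit hk hφ t (by rw [h]; exact hu') hz).elim
    · exfalso
      have : t = t * u := φ.injective (by rw [h, hz])
      exact hu1 (left_eq_mul.1 this)
    · exfalso
      refine crit hk hφ2 t ?_ hz2
      rw [pow_two, MulAut.mul_apply, h, hφb, h]
      calc b * t * b = b * (t * b) := by group
        _ = (b * b) * u := by rw [htb]; group
        _ = t * (t * u) := by rw [hb, one_mul]; exact hu'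
    · rw [h, sq1] at hφt
      exact absurd hφt hz1
    · rw [h, sq2] at hφt
      exact absurd hφt hz1
    · exfalso
      refine crit hk hφ2 t ?_ hz2
      have e1 : φ b = t := by
        rw [hφb, h]
        calc b * t * (b * (t * u)) = (b * t) * ((t * u) * b) := by rw [hbz]
          _ = b * (t * t) * (u * b) := by group
          _ = (b * b) * t := by rw [ht, hub]; group
          _ = t := by rw [hb, one_mul]
      rw [pow_two, MulAut.mul_apply, h, map_mul, hz, e1]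
  exact ⟨hmain, by rw [hφu, hmain]; exact hu'.symm⟩


variable {K : Type*} [Field K] {α β : Type*} [Fintype α] [DecidableEq α] [Fintype β] [DecidableEq β]
variable {P M : Subgroup (G2 K)} {D2 : Subgroup Kˣ} {c0 t0 : G2 K} {Q : Subgroup (Perm α)} {S : Type*} [Group S]

namespace Mod

variable (md : Mod α β P D2 Q S)

/-- commutators of elements of a normal abelian subgroup -/
theorem key_of_mem {N : Subgroup S} (hN : N.Normal) (hab : ∀ a ∈ N, ∀ b ∈ N, a * b = b * a) {p : Pa K α β} (hp : IsB P D2 p)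
    {π : Perm α} (hπ : π ∈ Q) (hs : md.Ψ (J p * bp π) ∈ N) {b : Pa K α β} (hb : IsB P D2 b) :
    ∃ c : Kˣ, ∀ l, ent (cj p π (cj p π b * b⁻¹)) l = sc c * ent (cj p π b * b⁻¹) l := by
  have hy : md.Ψ (J (cj p π b * b⁻¹)) ∈ N := by
    rw [← md.comm_eq hp hπ hb, mul_assoc, mul_assoc, ← mul_assoc (md.Ψ (J b))]
    exact N.mul_mem hs (hN.conj_mem _ (N.inv_mem hs) _)
  have hyB : IsB P D2 (cj p π b * b⁻¹) := (cj_isB hp hπ hb).mul hb.inv
  refine md.ent_eq (cj_isB hp hπ hyB) hyB ?_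
  rw [← md.conj_eq hp hπ hyB, hab _ hs _ hy, mul_inv_cancel_right]

/-- commuting elements -/
theorem ent_of_comm {p : Pa K α β} (hp : IsB P D2 p) {b : Pa K α β} (hb : IsB P D2 b)
    (hs : md.Ψ (J p * bp 1) * md.Ψ (J b) = md.Ψ (J b) * md.Ψ (J p * bp 1)) :
    ∃ c : Kˣ, ∀ i, p.1 i * b.1 i * (p.1 i)⁻¹ * (b.1 i)⁻¹ = sc c := by
  have h1 : md.Ψ (J (cj p 1 b)) = md.Ψ (J b) := by
    rw [← md.conj_eq hp (one_mem Q) hb, hs, mul_inv_cancel_right]
  obtain ⟨c, hc⟩ := md.ent_eq (cj_isB hp (one_mem Q) hb) hb h1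
  refine ⟨c, fun i => ?_⟩
  have h2 := hc (Sum.inl i)
  rw [cj_inl, inv_one, Perm.one_apply] at h2
  change p.1 i * b.1 i * (p.1 i)⁻¹ = sc c * b.1 i at h2
  rw [h2, mul_inv_cancel_right]

/-- a normal abelian subgroup with the order of `A`, not elementary abelian, is contained in `A` (`n = 4`) -/
theorem le_A_four [IsEmpty β] [Finite S] (h : PDat P M D2 c0 t0) {i1 i2 : α} (h12 : i1 ≠ i2) (hα : ∀ i, i = i1 ∨ i = i2)
    (N : Subgroup S) (hN : N.Normal) (hab : ∀ a ∈ N, ∀ b ∈ N, a * b = b * a) (hcard : Nat.card N = Nat.card (md.A h.MP))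
    (hsq : ∃ x ∈ N, x * x ≠ 1) : N ≤ md.A h.MP := by
  obtain ⟨ρ, hρ, hρ'⟩ := md.exists_perm
  have hel : ∀ x ∈ N, ρ x ≠ 1 → x * x = 1 := by
    intro x hx hρx
    obtain ⟨g, hg, rfl⟩ := md.surj x
    obtain ⟨p, π, hπ, hp, rfl⟩ := exists_of_mem hg
    rw [hρ' p π hp hπ] at hρx
    have hπ1 : π i1 = i2 := by
      rcases hα (π i1) with h1 | h1
      · exfalso
        apply hρx
        refine Equiv.ext fun i => ?_
        rcases hα i with rfl | rfl
        · exact h1
        · rcases hα (π i) with h2 | h2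
          · exact absurd (π.injective (h1.trans h2.symm)) h12
          · exact h2
      · exact h1
    have hπ2 : π i2 = i1 := by
      rcases hα (π i2) with h1 | h1
      · exact h1
      · exact absurd (π.injective (hπ1.trans h1.symm)) h12
    have hi1 : π⁻¹ i1 = i2 := by rw [Perm.inv_eq_iff_eq, hπ2]
    have hi2 : π⁻¹ i2 = i1 := by rw [Perm.inv_eq_iff_eq, hπ1]
    have hcomm : ∀ t ∈ P, LinearEquiv.det t = 1 → p.1 i1 * p.1 i2 * t = t * (p.1 i1 * p.1 i2) := by
      intro t ht hd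
      obtain ⟨c, hc⟩ := md.key_of_mem hN hab hp hπ hx (isB_sg (i := i1) ht hd)
      obtain ⟨e1, e2, -⟩ := comm_sg (β := β) p (show π i1 ≠ i1 from hπ1 ▸ h12.symm) t
      have f1 := hc (Sum.inl i2)
      rw [hπ1] at e1
      rw [cj_inl, hi2, e1, e2] at f1
      have f2 : t⁻¹ = sc c * t := by
        have h1 : p.1 i2 * t⁻¹ * (p.1 i2)⁻¹ = p.1 i2 * (sc c * t) * (p.1 i2)⁻¹ := by
          rw [f1, ← mul_assoc, ← mul_assoc, ← mul_assoc, sc_comm]
        exact mul_left_cancel (mul_right_cancel h1)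
      have f3 : c * c = 1 := by
        have := congrArg LinearEquiv.det f2
        rw [map_inv, map_mul, hd, inv_one, mul_one, det_sc2] at this
        exact this.symm
      have f4 := hc (Sum.inl i1)
      rw [cj_inl, hi1, e1, e2, f2, ← mul_assoc (sc c), ← sc_mul, f3, sc_one, one_mul] at f4
      rw [← mul_inv_eq_iff_eq_mul]
      refine Eq.trans ?_ f4
      group
    obtain ⟨ν, hν⟩ := h.centr (P.mul_mem (hp.1 i1) (hp.1 i2)) (hcomm _ h.c0P h.c0det) (hcomm _ h.t0P h.t0det)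
    have hν' : p.1 i2 * p.1 i1 = sc ν := by
      have h1 : p.1 i2 * p.1 i1 = (p.1 i1)⁻¹ * (p.1 i1 * p.1 i2) * p.1 i1 := by group
      rw [h1, hν, ← sc_comm, inv_mul_cancel_right]
    have hπ3 : π * π = 1 := by
      refine Equiv.ext fun i => ?_
      rcases hα i with rfl | rfl
      · rw [Perm.mul_apply, hπ1, hπ2, Perm.one_apply]
      · rw [Perm.mul_apply, hπ2, hπ1, Perm.one_apply]
    rw [← md.mul _ hg _ hg, md.ker _ (mul_mem hg hg)]
    refine ⟨ν, ?_⟩
    have h1 := bp_J (K := K) (α := α) (β := β) π p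
    have h2 : (J p * bp π) * (J p * bp π) = J p * (bp π * J p * (bp π)⁻¹) * (bp π * bp π : (Ix α β → K) ≃ₗ[K] (Ix α β → K)) := by group
    rw [h2, h1, ← map_mul bp, hπ3, map_one, mul_one, ← map_mul, sc_eq_J]
    congr 1
    refine Prod.ext (funext fun i => ?_) (funext fun j => (IsEmpty.false j).elim)
    change p.1 i * p.1 (π⁻¹ i) = sc ν
    rcases hα i with rfl | rfl
    · rw [hi1, hν]
    · rw [hi2, hν']
  have hρN : ∀ x ∈ N, ρ x = 1 := by
    intro x hx
    by_contra hρx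
    obtain ⟨y, hy, hyy⟩ := hsq
    apply hyy
    by_cases hρy : ρ y = 1
    · have h1 := hel (x * y) (N.mul_mem hx hy) (by rw [map_mul, hρy, mul_one]; exact hρx)
      have h2 := hel x hx hρx
      calc y * y = x * (x * y) * y := by rw [← mul_assoc, h2, one_mul]
        _ = x * (y * x) * y := by rw [hab x hx y hy]
        _ = (x * y) * (x * y) := by group
        _ = 1 := h1
    · exact hel y hy hρy
  -- elements of `N` outside `A`
  have hout : ∀ (p : Pa K α β), IsB P D2 p → md.Ψ (J p * bp 1) ∈ N → md.Ψ (J p * bp 1) ∉ md.A h.MP → ∀ i, p.1 i ∉ M := by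
    intro p hp hpN hpA j hj
    obtain ⟨i, hi⟩ : ∃ i, p.1 i ∉ M := by
      by_contra hcon
      push Not at hcon
      exact hpA ⟨p, ⟨hcon, hp.2.1, hp.2.2⟩, by rw [map_one, mul_one]⟩
    have hij : i ≠ j := fun h1 => hi (h1 ▸ hj)
    obtain ⟨g, hgM, hgc⟩ := h.usurj _ (hp.1 i) hi
    obtain ⟨a, ha, ha1, ha2⟩ := exists_A (α := α) (β := β) h (i := i) (k := Sum.inl j) (fun h => hij (Sum.inl.inj h).symm) hgM
    obtain ⟨c, hc⟩ := md.key_of_mem hN hab hp (one_mem Q) hpN (ha.mono h.MP)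
    have e1 : ent (cj p 1 a * a⁻¹) (Sum.inl i) = c0 := by
      rw [ent_mul, ent_inv, cj_inl, inv_one, Perm.one_apply, ha1, hgc]
    have e2 : ent (cj p 1 a * a⁻¹) (Sum.inl j) = 1 := by
      rw [ent_mul, ent_inv, cj_inl, inv_one, Perm.one_apply]
      change p.1 j * a.1 j * (p.1 j)⁻¹ * (a.1 j)⁻¹ = 1
      rw [h.comm _ hj _ (ha.1 j), mul_inv_cancel_right, mul_inv_cancel]
    have e3 : sc c = (1 : G2 K) := by
      have h1 := hc (Sum.inl j)
      rw [e2, mul_one, cj_inl, inv_one, Perm.one_apply, e2, mul_one, mul_inv_cancel] at h1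
      exact h1.symm
    have h1 := hc (Sum.inl i)
    rw [cj_inl, inv_one, Perm.one_apply, e1, e3, one_mul, h.inv _ (hp.1 i) hi] at h1
    exact h.c0sq (inv_eq_iff_mul_eq_one.1 h1)
  intro x hx
  by_contra hxA
  obtain ⟨g, hg, rfl⟩ := md.surj x
  obtain ⟨p, π, hπ, hp, rfl⟩ := exists_of_mem hg
  have hπ1 : π = 1 := by rw [← hρ' p π hp hπ]; exact hρN _ hx
  subst hπ1
  have hpM := hout p hp hx hxA
  have hrel : (N ⊓ md.A h.MP).relIndex N = 2 := by
    rw [relIndex_eq_two_iff_exists_notMem_and]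
    refine ⟨_, hx, fun h1 => hxA h1.2, fun b hb => ?_⟩
    by_cases hbA : b ∈ md.A h.MP
    · exact Or.inr ⟨hb, hbA⟩
    left
    refine ⟨N.mul_mem hb hx, ?_⟩
    obtain ⟨g', hg', rfl⟩ := md.surj b
    obtain ⟨p', π', hπ', hp', rfl⟩ := exists_of_mem hg'
    have hπ1' : π' = 1 := by rw [← hρ' p' π' hp' hπ']; exact hρN _ hb
    subst hπ1'
    have hpM' := hout p' hp' hb hbA
    have hpp := hp'.mul hp
    refine ⟨p' * p, ⟨fun i => h.two _ (hp'.1 i) _ (hp.1 i) (hpM' i) (hpM i), hpp.2.1, hpp.2.2⟩, ?_⟩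
    rw [md.Jmul hp' hp, map_one, mul_one, mul_one]
  have hrelA : (N ⊓ md.A h.MP).relIndex (md.A h.MP) = 2 := by
    have h1 := relIndex_mul_relIndex (⊥ : Subgroup S) (N ⊓ md.A h.MP) N bot_le inf_le_left
    have h2 := relIndex_mul_relIndex (⊥ : Subgroup S) (N ⊓ md.A h.MP) (md.A h.MP) bot_le inf_le_right
    rw [relIndex_bot_left, relIndex_bot_left] at h1 h2
    rw [hrel] at h1
    rw [← hcard, ← h1] at h2
    exact Nat.eq_of_mul_eq_mul_left Nat.card_pos h2
  have hcomm : ∀ b ∈ N, md.Ψ (J p * bp 1) * b = b * md.Ψ (J p * bp 1) := fun b hb => hab _ hx _ hb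
  -- two elements of `A`
  obtain ⟨g, hgM, hgc⟩ := h.usurj _ (hp.1 i1) (hpM i1)
  obtain ⟨a, ha, ha1, ha2⟩ := exists_A (α := α) (β := β) h (i := i1) (k := Sum.inl i2) (fun h => h12 (Sum.inl.inj h).symm) hgM
  have hB1 : IsB M D2 (sg (β := β) i1 c0) := isB_sg h.c0M h.c0det
  have hs1 : (sg (β := β) i1 c0).1 i1 = c0 := sg_same (β := β) i1 c0
  have hs2 : (sg (β := β) i1 c0).1 i2 = 1 := sg_ne (β := β) (fun h => h12 (Sum.inl.inj h).symm) c0
  have ha1' : a.1 i1 = g := ha1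
  have n1 : md.Ψ (J (sg i1 c0)) ∉ N := by
    intro h1
    obtain ⟨c, hc⟩ := md.ent_of_comm hp (hB1.mono h.MP) (hcomm _ h1)
    have h2 := hc i2
    rw [hs2, mul_one, mul_inv_cancel, inv_one, mul_one] at h2
    have h3 := hc i1
    rw [hs1, ← h2, h.inv _ (hp.1 i1) (hpM i1), ← mul_inv_rev, inv_eq_one] at h3
    exact h.c0sq h3
  have n2 : md.Ψ (J a) ∉ N := by
    intro h1
    obtain ⟨c, hc⟩ := md.ent_of_comm hp (ha.mono h.MP) (hcomm _ h1)
    have h2 := hc i1
    rw [ha1', hgc] at h2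
    exact h.c0ns h2
  have n3 : (md.Ψ (J (sg i1 c0))) * md.Ψ (J a) ∈ N := by
    have h1 := @mul_mem_iff_of_index_two _ _ ((N ⊓ md.A h.MP).subgroupOf (md.A h.MP)) hrelA
      ⟨md.Ψ (J (sg i1 c0)), ⟨_, hB1, rfl⟩⟩ ⟨md.Ψ (J a), ⟨_, ha, rfl⟩⟩
    simp only [mem_subgroupOf, mem_inf] at h1
    exact (h1.2 ⟨fun h2 => absurd h2.1 n1, fun h2 => absurd h2.1 n2⟩).1
  rw [← md.Jmul (hB1.mono h.MP) (ha.mono h.MP)] at n3
  obtain ⟨c, hc⟩ := md.ent_of_comm hp ((hB1.mul ha).mono h.MP) (hcomm _ n3)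
  have h1 := hc i1
  change p.1 i1 * ((sg (β := β) i1 c0).1 i1 * a.1 i1) * (p.1 i1)⁻¹ * ((sg (β := β) i1 c0).1 i1 * a.1 i1)⁻¹ = sc c at h1
  rw [hs1, ha1'] at h1
  have h2 : p.1 i1 * (c0 * g) * (p.1 i1)⁻¹ * (c0 * g)⁻¹ = c0⁻¹ * c0⁻¹ * c0 := by
    calc p.1 i1 * (c0 * g) * (p.1 i1)⁻¹ * (c0 * g)⁻¹
        = (p.1 i1 * c0 * (p.1 i1)⁻¹) * (p.1 i1 * g * (p.1 i1)⁻¹ * g⁻¹) * c0⁻¹ := by group
      _ = c0⁻¹ * c0 * c0⁻¹ := by rw [h.inv _ (hp.1 i1) (hpM i1), hgc]
      _ = _ := by group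
  rw [h2, inv_mul_cancel_right] at h1
  exact h.c0ns (d := c⁻¹) (by rw [← sc_inv, ← h1, inv_inv])

/-- the cosets `t j * A` are different -/
theorem t_inj (h : PDat P M D2 c0 t0) {i j : α} (hij : (md.t t0 i)⁻¹ * md.t t0 j ∈ md.A h.MP) : i = j := by
  by_contra hne
  obtain ⟨a, ha, hae⟩ := hij
  have hB : ∀ j : α, IsB P D2 (sg (β := β) j t0) := fun j => isB_sg h.t0P h.t0det
  rw [t, t, ← md.Jinv (hB i), ← md.Jmul (hB i).inv (hB j)] at hae
  obtain ⟨d, hd⟩ := md.ent_eq (ha.mono h.MP) ((hB i).inv.mul (hB j)) hae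
  have h1 := hd (Sum.inl j)
  rw [ent_mul, ent_inv, sg_ne (fun h => hne (Sum.inl.inj h).symm), inv_one, one_mul, sg_same] at h1
  have h4 : sc d = a.1 j * t0⁻¹ := by
    rw [eq_mul_inv_iff_mul_eq]
    exact h1.symm
  have h5 : d ∈ D2 := h.sc_mem_P (by rw [h4]; exact P.mul_mem (h.MP (ha.1 j)) (P.inv_mem h.t0P))
  apply h.t0M
  have h6 : t0 = (sc d)⁻¹ * a.1 j := by
    rw [eq_inv_mul_iff_mul_eq]
    exact h1.symm
  rw [h6]
  exact M.mul_mem (M.inv_mem (h.sc_mem _ h5)) (ha.1 j)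

/-- splitting off `t j` -/
theorem split_t (h : PDat P M D2 c0 t0) {p : Pa K α β} (hp : IsB P D2 p) {j : α} (hj : p.1 j ∉ M) :
    ∃ p' : Pa K α β, IsB P D2 p' ∧ p'.1 j ∈ M ∧ (∀ i, i ≠ j → p'.1 i = p.1 i) ∧ md.Ψ (J p) = md.t t0 j * md.Ψ (J p') := by
  have hB1 : IsB P D2 (sg (β := β) j t0) := isB_sg h.t0P h.t0det
  have hB2 : IsB P D2 (sg (β := β) j t0⁻¹) := isB_sg (P.inv_mem h.t0P) (by rw [map_inv, h.t0det, inv_one])
  refine ⟨sg j t0⁻¹ * p, hB2.mul hp, ?_, fun i hi => ?_, ?_⟩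
  · change ent (sg (β := β) j t0⁻¹) (Sum.inl j) * p.1 j ∈ M
    rw [sg_same]
    exact h.two _ (P.inv_mem h.t0P) _ (hp.1 j) (fun h1 => h.t0M (M.inv_mem_iff.1 h1)) hj
  · change ent (sg (β := β) j t0⁻¹) (Sum.inl i) * p.1 i = p.1 i
    rw [sg_ne (fun h => hi (Sum.inl.inj h)), one_mul]
  · rw [t, ← md.Jmul hB1 (hB2.mul hp), ← mul_assoc, ← sg_mul, mul_inv_cancel, sg_one, one_mul]

include md in
/-- **`n = 4`.** -/
theorem eq_one_four [IsEmpty β] [Finite S] (hS : IsPGroup 2 S) (two : (2 : K) ≠ 0) (h : PDat P M D2 c0 t0)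
    {i1 i2 : α} (h12 : i1 ≠ i2) (hα : ∀ i, i = i1 ∨ i = i2) (hsw : swap i1 i2 ∈ Q)
    {φ : MulAut S} {k : ℕ} (hk : Odd k) (hφ : φ ^ k = 1) : φ = 1 := by
  have h2 : ∀ l : α ⊕ β, ∃ k, k ≠ l := by
    rintro (l | l)
    · by_cases hl : l = i1
      · exact ⟨Sum.inl i2, fun h => h12 (hl ▸ Sum.inl.inj h).symm⟩
      · exact ⟨Sum.inl i1, fun h => hl (Sum.inl.inj h).symm⟩
    · exact (IsEmpty.false l).elim
  have hne : Nonempty α := ⟨i1⟩
  have hA : ∀ a ∈ md.A h.MP, φ a ∈ md.A h.MP := by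
    intro a ha
    have hn : ((md.A h.MP).map φ.toMonoidHom).Normal := by
      refine ⟨?_⟩
      rintro _ ⟨x, hx, rfl⟩ g
      refine ⟨φ⁻¹ g * x * (φ⁻¹ g)⁻¹, md.hnorm h _ _ hx, ?_⟩
      change φ (φ⁻¹ g * x * (φ⁻¹ g)⁻¹) = g * φ x * g⁻¹
      rw [map_mul, map_mul, map_inv, MulAut.apply_inv_self]
    refine md.le_A_four h h12 hα _ hn ?_ ?_ ?_ ⟨a, ha, rfl⟩
    · rintro _ ⟨x, hx, rfl⟩ _ ⟨y, hy, rfl⟩
      change φ x * φ y = φ y * φ x
      rw [← map_mul, ← map_mul, md.hcomm h x hx y hy]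
    · exact card_map_of_injective φ.injective
    · refine ⟨φ (md.t c0 i1), ⟨_, md.t_mem_A h i1, rfl⟩, fun h1 => ?_⟩
      rw [← map_mul] at h1
      have h3 : md.t c0 i1 * md.t c0 i1 = 1 := φ.injective (by rw [h1, map_one])
      have hB := isB_sg (P := P) (D2 := D2) (β := β) (i := i1) h.c0P h.c0det
      rw [t, ← md.Jmul hB hB, ← sg_mul] at h3
      exact h.c0sq (md.sg_eq_one h2 (P.mul_mem h.c0P h.c0P) (by rw [map_mul, h.c0det, one_mul]) h3)
  have hnA : (md.A h.MP).Normal := ⟨fun n hn g => md.hnorm h g n hn⟩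
  have hmapA : (md.A h.MP).map φ.toMonoidHom = md.A h.MP := by
    refine eq_of_le_of_card_ge ?_ (le_of_eq (card_map_of_injective φ.injective).symm)
    rintro _ ⟨x, hx, rfl⟩
    exact hA x hx
  set A := md.A h.MP with hAdef
  let ψ : MulAut (S ⧸ A) := QuotientGroup.congr A A φ hmapA
  have hψ : ∀ s : S, ψ (QuotientGroup.mk s) = QuotientGroup.mk (φ s) := fun s => rfl
  have hψk : ψ ^ k = 1 := by
    have h1 : ∀ n : ℕ, ∀ s : S, (ψ ^ n) (QuotientGroup.mk s) = QuotientGroup.mk ((φ ^ n) s) := by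
      intro n
      induction n with
      | zero => intro s; rfl
      | succ n ih =>
        intro s
        rw [pow_succ', MulAut.mul_apply, ih, hψ, pow_succ', MulAut.mul_apply]
    refine MulEquiv.ext fun x => ?_
    obtain ⟨s, rfl⟩ := QuotientGroup.mk_surjective x
    rw [h1, hφ]
    rfl
  set B : S := md.Ψ (bp (swap i1 i2)) with hB
  have hbpm : (bp (swap i1 i2) : (Ix α β → K) ≃ₗ[K] (Ix α β → K)) ∈ St α β P D2 Q := bp_mem_St hsw
  have hBB : B * B = 1 := by
    rw [hB, ← md.mul _ hbpm _ hbpm, ← map_mul, Equiv.swap_mul_self, map_one, md.one]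
  have hT : ∀ j : α, IsB P D2 (sg (β := β) j t0) := fun j => isB_sg h.t0P h.t0det
  have htt : ∀ j, md.t t0 j * md.t t0 j ∈ A := by
    intro j
    rw [t, ← md.Jmul (hT j) (hT j), ← sg_mul]
    exact ⟨_, isB_sg (h.two _ h.t0P _ h.t0P h.t0M h.t0M) (by rw [map_mul, h.t0det, one_mul]), rfl⟩
  have htcomm : md.t t0 i1 * md.t t0 i2 = md.t t0 i2 * md.t t0 i1 := by
    rw [t, t, ← md.Jmul (hT _) (hT _), ← md.Jmul (hT _) (hT _)]
    congr 2
    apply ext_ent
    intro l
    rw [ent_mul, ent_mul]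
    by_cases hl : l = Sum.inl i1
    · subst hl
      rw [sg_ne (fun h => h12 (Sum.inl.inj h)), one_mul, mul_one]
    · rw [sg_ne hl, one_mul, mul_one]
  have hBt : B * md.t t0 i1 = md.t t0 i2 * B := by
    have h1 := md.conj_eq (IsB.one (P := P) (D2 := D2)) hsw (hT i1)
    rw [map_one, one_mul, cj_sg, swap_apply_left] at h1
    rw [← mul_inv_eq_iff_eq_mul]
    refine h1.trans ?_
    rw [t]
    congr 3
  -- the classes of the block diagonal elements
  have hdiag : ∀ p : Pa K α β, IsB P D2 p → (QuotientGroup.mk (md.Ψ (J p)) : S ⧸ A) = 1 ∨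
      (QuotientGroup.mk (md.Ψ (J p)) : S ⧸ A) = QuotientGroup.mk (md.t t0 i1) ∨
      (QuotientGroup.mk (md.Ψ (J p)) : S ⧸ A) = QuotientGroup.mk (md.t t0 i2) ∨
      (QuotientGroup.mk (md.Ψ (J p)) : S ⧸ A) = QuotientGroup.mk (md.t t0 i1) * QuotientGroup.mk (md.t t0 i2) := by
    have h0 : ∀ p : Pa K α β, IsB P D2 p → p.1 i1 ∈ M → p.1 i2 ∈ M → (QuotientGroup.mk (md.Ψ (J p)) : S ⧸ A) = 1 := by
      intro p hp e1 e2
      rw [QuotientGroup.eq_one_iff]
      refine ⟨p, ⟨fun i => ?_, hp.2.1, hp.2.2⟩, rfl⟩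
      rcases hα i with rfl | rfl
      · exact e1
      · exact e2
    have h1 : ∀ p : Pa K α β, IsB P D2 p → p.1 i1 ∈ M → (QuotientGroup.mk (md.Ψ (J p)) : S ⧸ A) = 1 ∨
        (QuotientGroup.mk (md.Ψ (J p)) : S ⧸ A) = QuotientGroup.mk (md.t t0 i2) := by
      intro p hp e1
      by_cases e2 : p.1 i2 ∈ M
      · exact Or.inl (h0 p hp e1 e2)
      · obtain ⟨p', hp', g1, g2, g3⟩ := md.split_t h hp e2
        right
        rw [g3, QuotientGroup.mk_mul, h0 p' hp' (by rw [g2 _ h12]; exact e1) g1, mul_one]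
    intro p hp
    by_cases e1 : p.1 i1 ∈ M
    · rcases h1 p hp e1 with h3 | h3
      · exact Or.inl h3
      · exact Or.inr (Or.inr (Or.inl h3))
    · obtain ⟨p', hp', g1, g2, g3⟩ := md.split_t h hp e1
      right
      rw [g3, QuotientGroup.mk_mul]
      rcases h1 p' hp' g1 with h3 | h3
      · left; rw [h3, mul_one]
      · right; right; rw [h3]
  have hall : ∀ x : S ⧸ A, x = 1 ∨ x = QuotientGroup.mk (md.t t0 i1) ∨ x = QuotientGroup.mk (md.t t0 i2) ∨
      x = QuotientGroup.mk (md.t t0 i1) * QuotientGroup.mk (md.t t0 i2) ∨ x = QuotientGroup.mk B ∨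
      x = QuotientGroup.mk B * QuotientGroup.mk (md.t t0 i1) ∨ x = QuotientGroup.mk B * QuotientGroup.mk (md.t t0 i2) ∨
      x = QuotientGroup.mk B * (QuotientGroup.mk (md.t t0 i1) * QuotientGroup.mk (md.t t0 i2)) := by
    intro x
    obtain ⟨s, rfl⟩ := QuotientGroup.mk_surjective x
    obtain ⟨g, hg, rfl⟩ := md.surj s
    obtain ⟨p, π, hπ, hp, rfl⟩ := exists_of_mem hg
    by_cases hπ1 : π = 1
    · subst hπ1
      rw [map_one, mul_one]
      rcases hdiag p hp with h3 | h3 | h3 | h3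
      · exact Or.inl h3
      · exact Or.inr (Or.inl h3)
      · exact Or.inr (Or.inr (Or.inl h3))
      · exact Or.inr (Or.inr (Or.inr (Or.inl h3)))
    · have hπsw : π = swap i1 i2 := by
        have e1 : π i1 = i2 := by
          rcases hα (π i1) with h1 | h1
          · exfalso
            apply hπ1
            refine Equiv.ext fun i => ?_
            rcases hα i with rfl | rfl
            · exact h1
            · rcases hα (π i) with h2 | h2
              · exact absurd (π.injective (h1.trans h2.symm)) h12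
              · exact h2
          · exact h1
        refine Equiv.ext fun i => ?_
        rcases hα i with rfl | rfl
        · rw [e1, swap_apply_left]
        · rw [swap_apply_right]
          rcases hα (π i) with h1 | h1
          · exact h1
          · exact absurd (π.injective (e1.trans h1.symm)) h12
      have h1 : md.Ψ (J p * bp π) = B * md.Ψ (J (cj 1 (swap i1 i2) p)) := by
        have h4 := cj_spec (K := K) (β := β) 1 (swap i1 i2) p
        rw [map_one, one_mul] at h4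
        have h5 : (bp (swap i1 i2) : (Ix α β → K) ≃ₗ[K] (Ix α β → K))⁻¹ = bp (swap i1 i2) := by
          rw [← map_inv, swap_inv]
        rw [hB, ← md.mul _ hbpm _ (cj_isB IsB.one hsw hp).mem, ← h4, hπsw]
        congr 1
        rw [← mul_assoc, ← mul_assoc, ← map_mul, Equiv.swap_mul_self, map_one, one_mul, h5]
      rw [h1, QuotientGroup.mk_mul]
      right; right; right; right
      rcases hdiag _ (cj_isB IsB.one hsw hp) with h3 | h3 | h3 | h3
      · left; rw [h3, mul_one]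
      · right; left; rw [h3]
      · right; right; left; rw [h3]
      · right; right; right; rw [h3]
  obtain ⟨r1, r2⟩ := dih_fix hk hψk (t := QuotientGroup.mk (md.t t0 i1)) (u := QuotientGroup.mk (md.t t0 i2))
    (b := QuotientGroup.mk B) ((QuotientGroup.eq_one_iff _).2 (htt i1)) ((QuotientGroup.eq_one_iff _).2 (htt i2))
    (by rw [← QuotientGroup.mk_mul, hBB]; rfl) (by rw [← QuotientGroup.mk_mul, htcomm]; rfl)
    (by rw [← QuotientGroup.mk_mul, hBt]; rfl) (fun h1 => h12 (md.t_inj h (QuotientGroup.eq.1 h1)))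
    (fun h1 => md.t_notMem h h2 i1 ((QuotientGroup.eq_one_iff _).1 h1))
    (fun h1 => md.t_notMem h h2 i2 ((QuotientGroup.eq_one_iff _).1 h1)) hall
  refine md.eq_one_of_fix hS two h h2 hk hφ hA ?_
  intro j
  refine ⟨(md.t t0 j)⁻¹ * φ (md.t t0 j), ?_, by rw [mul_inv_cancel_left]⟩
  rcases hα j with rfl | rfl
  · exact QuotientGroup.eq.1 r1.symm
  · exact QuotientGroup.eq.1 r2.symm

end Mod

end Cfsg.Agent.H763.Psa
end

-- part: H763/PsaGL
section
/-!
# The facts `PDat` for the Sylow 2-subgroups of `GL_2(q)`, `q` odd (helper763, S5174)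
-/

set_option autoImplicit false
set_option linter.unusedVariables false
set_option linter.unusedSectionVars false

namespace Cfsg.Agent.H763.Psa

open Subgroup Equiv
open Cfsg.Agent.FooteOdd

variable {K : Type*} [Field K]

/-- an element of order 2 and determinant 1 -/
theorem eq_of_sq (two : (2 : K) ≠ 0) {g : G2 K} (h2 : g * g = 1) (hd : LinearEquiv.det g = 1) : g = 1 ∨ g = sc (-1) := by
  obtain ⟨k, ε, h1, h3⟩ := gl_h1 two g h2
  have h4 : g = k⁻¹ * dg ε * k := by rw [← h3]; group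
  have h5 : ε 0 * ε 1 = 1 := by
    have := congrArg LinearEquiv.det h3
    rw [map_mul, map_mul, hd, mul_one, map_inv, mul_inv_cancel, det_dg, Fin.prod_univ_two] at this
    exact this.symm
  have h6 : ε 1 = ε 0 := by
    rcases h1 0 with h | h
    · rw [h, one_mul] at h5; rw [h, h5]
    · rw [h] at h5
      rw [h]
      have : (-1 : Kˣ) * (-1 * ε 1) = -1 * 1 := by rw [h5]
      simpa using this
  have h7 : dg ε = sc (ε 0) := by
    rw [sc]
    congr 1
    funext i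
    fin_cases i
    · rfl
    · exact h6
  have h8 : g = sc (ε 0) := by
    rw [h4, h7, mul_assoc, sc_comm, inv_mul_cancel_left]
  rcases h1 0 with h | h
  · left; rw [h8, h, sc_one]
  · right; rw [h8, h]

/-- an element with square `-1` has determinant one or is a scalar -/
theorem det_of_sq_neg {g : G2 K} (h2 : g * g = sc (-1)) : LinearEquiv.det g = 1 ∨ ∃ μ : Kˣ, g = sc μ := by
  classical
  set A : Matrix (Fin 2) (Fin 2) K := LinearMap.toMatrix' (g : (Fin 2 → K) →ₗ[K] (Fin 2 → K)) with hA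
  have hdet : (LinearEquiv.det g : K) = A 0 0 * A 1 1 - A 0 1 * A 1 0 := by
    rw [LinearEquiv.coe_det, ← LinearMap.det_toMatrix', ← hA, Matrix.det_fin_two]
  have hAA : A * A = -1 := by
    rw [hA, ← LinearMap.toMatrix'_mul]
    have h3 : (g : (Fin 2 → K) →ₗ[K] (Fin 2 → K)) * (g : (Fin 2 → K) →ₗ[K] (Fin 2 → K)) = -1 := by
      refine LinearMap.ext fun v => ?_
      have := LinearEquiv.congr_fun h2 v
      rw [LinearEquiv.mul_apply, sc_apply] at this
      change g (g v) = -v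
      rw [this]
      simp
    rw [h3, map_neg, LinearMap.toMatrix'_one]
  have e00 := congrFun (congrFun hAA 0) 0
  have e01 := congrFun (congrFun hAA 0) 1
  have e10 := congrFun (congrFun hAA 1) 0
  have e11 := congrFun (congrFun hAA 1) 1
  rw [Matrix.mul_apply, Fin.sum_univ_two] at e00 e01 e10 e11
  simp only [Matrix.neg_apply, Matrix.one_apply_eq, Matrix.one_apply_ne (show (0 : Fin 2) ≠ 1 by decide),
    Matrix.one_apply_ne (show (1 : Fin 2) ≠ 0 by decide), neg_zero] at e00 e01 e10 e11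
  by_cases ht : A 0 0 + A 1 1 = 0
  · left
    refine Units.ext ?_
    rw [hdet, Units.val_one]
    linear_combination (-1 : K) * e00 + A 0 0 * ht
  · right
    have h01 : A 0 1 = 0 := by
      have : A 0 1 * (A 0 0 + A 1 1) = 0 := by linear_combination e01
      exact (mul_eq_zero.1 this).resolve_right ht
    have h10 : A 1 0 = 0 := by
      have : A 1 0 * (A 0 0 + A 1 1) = 0 := by linear_combination e10
      exact (mul_eq_zero.1 this).resolve_right ht
    have h11 : A 0 0 = A 1 1 := by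
      have : (A 0 0 - A 1 1) * (A 0 0 + A 1 1) = 0 := by
        linear_combination e00 - e11
      exact sub_eq_zero.1 ((mul_eq_zero.1 this).resolve_right ht)
    have h0 : A 0 0 ≠ 0 := by
      intro h
      rw [h, h01] at e00
      simp at e00
    refine ⟨Units.mk0 (A 0 0) h0, ?_⟩
    apply LinearEquiv.toLinearMap_injective
    apply LinearMap.toMatrix'.injective
    rw [← hA]
    ext i j
    rw [LinearMap.toMatrix'_apply]
    change _ = (sc (Units.mk0 (A 0 0) h0)) _ i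
    rw [sc_apply]
    fin_cases i <;> fin_cases j
    · simp
    · simpa using h01
    · simpa using h10
    · simpa using h11.symm

section D2

variable [Fintype K] (two : (2 : K) ≠ 0) (SD : Sylow 2 Kˣ)

theorem D2_odd_sc : ∀ d : Kˣ, (∃ n : ℕ, d ^ 2 ^ n = 1) → d ∈ (SD : Subgroup Kˣ) := by
  rintro d ⟨n, hn⟩
  exact mem_sylow_of_comm SD hn

theorem D2_pow : ∀ d ∈ (SD : Subgroup Kˣ), ∃ n : ℕ, d ^ 2 ^ n = 1 := by
  intro d hd
  obtain ⟨n, hn⟩ := SD.2 ⟨d, hd⟩
  exact ⟨n, congrArg Subtype.val hn⟩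

theorem sc_P_of_sylow (P : Sylow 2 (G2 K)) (SD : Sylow 2 Kˣ) {d : Kˣ} (hd : sc d ∈ (P : Subgroup (G2 K))) :
    d ∈ (SD : Subgroup Kˣ) := by
  obtain ⟨n, hn⟩ := P.2 ⟨sc d, hd⟩
  have hn' : (sc d : G2 K) ^ 2 ^ n = 1 := congrArg Subtype.val hn
  let f0 : Kˣ →* G2 K := ⟨⟨sc, sc_one⟩, fun a b => sc_mul a b⟩
  have h1 : (sc (d ^ 2 ^ n) : G2 K) = sc 1 := by
    rw [sc_one, ← hn']
    exact map_pow f0 d _
  exact D2_odd_sc SD d ⟨n, sc_inj h1⟩

include two in
theorem D2_neg : (-1 : Kˣ) ∈ (SD : Subgroup Kˣ) ∧ (-1 : Kˣ) ≠ 1 := by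
  refine ⟨D2_odd_sc SD _ ⟨1, by simp only [_root_.pow_one, _root_.even_two, _root_.Even.neg_pow, _root_.one_pow]⟩, fun h => two ?_⟩
  have := congrArg Units.val h
  rw [Units.val_neg, Units.val_one] at this
  linear_combination -this

include two in
theorem D2_gen : ∃ ζ : Kˣ, ζ ∈ (SD : Subgroup Kˣ) ∧ (∀ d ∈ (SD : Subgroup Kˣ), d ∈ zpowers ζ) ∧ ∀ e : Kˣ, e * e ≠ ζ := by
  have hcyc : IsCyclic (SD : Subgroup Kˣ) := inferInstance
  obtain ⟨⟨ζ, hζ⟩, hg⟩ := hcyc.exists_generator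
  have hgen : ∀ d ∈ (SD : Subgroup Kˣ), d ∈ zpowers ζ := by
    intro d hd
    obtain ⟨k, hk⟩ := mem_zpowers_iff.1 (hg ⟨d, hd⟩)
    exact ⟨k, congrArg Subtype.val hk⟩
  refine ⟨ζ, hζ, hgen, fun e he => ?_⟩
  obtain ⟨n, hn⟩ := D2_pow SD ζ hζ
  have h1 : e ∈ (SD : Subgroup Kˣ) := D2_odd_sc SD e ⟨n + 1, by rw [pow_succ', pow_mul, pow_two, he, hn]⟩
  obtain ⟨k, rfl⟩ := mem_zpowers_iff.1 (hgen e h1)
  rw [← zpow_add] at he
  have h2 : ζ ^ (k + k - 1) = 1 := by rw [zpow_sub_one, he, mul_inv_cancel]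
  have h3 : (orderOf ζ : ℤ) ∣ k + k - 1 := orderOf_dvd_iff_zpow_eq_one.2 h2
  obtain ⟨i, -, hi⟩ := (Nat.dvd_prime_pow Nat.prime_two).1 (orderOf_dvd_of_pow_eq_one hn)
  have h4 : ζ ≠ 1 := by
    rintro rfl
    have h5 := hgen _ (D2_neg two SD).1
    rw [zpowers_one_eq_bot, mem_bot] at h5
    exact (D2_neg two SD).2 h5
  rcases Nat.eq_zero_or_pos i with h5 | h5
  · rw [h5, pow_zero, orderOf_eq_one_iff] at hi
    exact h4 hi
  · have h6 : (2 : ℤ) ∣ (orderOf ζ : ℤ) := by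
      rw [hi]
      exact_mod_cast dvd_pow_self 2 (by omega)
    have := h6.trans h3
    omega

end D2

/-- numerical facts about the groups of `PDat` : `ty` is true for the monomial type -/
structure NInfo (P M : Subgroup (G2 K)) (D2 : Subgroup Kˣ) (ty : Bool) (w : ℕ) : Prop where
  hw : 2 ≤ w
  hw3 : ty = false → 3 ≤ w
  exM : ∃ x ∈ M, orderOf x = 2 ^ w
  powM : ∀ x ∈ M, x ^ 2 ^ w = 1
  noinv : ∀ f ∈ P, ∃ x ∈ M, f * x * f⁻¹ ≠ x⁻¹
  cardM : Nat.card M = 2 ^ (if ty then 2 * w else w)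
  cardD : Nat.card D2 = 2 ^ (if ty then w else 1)

section one

/-- monomial matrices -/
def mono (D2 : Subgroup Kˣ) : Subgroup (G2 K) where
  carrier := {g | ∃ (d : Fin 2 → Kˣ) (σ : Perm (Fin 2)), (∀ i, d i ∈ D2) ∧ g = dg d * pm σ}
  mul_mem' := by
    rintro _ _ ⟨d, σ, hd, rfl⟩ ⟨d', σ', hd', rfl⟩
    refine ⟨d * (d' ∘ ⇑σ⁻¹), σ * σ', fun i => D2.mul_mem (hd i) (hd' _), ?_⟩
    rw [map_mul, map_mul, ← pm_dg]
    group
  one_mem' := ⟨1, 1, fun i => D2.one_mem, by rw [map_one, map_one, mul_one]⟩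
  inv_mem' := by
    rintro _ ⟨d, σ, hd, rfl⟩
    refine ⟨d⁻¹ ∘ ⇑σ, σ⁻¹, fun i => D2.inv_mem (hd _), ?_⟩
    have h1 := pm_dg (K := K) σ⁻¹ d⁻¹
    rw [inv_inv] at h1
    rw [← h1, map_inv, map_inv]
    group

/-- diagonal matrices -/
def diag (D2 : Subgroup Kˣ) : Subgroup (G2 K) := (Subgroup.pi Set.univ fun _ : Fin 2 => D2).map dg

theorem mem_diag {D2 : Subgroup Kˣ} {g : G2 K} : g ∈ diag D2 ↔ ∃ d : Fin 2 → Kˣ, (∀ i, d i ∈ D2) ∧ g = dg d := by
  constructor
  · rintro ⟨d, hd, rfl⟩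
    exact ⟨d, fun i => hd i (Set.mem_univ i), rfl⟩
  · rintro ⟨d, hd, rfl⟩
    exact ⟨d, fun i _ => hd i, rfl⟩

theorem perm_two (σ : Perm (Fin 2)) : σ = 1 ∨ σ = swap 0 1 := by
  revert σ; decide

theorem perm_of_eq {d d' : Fin 2 → Kˣ} {σ σ' : Perm (Fin 2)} (h : (dg d * pm σ : G2 K) = dg d' * pm σ') : σ = σ' ∧ d = d' := by
  have h1 : σ = σ' := by
    refine Equiv.ext fun j => ?_
    have h2 := congrFun (LinearEquiv.congr_fun h (Pi.single j 1)) (σ j)
    rw [LinearEquiv.mul_apply, LinearEquiv.mul_apply, dg_apply, dg_apply, pm_apply, pm_apply,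
      show σ⁻¹ (σ j) = j from σ.symm_apply_apply j, Pi.single_eq_same, mul_one] at h2
    by_contra hne
    rw [Pi.single_eq_of_ne, mul_zero] at h2
    · exact (d (σ j)).ne_zero h2
    · intro h3
      exact hne (Perm.inv_eq_iff_eq.1 h3)
  subst h1
  exact ⟨rfl, dg_injective (mul_right_cancel h)⟩

theorem card_mono (D2 : Subgroup Kˣ) : Nat.card (mono D2) = Nat.card D2 ^ 2 * 2 := by
  let f : (Fin 2 → D2) × Perm (Fin 2) → mono D2 := fun x => ⟨dg (fun i => (x.1 i : Kˣ)) * pm x.2, _, _, fun i => (x.1 i).2, rfl⟩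
  have hf : Function.Bijective f := by
    constructor
    · rintro ⟨d, σ⟩ ⟨d', σ'⟩ h
      obtain ⟨h1, h2⟩ := perm_of_eq (congrArg Subtype.val h)
      exact Prod.ext (funext fun i => Subtype.ext (congrFun h2 i)) h1
    · rintro ⟨_, d, σ, hd, rfl⟩
      exact ⟨(fun i => ⟨d i, hd i⟩, σ), rfl⟩
  rw [← Nat.card_congr (Equiv.ofBijective f hf), Nat.card_prod, Nat.card_fun, Nat.card_eq_fintype_card (α := Fin 2),
    Fintype.card_fin, Nat.card_perm, Nat.card_eq_fintype_card (α := Fin 2), Fintype.card_fin]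
  norm_num only []

theorem card_G2 [Fintype K] : Nat.card (G2 K) = Nat.card (GL (Fin 2) K) :=
  Nat.card_congr (glEquiv (K := K) (ι := Fin 2)).symm.toEquiv

/-- monomial matrices with entries in a cyclic 2-group of order at least 4 -/
theorem pdat_mono {D2 : Subgroup Kˣ} {ζ : Kˣ} (hζ : ζ ∈ D2) (hζg : ∀ d ∈ D2, d ∈ zpowers ζ) (hneg : (-1 : Kˣ) ∈ D2)
    {w : ℕ} (h4 : 2 ≤ w) (hζo : orderOf ζ = 2 ^ w) :
    PDat (mono D2) (diag D2) D2 (dg ![ζ, ζ⁻¹]) (dg ![1, -1] * pm (swap 0 1)) := by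
  obtain ⟨c0, hc0⟩ : ∃ c0 : G2 K, c0 = dg ![ζ, ζ⁻¹] := ⟨_, rfl⟩
  obtain ⟨t0, ht0⟩ : ∃ t0 : G2 K, t0 = dg ![1, -1] * pm (swap 0 1) := ⟨_, rfl⟩
  rw [← hc0, ← ht0]
  have hswn : ∀ d : Fin 2 → Kˣ, (dg d * pm (swap 0 1) : G2 K) ∉ diag D2 := by
    intro d h1
    obtain ⟨d', -, h2⟩ := mem_diag.1 h1
    have h3 := (perm_of_eq (d := d) (d' := d') (σ := swap 0 1) (σ' := 1) (by rw [h2, map_one, mul_one])).1
    exact absurd h3 (by decide)
  have hout : ∀ f ∈ mono D2, f ∉ diag D2 → ∃ d : Fin 2 → Kˣ, (∀ i, d i ∈ D2) ∧ f = dg d * pm (swap 0 1) := by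
    rintro _ ⟨d, σ, hd, rfl⟩ hf
    rcases perm_two σ with rfl | rfl
    · exact absurd (mem_diag.2 ⟨d, hd, by rw [map_one, mul_one]⟩) hf
    · exact ⟨d, hd, rfl⟩
  have hconj : ∀ d e : Fin 2 → Kˣ, (dg d * pm (swap 0 1) : G2 K) * dg e * (dg d * pm (swap 0 1))⁻¹ = dg (e ∘ ⇑(swap (0 : Fin 2) 1)) := by
    intro d e
    have h1 := pm_dg (K := K) (swap (0 : Fin 2) 1) e
    rw [swap_inv] at h1
    calc (dg d * pm (swap 0 1) : G2 K) * dg e * (dg d * pm (swap 0 1))⁻¹ = dg d * (pm (swap 0 1) * dg e * (pm (swap 0 1))⁻¹) * (dg d)⁻¹ := by group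
      _ = dg (d * (e ∘ ⇑(swap (0 : Fin 2) 1)) * d⁻¹) := by rw [h1, map_mul, map_mul, map_inv]
      _ = _ := by rw [mul_comm d, mul_inv_cancel_right]
  have hczpow : ∀ n : ℤ, c0 ^ n = dg ![ζ ^ n, (ζ ^ n)⁻¹] := by
    intro n
    rw [hc0, ← map_zpow]
    congr 1
    funext i
    fin_cases i
    · rfl
    · change (ζ⁻¹) ^ n = (ζ ^ n)⁻¹
      rw [inv_zpow]
  have hcpow : ∀ n : ℕ, c0 ^ n = dg ![ζ ^ n, (ζ ^ n)⁻¹] := by
    intro n
    have := hczpow n
    rwa [zpow_natCast, zpow_natCast] at this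
  have hdg : ∀ d : Fin 2 → Kˣ, (∀ i, d i ∈ D2) → (dg d : G2 K) ∈ mono D2 := fun d hd => ⟨d, 1, hd, by rw [map_one, mul_one]⟩
  exact
  { MP := by
      intro g hg
      obtain ⟨d, hd, rfl⟩ := mem_diag.1 hg
      exact hdg d hd
    comm := by
      intro a ha b hb
      obtain ⟨d, hd, rfl⟩ := mem_diag.1 ha
      obtain ⟨e, he, rfl⟩ := mem_diag.1 hb
      rw [← map_mul, ← map_mul, mul_comm]
    two := by
      intro f hf g hg hfM hgM
      obtain ⟨d, hd, rfl⟩ := hout f hf hfM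
      obtain ⟨e, he, rfl⟩ := hout g hg hgM
      refine mem_diag.2 ⟨d * (e ∘ ⇑(swap (0 : Fin 2) 1)), fun i => D2.mul_mem (hd i) (he _), ?_⟩
      have h1 := pm_dg (K := K) (swap (0 : Fin 2) 1) e
      rw [swap_inv] at h1
      have h2 : (pm (swap 0 1) : G2 K) * pm (swap 0 1) = 1 := by rw [← map_mul, Equiv.swap_mul_self, map_one]
      rw [map_mul, ← h1]
      calc (dg d * pm (swap 0 1) : G2 K) * (dg e * pm (swap 0 1))
          = dg d * (pm (swap 0 1) * dg e * (pm (swap 0 1))⁻¹) * (pm (swap 0 1) * pm (swap 0 1)) := by group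
        _ = _ := by rw [h2, mul_one]
    det_mem := by
      rintro _ ⟨d, σ, hd, rfl⟩
      rw [map_mul, det_dg, Fin.prod_univ_two]
      refine D2.mul_mem (D2.mul_mem (hd 0) (hd 1)) ?_
      rw [det_pm]
      rcases perm_two σ with rfl | rfl
      · rw [map_one, map_one]
        exact D2.one_mem
      · rw [Perm.sign_swap (by decide)]
        have h5 : Units.map (Int.castRingHom K).toMonoidHom (-1 : ℤˣ) = -1 := by ext; simp only [_root_.RingHom.toMonoidHom_eq_coe, _root_.Units.map_neg, _root_.map_one, _root_.Units.val_neg, _root_.Units.val_one]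
        rw [h5]
        exact hneg
    sc_mem := fun d hd => mem_diag.2 ⟨fun _ => d, fun _ => hd, rfl⟩
    c0M := by
      rw [hc0]
      exact mem_diag.2 ⟨_, by intro i; fin_cases i; exacts [hζ, D2.inv_mem hζ], rfl⟩
    c0det := by rw [hc0, det_dg, Fin.prod_univ_two]; simp
    c0ord := by
      refine ⟨_, h4, ?_⟩
      rw [← hζo]
      apply Nat.dvd_antisymm
      · apply orderOf_dvd_of_pow_eq_one
        rw [hcpow, pow_orderOf_eq_one, inv_one]
        have : (![1, 1] : Fin 2 → Kˣ) = 1 := by funext i; fin_cases i <;> rfl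
        rw [this, map_one]
      · apply orderOf_dvd_of_pow_eq_one
        have h1 := hcpow (orderOf c0)
        rw [pow_orderOf_eq_one, ← map_one dg] at h1
        exact (congrFun (dg_injective h1) 0).symm
    c0gen := by
      intro a ha hd
      obtain ⟨d, hd', rfl⟩ := mem_diag.1 ha
      rw [det_dg, Fin.prod_univ_two] at hd
      obtain ⟨k, hk⟩ := mem_zpowers_iff.1 (hζg _ (hd' 0))
      refine ⟨k, ?_⟩
      change c0 ^ k = dg d
      rw [hczpow, hk]
      congr 1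
      funext i
      fin_cases i
      · rfl
      · change (d 0)⁻¹ = d 1
        exact inv_eq_of_mul_eq_one_right hd
    inv := by
      intro f hf hfM
      obtain ⟨d, hd, rfl⟩ := hout f hf hfM
      rw [hc0, hconj, ← map_inv]
      congr 1
      funext i
      (revert i; simp only [_root_.Fin.forall_fin_succ, _root_.Nat.succ_eq_add_one, Nat.reduceAdd, Fin.isValue, _root_.Function.comp_apply, _root_.Pi.inv_apply, _root_.Equiv.swap_apply_left, _root_.Matrix.cons_val_one, _root_.Matrix.cons_val_fin_one, _root_.Matrix.cons_val_zero, _root_.Matrix.cons_val_succ, _root_.inv_inv, _root_.Fin.succ_zero_eq_one, _root_.Equiv.swap_apply_right, _root_.IsEmpty.forall_iff, _root_.and_self])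
    usurj := by
      intro f hf hfM
      obtain ⟨d, hd, rfl⟩ := hout f hf hfM
      refine ⟨dg ![1, ζ], mem_diag.2 ⟨_, by intro i; fin_cases i; exacts [D2.one_mem, hζ], rfl⟩, ?_⟩
      rw [hconj, hc0, ← map_inv, ← map_mul]
      congr 1
      funext i
      (revert i; simp only [_root_.Fin.forall_fin_succ, Fin.isValue, _root_.Matrix.cons_cons_comp_swap_zero_one, _root_.Nat.succ_eq_add_one, Nat.reduceAdd, _root_.Pi.mul_apply, _root_.Pi.inv_apply, _root_.Matrix.cons_val_zero, _root_.inv_one, _root_.mul_one, _root_.Matrix.cons_val_succ, _root_.Matrix.cons_val_fin_one, _root_.one_mul, _root_.implies_true, _root_.and_self])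
    fix := by
      intro f hf hfM a ha hfa
      obtain ⟨d, hd, rfl⟩ := hout f hf hfM
      obtain ⟨e, he, rfl⟩ := mem_diag.1 ha
      have h1 := hconj d e
      rw [hfa, mul_inv_cancel_right] at h1
      have h2 := congrFun (dg_injective h1) 0
      refine ⟨e 0, ?_⟩
      rw [sc]
      congr 1
      funext i
      fin_cases i
      · rfl
      · simpa using h2.symm
    dsurj := by
      intro d hd
      refine ⟨dg ![d, 1], mem_diag.2 ⟨_, by intro i; fin_cases i; exacts [hd, D2.one_mem], rfl⟩, ?_⟩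
      rw [det_dg, Fin.prod_univ_two]
      simp
    t0P := by
      rw [ht0]
      exact ⟨_, _, by intro i; fin_cases i; exacts [D2.one_mem, hneg], rfl⟩
    t0M := by
      rw [ht0]
      exact hswn _
    t0det := by
      rw [ht0, map_mul, det_dg, det_pm, Fin.prod_univ_two, Perm.sign_swap (by decide)]
      simp only [_root_.Nat.succ_eq_add_one, _root_.Nat.reduceAdd, _root_.Fin.isValue, _root_.Matrix.cons_val_zero, _root_.Matrix.cons_val_one, _root_.Matrix.cons_val_fin_one, _root_.mul_neg, _root_.mul_one, _root_.RingHom.toMonoidHom_eq_coe, _root_.Units.map_neg, _root_.map_one, _root_.neg_neg]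
    neg := by
      obtain ⟨k, hk⟩ := mem_zpowers_iff.1 (hζg _ hneg)
      refine ⟨k, ?_⟩
      rw [hczpow, hk, sc]
      congr 1
      funext i
      fin_cases i
      · rfl
      · change (-1 : Kˣ)⁻¹ = -1
        exact inv_eq_of_mul_eq_one_left (by simp)
    nonsq := by
      refine ⟨ζ, hζ, fun e he hee => ?_⟩
      obtain ⟨k, rfl⟩ := mem_zpowers_iff.1 (hζg e he)
      rw [← zpow_add] at hee
      have h2 : ζ ^ (k + k - 1) = 1 := by rw [zpow_sub_one, hee, mul_inv_cancel]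
      have h3 : (orderOf ζ : ℤ) ∣ k + k - 1 := orderOf_dvd_iff_zpow_eq_one.2 h2
      have h6 : (2 : ℤ) ∣ (orderOf ζ : ℤ) := by
        rw [hζo]
        exact_mod_cast dvd_pow_self 2 (by omega)
      have := h6.trans h3
      omega
    sc_P := by
      rintro d ⟨d', σ, hd', h5⟩
      have h6 : (dg (fun _ => d) * pm 1 : G2 K) = dg d' * pm σ := by rw [map_one, mul_one, ← h5]; rfl
      have h7 := (perm_of_eq h6).2
      have h8 : d = d' 0 := congrFun h7 0
      rw [h8]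
      exact hd' 0 }

theorem ninfo_mono {D2 : Subgroup Kˣ} {ζ : Kˣ} (hζ : ζ ∈ D2) (hζg : ∀ d ∈ D2, d ∈ zpowers ζ)
    {w : ℕ} (h4 : 2 ≤ w) (hζo : orderOf ζ = 2 ^ w) (P : Subgroup (G2 K)) : NInfo P (diag D2) D2 true w := by
  have hcD : Nat.card D2 = 2 ^ w := by
    rw [← hζo, ← Nat.card_zpowers]
    congr 1
    have : zpowers ζ = D2 := le_antisymm (by rw [zpowers_le]; exact hζ) (fun d hd => hζg d hd)
    rw [this]
  have hpow : ∀ d ∈ D2, d ^ 2 ^ w = 1 := by
    intro d hd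
    obtain ⟨k, rfl⟩ := mem_zpowers_iff.1 (hζg d hd)
    rw [← zpow_natCast, ← zpow_mul, mul_comm, zpow_mul, zpow_natCast, ← hζo, pow_orderOf_eq_one, one_zpow]
  have hinj : Function.Injective (fun d : Kˣ => (sc d : G2 K)) := fun a b h => sc_inj h
  let f0 : Kˣ →* G2 K := ⟨⟨sc, sc_one⟩, fun a b => sc_mul a b⟩
  have hf0 : Function.Injective f0 := hinj
  refine ⟨h4, fun h => by simp at h, ⟨sc ζ, mem_diag.2 ⟨fun _ => ζ, fun _ => hζ, rfl⟩, ?_⟩, ?_, ?_, ?_, ?_⟩
  · rw [← hζo]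
    exact orderOf_injective f0 hf0 ζ
  · intro x hx
    obtain ⟨d, hd, rfl⟩ := mem_diag.1 hx
    rw [← map_pow]
    have : d ^ 2 ^ w = 1 := funext fun i => hpow _ (hd i)
    rw [this, map_one]
  · intro f hf
    refine ⟨sc ζ, mem_diag.2 ⟨fun _ => ζ, fun _ => hζ, rfl⟩, fun h => ?_⟩
    rw [← sc_comm, mul_inv_cancel_right, sc_inv] at h
    have h1 := sc_inj h
    have h2 : ζ ^ 2 = 1 := by rw [pow_two]; nth_rw 2 [h1]; exact mul_inv_cancel _
    have h3 := orderOf_dvd_of_pow_eq_one h2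
    rw [hζo] at h3
    have h5 : (2 : ℕ) ^ 2 ∣ 2 := (pow_dvd_pow 2 h4).trans h3
    norm_num at h5
  · have h1 : Nat.card (diag D2 : Subgroup (G2 K)) = Nat.card (Fin 2 → D2) := by
      refine (Nat.card_congr (Equiv.ofBijective (fun d : Fin 2 → D2 => (⟨dg fun i => (d i : Kˣ), mem_diag.2 ⟨_, fun i => (d i).2, rfl⟩⟩ : diag D2))
        ⟨fun a b h => ?_, ?_⟩)).symm
      · have h2 := dg_injective (congrArg Subtype.val h)
        exact funext fun i => Subtype.ext (congrFun h2 i)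
      · rintro ⟨g, hg⟩
        obtain ⟨d, hd, rfl⟩ := mem_diag.1 hg
        exact ⟨fun i => ⟨d i, hd i⟩, rfl⟩
    rw [h1, Nat.card_fun, hcD, Nat.card_eq_fintype_card (α := Fin 2), Fintype.card_fin, if_pos rfl, ← pow_mul]
    congr 1
    ring
  · rw [hcD, if_pos rfl]

/-- `q ≡ 1 (mod 4)` -/
theorem pdat_one_info [Fintype K] (hq : Fintype.card K % 4 = 1) :
    ∃ (P : Sylow 2 (G2 K)) (SD : Sylow 2 Kˣ) (M : Subgroup (G2 K)) (c0 t0 : G2 K),
      PDat (P : Subgroup (G2 K)) M (SD : Subgroup Kˣ) c0 t0 ∧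
        NInfo (P : Subgroup (G2 K)) M (SD : Subgroup Kˣ) true ((Fintype.card K - 1).factorization 2) := by
  have hp : Fact (Nat.Prime 2) := ⟨Nat.prime_two⟩
  have hodd : Odd (Fintype.card K) := by rw [Nat.odd_iff]; omega
  have two : (2 : K) ≠ 0 := two_of_odd hodd
  have h1K : 1 < Fintype.card K := Fintype.one_lt_card
  have hf1 : Finite (G2 K) := Finite.of_injective _ DFunLike.coe_injective
  let SD : Sylow 2 Kˣ := default
  have hSDcard : Nat.card (SD : Subgroup Kˣ) = 2 ^ (Fintype.card K - 1).factorization 2 := by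
    rw [SD.card_eq_multiplicity, Nat.card_units, Nat.card_eq_fintype_card]
  have hfac : (Fintype.card K + 1).factorization 2 = 1 := S1217.factorization_two_of_mod (by omega)
  have hcardP : Nat.card (mono (SD : Subgroup Kˣ)) = 2 ^ (Nat.card (G2 K)).factorization 2 := by
    rw [card_mono, hSDcard, card_G2, S1217.factorization_gl_two (by omega), hfac, ← pow_mul, ← pow_succ]
    congr 1
    ring
  let P : Sylow 2 (G2 K) := Sylow.ofCard _ hcardP
  obtain ⟨ζ, hζ, hζg, hζn⟩ := D2_gen two SD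
  have hneg := D2_neg two SD
  have h4 : 2 ≤ (Fintype.card K - 1).factorization 2 := by
    rw [← Nat.Prime.pow_dvd_iff_le_factorization Nat.prime_two (by omega)]
    omega
  have hζo : orderOf ζ = 2 ^ (Fintype.card K - 1).factorization 2 := by
    rw [← hSDcard, ← Nat.card_zpowers]
    congr 1
    have : zpowers ζ = (SD : Subgroup Kˣ) := le_antisymm (by rw [zpowers_le]; exact hζ) (fun d hd => hζg d hd)
    rw [this]
  exact ⟨P, SD, diag (SD : Subgroup Kˣ), _, _, pdat_mono hζ hζg hneg.1 h4 hζo, ninfo_mono hζ hζg h4 hζo _⟩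

/-- `q ≡ 1 (mod 4)` -/
theorem pdat_one [Fintype K] (hq : Fintype.card K % 4 = 1) :
    ∃ (P : Sylow 2 (G2 K)) (SD : Sylow 2 Kˣ) (M : Subgroup (G2 K)) (c0 t0 : G2 K),
      PDat (P : Subgroup (G2 K)) M (SD : Subgroup Kˣ) c0 t0 := by
  obtain ⟨P, SD, M, c0, t0, h, -⟩ := pdat_one_info hq
  exact ⟨P, SD, M, c0, t0, h⟩

end one

section three

/-- `q ≡ 3 (mod 4)` -/
theorem pdat_three_info [Fintype K] (hq : Fintype.card K % 4 = 3) :
    ∃ (P : Sylow 2 (G2 K)) (SD : Sylow 2 Kˣ) (M : Subgroup (G2 K)) (c0 t0 : G2 K),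
      PDat (P : Subgroup (G2 K)) M (SD : Subgroup Kˣ) c0 t0 ∧
        NInfo (P : Subgroup (G2 K)) M (SD : Subgroup Kˣ) false ((Fintype.card K + 1).factorization 2 + 1) := by
  have hp : Fact (Nat.Prime 2) := ⟨Nat.prime_two⟩
  have hodd : Odd (Fintype.card K) := by rw [Nat.odd_iff]; omega
  have two : (2 : K) ≠ 0 := two_of_odd hodd
  have h1K : 1 < Fintype.card K := Fintype.one_lt_card
  have hf1 : Finite (G2 K) := Finite.of_injective _ DFunLike.coe_injective
  let P0 : Sylow 2 (GL (Fin 2) K) := default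
  obtain ⟨n, hn3, hcard, x, y, hx, hy, hyx⟩ := S1217.qd_case P0 hq
  let P : Sylow 2 (G2 K) := P0.mapSurjective (f := (glEquiv (K := K) (ι := Fin 2)).toMonoidHom) glEquiv.surjective
  have hP : (P : Subgroup (G2 K)) = (P0 : Subgroup (GL (Fin 2) K)).map (glEquiv (K := K) (ι := Fin 2)).toMonoidHom :=
    Sylow.coe_mapSurjective _ _
  set X : G2 K := glEquiv (x : GL (Fin 2) K) with hX
  set Y : G2 K := glEquiv (y : GL (Fin 2) K) with hY
  have hXP : X ∈ (P : Subgroup (G2 K)) := by rw [hP]; exact ⟨x, x.2, rfl⟩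
  have hYP : Y ∈ (P : Subgroup (G2 K)) := by rw [hP]; exact ⟨y, y.2, rfl⟩
  have hXo : orderOf X = 2 ^ n := by
    rw [hX, MulEquiv.orderOf_eq, orderOf_coe, hx]
  have hYo : orderOf Y = 2 := by
    rw [hY, MulEquiv.orderOf_eq, orderOf_coe, hy]
  have hYX : Y * X * Y⁻¹ = X ^ (2 ^ (n - 1) - 1) := by
    rw [hX, hY, ← map_inv, ← map_mul, ← map_mul, ← map_pow]
    congr 1
    exact congrArg Subtype.val hyx
  have hPcard : Nat.card (P : Subgroup (G2 K)) = 2 ^ (n + 1) := by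
    rw [hP, card_map_of_injective glEquiv.injective, hcard]
  have hYY : Y * Y = 1 := by
    have := pow_orderOf_eq_one Y
    rwa [hYo, pow_two] at this
  have h2n : (2 : ℕ) ^ n = 2 ^ (n - 1) * 2 := by rw [← pow_succ]; congr 1; omega
  have h2n' : (2 : ℕ) ^ (n - 1) = 2 ^ (n - 2) * 2 := by rw [← pow_succ]; congr 1; omega
  have h4 : 2 ≤ (2 : ℕ) ^ (n - 2) := by
    calc 2 = 2 ^ 1 := rfl
      _ ≤ 2 ^ (n - 2) := Nat.pow_le_pow_right (by norm_num) (by omega)
  have hYXz : Y * X * Y⁻¹ = X ^ ((2 : ℤ) ^ (n - 1) - 1) := by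
    rw [hYX, ← zpow_natCast]
    congr 1
    have : 1 ≤ (2 : ℕ) ^ (n - 1) := Nat.one_le_two_pow
    push_cast [this]
    ring
  have hconjY : ∀ k : ℤ, Y * X ^ k * Y⁻¹ = X ^ (k * ((2 : ℤ) ^ (n - 1) - 1)) := by
    intro k
    have : Y * X ^ k * Y⁻¹ = (Y * X * Y⁻¹) ^ k := by
      exact (MulAut.conj Y).toMonoidHom.map_zpow X k |>.trans rfl
    rw [this, hYXz, ← zpow_mul, mul_comm]
  -- the divisibility criterion
  have hzero : ∀ k : ℤ, X ^ k = 1 ↔ (2 : ℤ) ^ n ∣ k := by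
    intro k
    rw [← orderOf_dvd_iff_zpow_eq_one, hXo]
    push_cast
    rfl
  set M : Subgroup (G2 K) := zpowers X with hM
  have hMcard : Nat.card M = 2 ^ n := by rw [hM, Nat.card_zpowers, hXo]
  have hMP : M ≤ (P : Subgroup (G2 K)) := by rw [hM, zpowers_le]; exact hXP
  have hrel : M.relIndex (P : Subgroup (G2 K)) = 2 := by
    have h1 := relIndex_mul_relIndex (⊥ : Subgroup (G2 K)) M P bot_le hMP
    rw [relIndex_bot_left, relIndex_bot_left, hPcard, hMcard, pow_succ] at h1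
    exact Nat.eq_of_mul_eq_mul_left (by positivity) h1
  have hmul : ∀ f ∈ (P : Subgroup (G2 K)), ∀ g ∈ (P : Subgroup (G2 K)), (f * g ∈ M ↔ (f ∈ M ↔ g ∈ M)) := by
    intro f hf g hg
    exact @mul_mem_iff_of_index_two _ _ (M.subgroupOf (P : Subgroup (G2 K))) hrel ⟨f, hf⟩ ⟨g, hg⟩
  have hcomm : ∀ a ∈ M, ∀ b ∈ M, a * b = b * a := by
    rintro _ ⟨i, rfl⟩ _ ⟨j, rfl⟩
    change X ^ i * X ^ j = X ^ j * X ^ i
    rw [← zpow_add, ← zpow_add, add_comm]
  have h5 : (2 : ℤ) ^ n = (2 : ℤ) ^ (n - 2) * 4 := by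
    rw [show n = n - 2 + 2 by omega, pow_add]; norm_num only [_root_.add_tsub_cancel_right]
  have h6 : (2 : ℤ) ^ (n - 1) = (2 : ℤ) ^ (n - 2) * 2 := by
    rw [show n - 1 = n - 2 + 1 by omega, pow_add]; norm_num
  have h7 : (2 : ℤ) ≤ (2 : ℤ) ^ (n - 2) := by exact_mod_cast h4
  have hX2 : X ≠ X ^ ((2 : ℤ) ^ (n - 1) - 1) := by
    intro h1
    have h3 : X ^ ((2 : ℤ) ^ (n - 1) - 2) = 1 := by
      have : X ^ ((2 : ℤ) ^ (n - 1) - 2) = X ^ ((2 : ℤ) ^ (n - 1) - 1) * X⁻¹ := by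
        rw [← zpow_sub_one]; congr 1; ring
      rw [this, ← h1, mul_inv_cancel]
    rw [hzero, h5, h6] at h3
    have h8 := Int.le_of_dvd (by linarith only [h4]) h3
    linarith only [h4, h8]
  have hYM : Y ∉ M := by
    intro h1
    have h2 := hcomm Y h1 X (mem_zpowers X)
    rw [h2, mul_inv_cancel_right] at hYXz
    exact hX2 hYXz
  -- every element outside `M`
  have hout : ∀ f ∈ (P : Subgroup (G2 K)), f ∉ M → ∀ k : ℤ, f * X ^ k * f⁻¹ = X ^ (k * ((2 : ℤ) ^ (n - 1) - 1)) := by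
    intro f hf hfM k
    have h1 : f * Y⁻¹ ∈ M := (hmul _ hf _ (inv_mem hYP)).2 ⟨fun h => absurd h hfM, fun h => absurd (inv_mem_iff.1 h) hYM⟩
    have h2 : f * X ^ k * f⁻¹ = (f * Y⁻¹) * (Y * X ^ k * Y⁻¹) * (f * Y⁻¹)⁻¹ := by group
    rw [h2, hconjY, hcomm _ h1 _ (zpow_mem (mem_zpowers X) _), mul_inv_cancel_right]
  have hnegP : sc (-1) ∈ (P : Subgroup (G2 K)) := by
    have h1 : (sc (-1) : G2 K) ^ 2 ^ 1 = 1 := by rw [pow_one, pow_two, ← sc_mul]; simp [sc_one]
    obtain ⟨k, hk⟩ := ClosedTwo.Elem.exists_conj_le P (isPGroup_zpowers h1)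
    have := hk _ (mem_zpowers _)
    rwa [← sc_comm, mul_inv_cancel_right] at this
  have hnegM : sc (-1) ∈ M := by
    by_contra h1
    have h2 := hout _ hnegP h1 1
    rw [zpow_one, sc_comm, mul_inv_cancel_right, one_mul] at h2
    exact hX2 h2
  have hneg1 : (sc (-1) : G2 K) ≠ 1 := by
    intro h1
    rw [← sc_one] at h1
    exact (D2_neg two default).2 (sc_inj h1)
  -- `-1` is the involution of `M`
  have hinvM : X ^ ((2 : ℤ) ^ (n - 1)) = sc (-1) := by
    obtain ⟨k, hk⟩ := mem_zpowers_iff.1 hnegM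
    have e1 : X ^ (k + k) = 1 := by rw [zpow_add, hk, ← sc_mul]; simp [sc_one]
    rw [hzero] at e1
    have e2 : ¬ (2 : ℤ) ^ n ∣ k := by rw [← hzero, hk]; exact hneg1
    obtain ⟨m, hm⟩ := e1
    have e3 : k = (2 : ℤ) ^ (n - 1) * m := by
      have : (2 : ℤ) ^ n = 2 ^ (n - 1) * 2 := by rw [← pow_succ]; congr 1; omega
      rw [this] at hm
      linarith only [hm]
    have e4 : ¬ (2 : ℤ) ∣ m := by
      rintro ⟨l, rfl⟩
      apply e2
      refine ⟨l, ?_⟩
      have : (2 : ℤ) ^ n = 2 ^ (n - 1) * 2 := by rw [← pow_succ]; congr 1; omega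
      rw [e3, this]; ring
    obtain ⟨l, hl⟩ : ∃ l, m = 2 * l + 1 := by
      rcases Int.even_or_odd m with ⟨l, hl⟩ | ⟨l, hl⟩
      · exact absurd ⟨l, by rw [hl]; ring⟩ e4
      · exact ⟨l, hl⟩
    have e5 : k = (2 : ℤ) ^ n * l + (2 : ℤ) ^ (n - 1) := by
      have : (2 : ℤ) ^ n = 2 ^ (n - 1) * 2 := by rw [← pow_succ]; congr 1; omega
      rw [e3, this, hl]; ring
    rw [← hk, e5, zpow_add, (hzero _).2 (dvd_mul_right _ _), one_mul]
  -- the 2-elements of the field
  have hD2 : ∀ d : Kˣ, (∃ m : ℕ, d ^ 2 ^ m = 1) → d = 1 ∨ d = -1 := by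
    rintro d ⟨m, hm⟩
    have e1 : d ^ (Fintype.card K - 1) = 1 := by
      classical
      rw [← Fintype.card_units]; exact pow_card_eq_one
    have e2 : orderOf d ∣ 2 := by
      obtain ⟨i, -, hi⟩ := (Nat.dvd_prime_pow Nat.prime_two).1 (orderOf_dvd_of_pow_eq_one hm)
      have e3 := orderOf_dvd_of_pow_eq_one e1
      rw [hi] at e3 ⊢
      rcases Nat.lt_or_ge i 2 with hi2 | hi2
      · interval_cases i <;> norm_num
      · exfalso
        have : 2 ^ 2 ∣ Fintype.card K - 1 := (pow_dvd_pow 2 hi2).trans e3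
        omega
    have e3 : (d : K) * d = 1 := by
      have := orderOf_dvd_iff_pow_eq_one.1 e2
      rw [pow_two] at this
      rw [← Units.val_mul, this, Units.val_one]
    rcases mul_self_eq_one_iff.1 e3 with h | h
    · exact Or.inl (Units.ext h)
    · exact Or.inr (Units.ext (by rw [h, Units.val_neg, Units.val_one]))
  have hdetP : ∀ f ∈ (P : Subgroup (G2 K)), LinearEquiv.det f = 1 ∨ LinearEquiv.det f = -1 := by
    intro f hf
    obtain ⟨m, hm⟩ := P.2 ⟨f, hf⟩
    have hm' : f ^ 2 ^ m = 1 := congrArg Subtype.val hm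
    exact hD2 _ ⟨m, by rw [← map_pow, hm', map_one]⟩
  have hYX' : Y * X ≠ X * Y := fun h1 => hX2 (by rw [← hYXz, h1, mul_inv_cancel_right])
  have hYne : Y ≠ 1 ∧ Y ≠ sc (-1) := by
    constructor
    · intro h1; apply hYX'; rw [h1, one_mul, mul_one]
    · intro h1; apply hYX'; rw [h1, sc_comm]
  have hYdet : LinearEquiv.det Y = -1 := by
    rcases hdetP Y hYP with h1 | h1
    · rcases eq_of_sq two hYY h1 with h2 | h2
      · exact absurd h2 hYne.1
      · exact absurd h2 hYne.2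
    · exact h1
  have hXYsq : (X * Y) * (X * Y) = sc (-1) := by
    have e1 : (X * Y) * (X * Y) = X * (Y * X * Y⁻¹) * (Y * Y) := by group
    rw [e1, hYXz, hYY, mul_one, ← zpow_one_add, ← hinvM]
    congr 1
    ring
  have hXYdet : LinearEquiv.det (X * Y) = 1 := by
    rcases det_of_sq_neg hXYsq with h1 | ⟨μ, h1⟩
    · exact h1
    · exfalso
      have e1 : (X * Y) * X = X * (X * Y) := by rw [h1, sc_comm]
      apply hYX'
      have e2 : X * (Y * X) = X * (X * Y) := by rw [← mul_assoc]; exact e1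
      exact mul_left_cancel e2
  have hXdet : LinearEquiv.det X = -1 := by
    rw [map_mul, hYdet] at hXYdet
    have := mul_eq_one_iff_eq_inv.1 hXYdet
    rw [this]
    exact inv_eq_of_mul_eq_one_left (by simp)
  have hc0 : X * X = X ^ (2 : ℤ) := by rw [zpow_two]
  let SD : Sylow 2 Kˣ := default
  have hdet : ∀ f ∈ (P : Subgroup (G2 K)), LinearEquiv.det f ∈ (SD : Subgroup Kˣ) := by
    intro f hf
    rcases hdetP f hf with h1 | h1
    · rw [h1]; exact one_mem _
    · rw [h1]; exact (D2_neg two SD).1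
  have hSD : ∀ d ∈ (SD : Subgroup Kˣ), d = 1 ∨ d = -1 := fun d hd => hD2 d (D2_pow SD d hd)
  have hnw : (Fintype.card K + 1).factorization 2 + 1 = n := by
    have e1 := P.card_eq_multiplicity
    have e2 : (Fintype.card K - 1).factorization 2 = 1 := S1217.factorization_two_of_mod (by omega)
    rw [hPcard, card_G2, S1217.factorization_gl_two (by omega), e2] at e1
    have e3 := Nat.pow_right_injective le_rfl e1
    omega
  refine ⟨P, SD, M, X * X, X * Y, ?_, ?_⟩
  swap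
  · rw [hnw]
    refine ⟨by omega, fun _ => hn3, ⟨X, mem_zpowers X, hXo⟩, ?_, ?_, by rw [hMcard]; rfl, ?_⟩
    · rintro _ ⟨k, rfl⟩
      change (X ^ k) ^ 2 ^ n = 1
      rw [← zpow_natCast, ← zpow_mul, mul_comm, zpow_mul, zpow_natCast, ← hXo, pow_orderOf_eq_one, one_zpow]
    · intro f hf
      refine ⟨X, mem_zpowers X, fun h1 => ?_⟩
      by_cases hfM : f ∈ M
      · rw [hcomm f hfM X (mem_zpowers X), mul_inv_cancel_right] at h1
        have h2 : X ^ (2 : ℤ) = 1 := by rw [zpow_two]; nth_rw 2 [h1]; exact mul_inv_cancel _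
        rw [hzero, h5] at h2
        have h8 := Int.le_of_dvd (by norm_num) h2
        linarith only [h4, h8]
      · have h2 := hout f hf hfM 1
        rw [zpow_one, h1, one_mul] at h2
        have h3 : X ^ ((2 : ℤ) ^ (n - 1)) = 1 := by
          have : X ^ ((2 : ℤ) ^ (n - 1)) = X ^ ((2 : ℤ) ^ (n - 1) - 1) * X := by
            rw [← zpow_add_one]; congr 1; ring
          rw [this, ← h2, inv_mul_cancel]
        rw [hinvM] at h3
        exact hneg1 h3
    · have h1 : Nat.card (SD : Subgroup Kˣ) = 2 := by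
        have h2 : (SD : Subgroup Kˣ) = zpowers (-1) := by
          refine le_antisymm (fun d hd => ?_) (by rw [zpowers_le]; exact (D2_neg two SD).1)
          rcases hSD d hd with rfl | rfl
          · exact one_mem _
          · exact mem_zpowers _
        rw [h2, Nat.card_zpowers]
        exact orderOf_eq_prime (by simp only [_root_.even_two, _root_.Even.neg_pow, _root_.one_pow]) (D2_neg two SD).2
      rw [h1]; rfl
  exact
  { MP := hMP
    comm := hcomm
    two := fun f hf g hg hfM hgM => (hmul f hf g hg).2 ⟨fun h => absurd h hfM, fun h => absurd h hgM⟩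
    det_mem := hdet
    sc_mem := by
      intro d hd
      rcases hSD d hd with rfl | rfl
      · rw [sc_one]; exact one_mem _
      · exact hnegM
    c0M := mul_mem (mem_zpowers X) (mem_zpowers X)
    c0det := by rw [map_mul, hXdet]; simp
    c0ord := by
      refine ⟨n - 1, by omega, ?_⟩
      rw [← pow_two, orderOf_pow_of_dvd (by norm_num) (by rw [hXo]; exact dvd_pow_self 2 (by omega)), hXo, h2n]
      simp only [_root_.ne_eq, _root_.OfNat.ofNat_ne_zero, _root_.not_false_eq_true, _root_.mul_div_cancel_right₀]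
    c0gen := by
      rintro _ ⟨k, rfl⟩ hk
      change LinearEquiv.det (X ^ k) = 1 at hk
      rw [map_zpow, hXdet] at hk
      have : Even k := by
        rcases Int.even_or_odd k with h | h
        · exact h
        · exfalso
          rw [h.neg_one_zpow] at hk
          exact (D2_neg two SD).2 hk
      obtain ⟨l, rfl⟩ := this
      refine ⟨l, ?_⟩
      change (X * X) ^ l = X ^ (l + l)
      rw [hc0, ← zpow_mul]
      congr 1
      ring
    inv := by
      intro f hf hfM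
      rw [hc0, hout f hf hfM, ← zpow_neg]
      have e1 : (2 : ℤ) * ((2 : ℤ) ^ (n - 1) - 1) = (2 : ℤ) ^ n + -2 := by
        have : (2 : ℤ) ^ n = 2 ^ (n - 1) * 2 := by rw [← pow_succ]; congr 1; omega
        rw [this]; ring
      rw [e1, zpow_add, (hzero _).2 dvd_rfl, one_mul]
    usurj := by
      intro f hf hfM
      refine ⟨X ^ (-((2 : ℤ) ^ (n - 2) + 1)), zpow_mem (mem_zpowers X) _, ?_⟩
      rw [hout f hf hfM, ← zpow_neg, ← zpow_add, hc0]
      have e1 : -((2 : ℤ) ^ (n - 2) + 1) * ((2 : ℤ) ^ (n - 1) - 1) + -(-((2 : ℤ) ^ (n - 2) + 1)) =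
          (2 : ℤ) ^ n * (-(2 : ℤ) ^ (n - 3)) + 2 := by
        have e2 : (2 : ℤ) ^ (n - 2) = (2 : ℤ) ^ (n - 3) * 2 := by
          rw [show n - 2 = n - 3 + 1 by omega, pow_add]; norm_num
        rw [h5, h6, e2]; ring
      rw [e1, zpow_add, (hzero _).2 (dvd_mul_right _ _), one_mul]
    fix := by
      rintro f hf hfM _ ⟨k, rfl⟩ hfa
      change f * X ^ k = X ^ k * f at hfa
      have e1 := hout f hf hfM k
      rw [hfa, mul_inv_cancel_right] at e1
      have e2 : X ^ (k * ((2 : ℤ) ^ (n - 1) - 2)) = 1 := by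
        have : X ^ (k * ((2 : ℤ) ^ (n - 1) - 2)) = X ^ (k * ((2 : ℤ) ^ (n - 1) - 1)) * (X ^ k)⁻¹ := by
          rw [← zpow_neg, ← zpow_add]; congr 1; ring
        rw [this, ← e1, mul_inv_cancel]
      rw [hzero, h6] at e2
      have e3 : (2 : ℤ) ^ (n - 1) ∣ k := by
        have e4 : (2 : ℤ) ^ n = 2 ^ (n - 1) * 2 := by rw [← pow_succ]; congr 1; omega
        rw [e4, show k * ((2 : ℤ) ^ (n - 2) * 2 - 2) = (k * ((2 : ℤ) ^ (n - 2) - 1)) * 2 by ring] at e2
        have e5 := Int.dvd_of_mul_dvd_mul_right (by norm_num) e2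
        refine IsCoprime.dvd_of_dvd_mul_right ?_ e5
        refine IsCoprime.pow_left ?_
        have e6 : (2 : ℤ) ^ (n - 2) = (2 : ℤ) ^ (n - 3) * 2 := by
          rw [show n - 2 = n - 3 + 1 by omega, pow_add]; norm_num
        rw [e6]
        exact ⟨(2 : ℤ) ^ (n - 3), -1, by ring⟩
      obtain ⟨m, rfl⟩ := e3
      change ∃ d : Kˣ, X ^ ((2 : ℤ) ^ (n - 1) * m) = sc d
      rw [zpow_mul, hinvM]
      refine ⟨(-1) ^ m, ?_⟩
      let f0 : Kˣ →* G2 K := ⟨⟨sc, sc_one⟩, fun a b => sc_mul a b⟩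
      exact (map_zpow f0 (-1) m).symm
    dsurj := by
      intro d hd
      rcases hSD d hd with rfl | rfl
      · exact ⟨1, one_mem _, map_one _⟩
      · exact ⟨X, mem_zpowers X, hXdet⟩
    t0P := mul_mem hXP hYP
    t0M := by
      rw [hmul _ hXP _ hYP]
      exact fun h => hYM (h.1 (mem_zpowers X))
    t0det := hXYdet
    neg := by
      refine ⟨(2 : ℤ) ^ (n - 2), ?_⟩
      rw [hc0, ← zpow_mul, ← hinvM, h6]
      congr 1
      ring
    nonsq := by
      obtain ⟨ζ, h1, -, h2⟩ := D2_gen two SD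
      exact ⟨ζ, h1, fun e _ => h2 e⟩
    sc_P := fun d hd => sc_P_of_sylow P SD hd }

/-- `q ≡ 3 (mod 4)` -/
theorem pdat_three [Fintype K] (hq : Fintype.card K % 4 = 3) :
    ∃ (P : Sylow 2 (G2 K)) (SD : Sylow 2 Kˣ) (M : Subgroup (G2 K)) (c0 t0 : G2 K),
      PDat (P : Subgroup (G2 K)) M (SD : Subgroup Kˣ) c0 t0 := by
  obtain ⟨P, SD, M, c0, t0, h, -⟩ := pdat_three_info hq
  exact ⟨P, SD, M, c0, t0, h⟩

end three

end Cfsg.Agent.H763.Psa
end

-- part: H763/PsaSyl
section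
/-!
# Sylow 2-subgroups of `PSL_n(q)`, `q` odd, `n ≥ 4`: no automorphisms of odd order (helper763, S5174)
-/

set_option autoImplicit false
set_option linter.unusedVariables false
set_option linter.unusedSectionVars false

namespace Cfsg.Agent.H763.Psa

open Subgroup Equiv
open Cfsg.Agent.FooteOdd
open Matrix (SpecialLinearGroup ProjectiveSpecialLinearGroup)

variable {K : Type*} [Field K]

theorem pdat [Fintype K] (hq : Odd (Fintype.card K)) :
    ∃ (P : Sylow 2 (G2 K)) (SD : Sylow 2 Kˣ) (M : Subgroup (G2 K)) (c0 t0 : G2 K),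
      PDat (P : Subgroup (G2 K)) M (SD : Subgroup Kˣ) c0 t0 := by
  rcases Nat.odd_mod_four_iff.1 (Nat.odd_iff.1 hq) with h | h
  · exact pdat_one h
  · exact pdat_three h

/-- the block model is a Sylow 2-subgroup of `GL_n(q)` -/
theorem exists_sylow_R [Fintype K] (two : (2 : K) ≠ 0) (m r : ℕ) [Nonempty (Fin m)] (hr : r ≤ 1) (P : Sylow 2 (G2 K))
    (SD : Sylow 2 Kˣ) (Q : Sylow 2 (Perm (Fin m))) :
    ∃ T : Sylow 2 ((Ix (Fin m) (Fin r) → K) ≃ₗ[K] (Ix (Fin m) (Fin r) → K)),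
      (T : Subgroup ((Ix (Fin m) (Fin r) → K) ≃ₗ[K] (Ix (Fin m) (Fin r) → K))) =
        R (P : Subgroup (G2 K)) (SD : Subgroup Kˣ) (Q : Subgroup (Perm (Fin m))) := by
  have hp : Fact (Nat.Prime 2) := ⟨Nat.prime_two⟩
  have hf1 : Finite ((Ix (Fin m) (Fin r) → K) ≃ₗ[K] (Ix (Fin m) (Fin r) → K)) := Finite.of_injective _ DFunLike.coe_injective
  have hf2 : Finite (G2 K) := Finite.of_injective _ DFunLike.coe_injective
  have h4 := (glSys K two m r hr).h4
  have e1 : Nat.card ↥(glSys K two m r hr).L = Nat.card ((Ix (Fin m) (Fin r) → K) ≃ₗ[K] (Ix (Fin m) (Fin r) → K)) := card_top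
  have e2 : Nat.card ↥(glSys K two m r hr).L2 = Nat.card (G2 K) := card_top
  have e3 : Nat.card ↥(glSys K two m r hr).D = Nat.card Kˣ := card_top
  rw [e1, e2, e3] at h4
  refine ⟨Sylow.ofCard (R (P : Subgroup (G2 K)) (SD : Subgroup Kˣ) (Q : Subgroup (Perm (Fin m)))) ?_, rfl⟩
  rw [card_R, P.card_eq_multiplicity, SD.card_eq_multiplicity, Q.card_eq_multiplicity, h4, ← pow_mul, ← pow_mul, ← pow_add,
    ← pow_add]
  congr 1
  ring

/-- the model of a Sylow 2-subgroup of a quotient of `SL_n(q)` by scalars -/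
theorem exists_mod [Fintype K] (two : (2 : K) ≠ 0) (m r : ℕ) [Nonempty (Fin m)] (hr : r ≤ 1) (P : Sylow 2 (G2 K))
    (SD : Sylow 2 Kˣ) (Q : Sylow 2 (Perm (Fin m))) {G : Type*} [Group G] [Finite G]
    (N : Subgroup ((Ix (Fin m) (Fin r) → K) ≃ₗ[K] (Ix (Fin m) (Fin r) → K)))
    (hN : N = (LinearEquiv.det : ((Ix (Fin m) (Fin r) → K) ≃ₗ[K] (Ix (Fin m) (Fin r) → K)) →* Kˣ).ker)
    (ψ : ↥N →* G)
    (hψ : Function.Surjective ψ) (hker : ∀ g, ψ g = 1 ↔ ∃ c : Kˣ, (g : (Ix (Fin m) (Fin r) → K) ≃ₗ[K] (Ix (Fin m) (Fin r) → K)) = sc c) :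
    ∃ T : Sylow 2 G, Nonempty (Mod (Fin m) (Fin r) (P : Subgroup (G2 K)) (SD : Subgroup Kˣ) (Q : Subgroup (Perm (Fin m)))
      ↥(T : Subgroup G)) := by
  have hp : Fact (Nat.Prime 2) := ⟨Nat.prime_two⟩
  have hf1 : Finite ((Ix (Fin m) (Fin r) → K) ≃ₗ[K] (Ix (Fin m) (Fin r) → K)) := Finite.of_injective _ DFunLike.coe_injective
  obtain ⟨TR, hTR⟩ := exists_sylow_R two m r hr P SD Q
  have hNn : N.Normal := by rw [hN]; infer_instance
  set ST := St (Fin m) (Fin r) (P : Subgroup (G2 K)) (SD : Subgroup Kˣ) (Q : Subgroup (Perm (Fin m))) with hST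
  have hle : ST ≤ N := by rw [hN]; exact inf_le_right
  have hpg : IsPGroup 2 ↥(ST.subgroupOf N) := by
    have h1 : IsPGroup 2 ↥ST := by
      refine IsPGroup.to_le ?_ (inf_le_left (a := R (P : Subgroup (G2 K)) (SD : Subgroup Kˣ) (Q : Subgroup (Perm (Fin m)))))
      rw [← hTR]
      exact TR.2
    exact h1.of_equiv (subgroupOfEquivOfLe hle).symm
  have hidx : ¬ 2 ∣ (ST.subgroupOf N).index := by
    have h1 := Cfsg.Agent.CharactersDeep.QuatSylow.not_dvd_relIndex_of_normal TR N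
    rw [hTR, ← inf_relIndex_right, hN] at h1
    rw [hN]
    exact h1
  let TN : Sylow 2 ↥N := hpg.toSylow hidx
  have hTN : (TN : Subgroup ↥N) = ST.subgroupOf N := rfl
  let T : Sylow 2 G := TN.mapSurjective hψ
  have hT : (T : Subgroup G) = (ST.subgroupOf N).map ψ := Sylow.coe_mapSurjective hψ TN
  refine ⟨T, ⟨?_⟩⟩
  classical
  have hmem : ∀ g, ∀ h : g ∈ ST, ψ ⟨g, hle h⟩ ∈ (T : Subgroup G) := by
    intro g h
    rw [hT]
    exact ⟨⟨g, hle h⟩, h, rfl⟩
  refine ⟨fun g => if h : g ∈ ST then ⟨ψ ⟨g, hle h⟩, hmem g h⟩ else 1, ?_, ?_, ?_⟩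
  · intro g hg h hh
    rw [dif_pos hg, dif_pos hh, dif_pos (mul_mem hg hh)]
    refine Subtype.ext ?_
    change ψ _ = ψ _ * ψ _
    rw [← map_mul]
    rfl
  · rintro ⟨s, hs⟩
    rw [hT] at hs
    obtain ⟨g, hg, rfl⟩ := hs
    refine ⟨g, hg, ?_⟩
    rw [dif_pos (show (g : (Ix (Fin m) (Fin r) → K) ≃ₗ[K] (Ix (Fin m) (Fin r) → K)) ∈ ST from hg)]
  · intro g hg
    rw [dif_pos hg, ← hker ⟨g, hle hg⟩]
    constructor
    · intro h
      exact congrArg Subtype.val h
    · intro h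
      exact Subtype.ext h

/-- Sylow 2-subgroups of `PSL_n(q)` in terms of the block model -/
theorem exists_mod_psl {n : ℕ} (hn : 2 ≤ n) [Fintype K] (two : (2 : K) ≠ 0) (P : Sylow 2 (G2 K))
    (SD : Sylow 2 Kˣ) (Q : Sylow 2 (Perm (Fin (n / 2)))) :
    ∃ T : Sylow 2 (ProjectiveSpecialLinearGroup (Fin n) K),
      Nonempty (Mod (Fin (n / 2)) (Fin (n % 2)) (P : Subgroup (G2 K)) (SD : Subgroup Kˣ) (Q : Subgroup (Perm (Fin (n / 2))))
      ↥(T : Subgroup (ProjectiveSpecialLinearGroup (Fin n) K))) := by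
  have hm : Nonempty (Fin (n / 2)) := ⟨⟨0, by omega⟩⟩
  have hnn : Nonempty (Fin n) := ⟨⟨0, by omega⟩⟩
  have hfin : Finite (ProjectiveSpecialLinearGroup (Fin n) K) := inferInstanceAs (Finite (_ ⧸ _))
  have hcard : Fintype.card (Ix (Fin (n / 2)) (Fin (n % 2))) = n := by
    simp only [_root_.Fintype.card_sum, _root_.Fintype.card_prod, _root_.Fintype.card_fin]; omega
  let e : Ix (Fin (n / 2)) (Fin (n % 2)) ≃ Fin n := Fintype.equivFinOfCardEq hcard
  let ψ : ↥(LinearEquiv.det : ((Ix (Fin (n / 2)) (Fin (n % 2)) → K) ≃ₗ[K] (Ix (Fin (n / 2)) (Fin (n % 2)) → K)) →* Kˣ).ker →*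
      ProjectiveSpecialLinearGroup (Fin n) K :=
    (QuotientGroup.mk' (center (_root_.Matrix.SpecialLinearGroup (Fin n) K))).comp (toSL.comp (reKer e))
  refine exists_mod two (n / 2) (n % 2) (by omega) P SD Q _ rfl ψ ?_ ?_
  · intro x
    obtain ⟨A, rfl⟩ := QuotientGroup.mk'_surjective _ x
    obtain ⟨g, rfl⟩ := toSL_surjective A
    obtain ⟨h, rfl⟩ := reKer_surjective e g
    exact ⟨h, rfl⟩
  · intro g
    change (QuotientGroup.mk' (center (_root_.Matrix.SpecialLinearGroup (Fin n) K))) (toSL (reKer e g)) = 1 ↔ _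
    rw [QuotientGroup.mk'_apply, QuotientGroup.eq_one_iff, toSL_mem_center, reKer_scalar]

/-- **`n ≥ 4`**: no automorphisms of odd order. -/
theorem noOdd_psl {n : ℕ} (hn : 4 ≤ n) {F : Type*} [Field F] [Fintype F] (hF : Odd (Fintype.card F))
    (S : Sylow 2 (ProjectiveSpecialLinearGroup (Fin n) F)) {φ : MulAut ↥(S : Subgroup (ProjectiveSpecialLinearGroup (Fin n) F))}
    {k : ℕ} (hk : Odd k) (hφ : φ ^ k = 1) : φ = 1 := by
  have hp : Fact (Nat.Prime 2) := ⟨Nat.prime_two⟩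
  have two := two_of_odd hF
  have hfin : Finite (ProjectiveSpecialLinearGroup (Fin n) F) := inferInstanceAs (Finite (_ ⧸ _))
  obtain ⟨P, SD, M, c0, t0, h⟩ := pdat (K := F) hF
  let Q : Sylow 2 (Perm (Fin (n / 2))) := default
  obtain ⟨T, ⟨md⟩⟩ := exists_mod_psl (K := F) (by omega : 2 ≤ n) two P SD Q
  have key : ∀ ψ : MulAut ↥(T : Subgroup (ProjectiveSpecialLinearGroup (Fin n) F)), ψ ^ k = 1 → ψ = 1 := by
    intro ψ hψ
    rcases eq_or_ne n 4 with hn4 | hn4
    · subst hn4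
      have hβ : IsEmpty (Fin (4 % 2)) := Fin.isEmpty
      refine md.eq_one_four T.2 two h (i1 := (⟨0, by norm_num⟩ : Fin (4 / 2))) (i2 := ⟨1, by norm_num⟩) (by simp) ?_ ?_ hk hψ
      · intro i
        rcases i with ⟨i, hi⟩
        simp only [Fin.mk.injEq]
        omega
      · have hc : Nat.card (Perm (Fin (4 / 2))) = 2 := by
          rw [Nat.card_perm, Nat.card_eq_fintype_card, Fintype.card_fin]; rfl
        have hQ : (Q : Subgroup (Perm (Fin (4 / 2)))) = ⊤ := by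
          apply Subgroup.eq_top_of_card_eq
          rw [Q.card_eq_multiplicity, hc, Nat.Prime.factorization_self Nat.prime_two, pow_one]
        rw [hQ]
        exact mem_top _
    · have hm : Nonempty (Fin (n / 2)) := ⟨⟨0, by omega⟩⟩
      have hβ : Subsingleton (Fin (n % 2)) := by
        rcases Nat.mod_two_eq_zero_or_one n with h0 | h0 <;> rw [h0] <;> infer_instance
      refine md.eq_one_five T.2 two h Q rfl ?_ hk hψ
      intro l l'
      have hcard : 3 ≤ Fintype.card (Fin (n / 2) ⊕ Fin (n % 2)) := by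
        rw [Fintype.card_sum, Fintype.card_fin, Fintype.card_fin]; omega
      by_contra hcon
      push Not at hcon
      have h1 : (Finset.univ : Finset (Fin (n / 2) ⊕ Fin (n % 2))) ⊆ {l, l'} := by
        intro x _
        rw [Finset.mem_insert, Finset.mem_singleton]
        by_cases hx : x = l
        · exact Or.inl hx
        · exact Or.inr (hcon x hx)
      have h2 := Finset.card_le_card h1
      rw [Finset.card_univ] at h2
      have h3 := Finset.card_le_two (a := l) (b := l')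
      omega
  let e : ↥(S : Subgroup (ProjectiveSpecialLinearGroup (Fin n) F)) ≃* ↥(T : Subgroup (ProjectiveSpecialLinearGroup (Fin n) F)) :=
    Sylow.equiv S T
  have h1 : (MulAut.congr e φ) ^ k = 1 := by rw [← map_pow, hφ, map_one]
  exact (MulAut.congr e).injective ((key _ h1).trans (map_one _).symm)

end Cfsg.Agent.H763.Psa
end

-- part: H763/PsaTwo
section
/-!
# Sylow 2-subgroups of `PSL_n(q)`, `q` odd: no automorphisms of odd order, not abelian (helper763, S5174)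
-/

set_option autoImplicit false
set_option linter.unusedVariables false
set_option linter.unusedSectionVars false

namespace Cfsg.Agent.H763.Psa

open Subgroup Equiv
open Cfsg.Agent.FooteOdd
open Matrix (SpecialLinearGroup ProjectiveSpecialLinearGroup)

section

variable {K : Type*} [Field K] {α β : Type*} [Fintype α] [DecidableEq α] [Fintype β] [DecidableEq β]
variable {P M : Subgroup (G2 K)} {D2 : Subgroup Kˣ} {c0 t0 : G2 K} {Q : Subgroup (Perm α)} {S : Type*} [Group S]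

theorem Mod.noncomm (md : Mod α β P D2 Q S) (h : PDat P M D2 c0 t0) (h2 : ∀ l : α ⊕ β, ∃ k, k ≠ l) (j : α) :
    ∃ x y : S, x * y ≠ y * x := by
  refine ⟨md.t t0 j, md.t c0 j, fun hc => ?_⟩
  have hB : IsB M D2 (sg (β := β) j c0) := isB_sg h.c0M h.c0det
  have h1 := md.comm_t h j hB
  have h3 : md.Ψ (J (sg (β := β) j c0)) = md.t c0 j := rfl
  rw [h3, hc, mul_inv_cancel_right, mul_inv_cancel] at h1
  have h4 : (sg (β := β) j c0).1 j = c0 := Pi.mulSingle_eq_same _ _
  rw [h4, h.inv t0 h.t0P h.t0M] at h1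
  have h5 := md.sg_eq_one h2 (P.mul_mem (P.inv_mem h.c0P) (P.inv_mem h.c0P))
    (by rw [map_mul, map_inv, h.c0det]; simp) h1.symm
  rw [← mul_inv_rev, inv_eq_one] at h5
  exact h.c0sq h5

end

/-- **`n ≥ 3`**: not abelian. -/
theorem noncomm_psl {n : ℕ} (hn : 3 ≤ n) {F : Type*} [Field F] [Fintype F] (hF : Odd (Fintype.card F))
    (S : Sylow 2 (ProjectiveSpecialLinearGroup (Fin n) F)) :
    ∃ x y : ↥(S : Subgroup (ProjectiveSpecialLinearGroup (Fin n) F)), x * y ≠ y * x := by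
  have hp : Fact (Nat.Prime 2) := ⟨Nat.prime_two⟩
  have two := two_of_odd hF
  have hfin : Finite (ProjectiveSpecialLinearGroup (Fin n) F) := inferInstanceAs (Finite (_ ⧸ _))
  obtain ⟨P, SD, M, c0, t0, h⟩ := pdat (K := F) hF
  let Q : Sylow 2 (Perm (Fin (n / 2))) := default
  obtain ⟨T, ⟨md⟩⟩ := exists_mod_psl (K := F) (by omega : 2 ≤ n) two P SD Q
  obtain ⟨x, y, hxy⟩ := md.noncomm h (fun l => by
    have hcard : 2 ≤ Fintype.card (Fin (n / 2) ⊕ Fin (n % 2)) := by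
      rw [Fintype.card_sum, Fintype.card_fin, Fintype.card_fin]; omega
    have : Nontrivial (Fin (n / 2) ⊕ Fin (n % 2)) := Fintype.one_lt_card_iff_nontrivial.1 (by omega)
    exact exists_ne l) ⟨0, by omega⟩
  let e : ↥(S : Subgroup (ProjectiveSpecialLinearGroup (Fin n) F)) ≃* ↥(T : Subgroup (ProjectiveSpecialLinearGroup (Fin n) F)) :=
    Sylow.equiv S T
  refine ⟨e.symm x, e.symm y, fun hc => hxy ?_⟩
  rw [← map_mul, ← map_mul] at hc
  exact e.symm.injective hc

/-- **`n ≥ 2`**, with `q ≡ 1, 7 (mod 8)` for `n = 2`: no automorphisms of odd order, not abelian. -/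
theorem psl_main {n : ℕ} (hn : 2 ≤ n) {F : Type*} [Field F] [Fintype F] (hF : Odd (Fintype.card F))
    (h2 : n = 2 → Fintype.card F % 8 = 1 ∨ Fintype.card F % 8 = 7) (S : Sylow 2 (ProjectiveSpecialLinearGroup (Fin n) F)) :
    (∀ (φ : MulAut ↥(S : Subgroup (ProjectiveSpecialLinearGroup (Fin n) F))) (k : ℕ), Odd k → φ ^ k = 1 → φ = 1) ∧
      ∃ x y : ↥(S : Subgroup (ProjectiveSpecialLinearGroup (Fin n) F)), x * y ≠ y * x := by
  have hp : Fact (Nat.Prime 2) := ⟨Nat.prime_two⟩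
  have hfin : Finite (ProjectiveSpecialLinearGroup (Fin n) F) := inferInstanceAs (Finite (_ ⧸ _))
  rcases (by omega : n = 2 ∨ n = 3 ∨ 4 ≤ n) with rfl | rfl | h4
  · obtain ⟨k, hk, ⟨e⟩⟩ := Cfsg.Agent.H991.psl2_dihedral hF S
    -- the order
    have h16 : 16 ∣ Fintype.card F ^ 2 - 1 := by
      have h1 := h2 rfl
      obtain ⟨m, hm⟩ : ∃ m, Fintype.card F = 8 * m + 1 ∨ Fintype.card F = 8 * m + 7 := by
        refine ⟨Fintype.card F / 8, ?_⟩
        omega
      rcases hm with hm | hm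
      · refine ⟨4 * m ^ 2 + m, ?_⟩
        rw [hm, Nat.sub_eq_iff_eq_add (by nlinarith only [_root_.Nat.cast_nonneg (α := ℤ) (m)])]
        ring
      · refine ⟨4 * m ^ 2 + 7 * m + 3, ?_⟩
        rw [hm, Nat.sub_eq_iff_eq_add (by nlinarith only [_root_.Nat.cast_nonneg (α := ℤ) (m)])]
        ring
    have h8 : 8 ∣ Nat.card (Matrix.ProjectiveSpecialLinearGroup (Fin 2) F) := by
      have h1 := Cfsg.Agent.S0243.result (F := F) rfl 2 le_rfl
      rw [Fin.prod_univ_two] at h1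
      have h1F : 1 < Fintype.card F := Fintype.one_lt_card
      have hF2 := Nat.odd_iff.1 hF
      have h2 : Nat.gcd 2 (Fintype.card F - 1) = 2 := Nat.gcd_eq_left (by omega)
      rw [h2] at h1
      set q := Fintype.card F with hq
      obtain ⟨m, hm⟩ : ∃ m, q = m + 1 := ⟨q - 1, by omega⟩
      have h3 : q ^ 2 - q ^ 1 = (q - 1) * q := by
        rw [hm, Nat.add_sub_cancel, Nat.sub_eq_iff_eq_add (by nlinarith only [])]
        ring
      have h4 : q ^ 2 - q ^ ((0 : Fin 2) : ℕ) = q ^ 2 - 1 := by simp only [_root_.Fin.isValue, _root_.Fin.coe_ofNat_eq_mod, _root_.Nat.zero_mod, _root_.pow_zero]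
      have h5 : q ^ 2 - q ^ ((1 : Fin 2) : ℕ) = (q - 1) * q := by
        rw [← h3]; simp
      rw [h4, h5] at h1
      obtain ⟨c, hc⟩ := h16
      rw [hc] at h1
      have h6 : (q - 1) * (2 * Nat.card (Matrix.ProjectiveSpecialLinearGroup (Fin 2) F)) =
          (q - 1) * (2 * (8 * (c * q))) := by
        linear_combination h1
      have h7 := Nat.eq_of_mul_eq_mul_left (by omega) h6
      exact ⟨c * q, by omega⟩
    have h8S : 8 ∣ Nat.card (S : Subgroup (Matrix.ProjectiveSpecialLinearGroup (Fin 2) F)) :=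
      S.pow_dvd_card_of_pow_dvd_card (n := 3) h8
    rw [Nat.card_congr e.toEquiv, DihedralGroup.nat_card] at h8S
    have hk4 : 4 ≤ 2 ^ k := by
      have := Nat.le_of_dvd (by positivity) h8S
      omega
    have hpg : IsPGroup 2 (DihedralGroup (2 ^ k)) := S.isPGroup'.of_equiv e
    refine ⟨Cfsg.Agent.GH.L3S.Parity.NoOdd.congr e.symm (Cfsg.Agent.GH.L3S.Parity.noOdd_dihedral hk4 hpg), ?_⟩
    obtain ⟨x, y, -, -, hxy⟩ := Cfsg.Agent.H991.noncomm_dih (by omega) e
    exact ⟨x, y, hxy⟩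
  · obtain ⟨x, y, hxy⟩ := noncomm_psl le_rfl hF S
    have hev : 2 ∣ Nat.card (Matrix.ProjectiveSpecialLinearGroup (Fin 3) F) := by
      by_contra hno
      have h1 := S.card_eq_multiplicity
      rw [Nat.factorization_eq_zero_of_not_dvd hno, pow_zero] at h1
      have h3 := (Nat.card_eq_one_iff_unique.1 h1).1
      exact hxy (Subsingleton.elim _ _)
    have hS := Cfsg.Agent.GH.Cov.SylowThree.psl_three hF (MulEquiv.refl _) hev S
    have hA := Cfsg.Agent.Classification.QDW.AutSylow.isPGroup_mulAut hS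
    refine ⟨fun φ k hk hφ => ?_, x, y, hxy⟩
    obtain ⟨m, hm⟩ := hA φ
    rw [← orderOf_eq_one_iff]
    exact Nat.eq_one_of_dvd_coprimes (Nat.Coprime.pow_left m (Nat.coprime_two_left.2 hk))
      (orderOf_dvd_of_pow_eq_one hm) (orderOf_dvd_of_pow_eq_one hφ)
  · exact ⟨fun φ k hk hφ => noOdd_psl h4 hF S hk hφ, noncomm_psl (by omega) hF S⟩

end Cfsg.Agent.H763.Psa
end

private theorem dce_eb33c718afd1 : _root_.True := by
  try have : _root_.True := by simp only [_root_.Matrix.ProjectiveSpecialLinearGroup.congr_simp]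
  try have : _root_.True := by simp only [_root_.Cfsg.Agent.H763.Psa.Mod.A.congr_simp]
  exact _root_.True.intro
end

-- part: H763/PsuSyl
section
prune_inst 0xd0302d240c8000000000000060003802920000901020000100000400000009000000090020201100002222002030014810000000c00000000000000000040000000002000040a000000000000000000000000000000000000000000000000000000000000
set_option linter.all false
open scoped Cfsg.Agent.FastGrp

-- part: H763/PsuGU
section
/-!
# The facts `PDat` for the Sylow 2-subgroups of `GU_2(q)`, `q` odd (helper763, S5161)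
-/

set_option autoImplicit false
set_option linter.unusedVariables false
set_option linter.unusedSectionVars false

namespace Cfsg.Agent.H763.Psa

open Subgroup Equiv
open Cfsg.Agent.FooteOdd
open Cfsg.Agent.LieClassical.GUOrder (frob frob_apply frob_frob two_le)

variable {K : Type*} [Field K]

/-- transport of `PDat` -/
theorem PDat.map {P M : Subgroup (G2 K)} {D2 : Subgroup Kˣ} {c0 t0 : G2 K} (h : PDat P M D2 c0 t0)
    (θ : G2 K ≃* G2 K) (hd : ∀ g, LinearEquiv.det (θ g) = LinearEquiv.det g) (hs : ∀ d : Kˣ, θ (sc d) = sc d) :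
    PDat (P.map θ.toMonoidHom) (M.map θ.toMonoidHom) D2 (θ c0) (θ t0) := by
  have hm : ∀ (X : Subgroup (G2 K)) (g : G2 K), θ g ∈ X.map θ.toMonoidHom ↔ g ∈ X := by
    intro X g
    constructor
    · rintro ⟨y, hy, hyg⟩
      exact θ.injective hyg ▸ hy
    · exact fun hg => ⟨g, hg, rfl⟩
  refine
  { MP := Subgroup.map_mono h.MP
    comm := ?_, two := ?_, det_mem := ?_, sc_mem := ?_, c0M := (hm _ _).2 h.c0M, c0det := by rw [hd, h.c0det]
    c0ord := ?_, c0gen := ?_, inv := ?_, usurj := ?_, fix := ?_, dsurj := ?_, t0P := (hm _ _).2 h.t0P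
    t0M := fun h1 => h.t0M ((hm _ _).1 h1), t0det := by rw [hd, h.t0det], neg := ?_, nonsq := h.nonsq, sc_P := ?_ }
  · rintro _ ⟨a, ha, rfl⟩ _ ⟨b, hb, rfl⟩
    change θ a * θ b = θ b * θ a
    rw [← map_mul, h.comm a ha b hb, map_mul]
  · rintro _ ⟨a, ha, rfl⟩ _ ⟨b, hb, rfl⟩ h1 h2
    change θ a * θ b ∈ _
    rw [← map_mul]
    exact (hm _ _).2 (h.two a ha b hb (fun h3 => h1 ((hm _ _).2 h3)) (fun h3 => h2 ((hm _ _).2 h3)))
  · rintro _ ⟨a, ha, rfl⟩
    change LinearEquiv.det (θ a) ∈ _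
    rw [hd]
    exact h.det_mem a ha
  · intro d hdd
    rw [← hs d]
    exact (hm _ _).2 (h.sc_mem d hdd)
  · obtain ⟨w, h1, h2⟩ := h.c0ord
    exact ⟨w, h1, by rw [MulEquiv.orderOf_eq, h2]⟩
  · rintro _ ⟨a, ha, rfl⟩ h1
    change LinearEquiv.det (θ a) = 1 at h1
    rw [hd] at h1
    obtain ⟨k, hk⟩ := mem_zpowers_iff.1 (h.c0gen a ha h1)
    refine ⟨k, ?_⟩
    change θ c0 ^ k = θ a
    rw [← map_zpow, hk]
  · rintro _ ⟨f, hf, rfl⟩ h1
    change θ f * θ c0 * (θ f)⁻¹ = (θ c0)⁻¹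
    rw [← map_mul, ← map_inv, ← map_mul, h.inv f hf (fun h3 => h1 ((hm _ _).2 h3)), map_inv]
  · rintro _ ⟨f, hf, rfl⟩ h1
    obtain ⟨a, ha, h2⟩ := h.usurj f hf (fun h3 => h1 ((hm _ _).2 h3))
    refine ⟨θ a, (hm _ _).2 ha, ?_⟩
    change θ f * θ a * (θ f)⁻¹ * (θ a)⁻¹ = θ c0
    rw [← map_mul, ← map_inv, ← map_mul, ← map_inv, ← map_mul, h2]
  · rintro _ ⟨f, hf, rfl⟩ h1 _ ⟨a, ha, rfl⟩ h2
    change θ f * θ a = θ a * θ f at h2
    rw [← map_mul, ← map_mul] at h2
    obtain ⟨d, hd1⟩ := h.fix f hf (fun h3 => h1 ((hm _ _).2 h3)) a ha (θ.injective h2)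
    refine ⟨d, ?_⟩
    change θ a = sc d
    rw [hd1, hs]
  · intro d hdd
    obtain ⟨a, ha, h1⟩ := h.dsurj d hdd
    exact ⟨θ a, (hm _ _).2 ha, by rw [hd, h1]⟩
  · obtain ⟨k, hk⟩ := h.neg
    exact ⟨k, by rw [← map_zpow, hk, hs]⟩
  · intro d h1
    rw [← hs d] at h1
    exact h.sc_P d ((hm _ _).1 h1)

section semi

variable [Fintype K] {q : ℕ}

/-- the torus -/
def tor (q : ℕ) : Kˣ →* G2 K where
  toFun x := dg ![x, (x ^ q)⁻¹]
  map_one' := by
    rw [one_pow, inv_one]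
    have : (![1, 1] : Fin 2 → Kˣ) = 1 := by funext i; fin_cases i <;> rfl
    rw [this, map_one]
  map_mul' x y := by
    rw [← map_mul]
    congr 1
    funext i
    fin_cases i
    · rfl
    · change ((x * y) ^ q)⁻¹ = (x ^ q)⁻¹ * (y ^ q)⁻¹
      rw [mul_pow, mul_inv]

theorem tor_apply (q : ℕ) (x : Kˣ) : tor q x = dg ![x, (x ^ q)⁻¹] := rfl

theorem tor_injective (q : ℕ) : Function.Injective (tor q : Kˣ →* G2 K) := by
  intro x y h
  exact congrFun (dg_injective h) 0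

/-- the swap -/
noncomputable def sw : G2 K := pm (swap 0 1)

theorem sw_mul : (sw : G2 K) * sw = 1 := by rw [sw, ← map_mul, Equiv.swap_mul_self, map_one]

theorem det_sw : LinearEquiv.det (sw : G2 K) = -1 := by
  rw [sw, det_pm, Perm.sign_swap (by decide)]
  ext; simp only [_root_.RingHom.toMonoidHom_eq_coe, _root_.Units.map_neg, _root_.map_one, _root_.Units.val_neg, _root_.Units.val_one]

theorem pow_qq (hF : Fintype.card K = q ^ 2) (x : Kˣ) : (x ^ q) ^ q = x := by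
  rw [← pow_mul, ← pow_two, ← hF]
  exact Units.ext (by rw [Units.val_pow_eq_pow_val, FiniteField.pow_card])

theorem sw_tor (hF : Fintype.card K = q ^ 2) (x : Kˣ) : (sw : G2 K) * tor q x = tor q (x ^ q)⁻¹ * sw := by
  have h1 := pm_dg (K := K) (swap (0 : Fin 2) 1) ![x, (x ^ q)⁻¹]
  rw [mul_inv_eq_iff_eq_mul] at h1
  rw [tor_apply, tor_apply, sw, h1]
  congr 2
  rw [swap_inv]
  funext i
  fin_cases i
  · rfl
  · change x = (((x ^ q)⁻¹) ^ q)⁻¹
    rw [inv_pow, inv_inv, pow_qq hF]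

/-- the semidihedral group -/
def semi (hF : Fintype.card K = q ^ 2) (C : Subgroup Kˣ) : Subgroup (G2 K) where
  carrier := {g | ∃ x ∈ C, g = tor q x ∨ g = tor q x * sw}
  mul_mem' := by
    rintro _ _ ⟨x, hx, rfl | rfl⟩ ⟨y, hy, rfl | rfl⟩
    · exact ⟨x * y, C.mul_mem hx hy, Or.inl (map_mul _ _ _).symm⟩
    · exact ⟨x * y, C.mul_mem hx hy, Or.inr (by rw [map_mul, mul_assoc])⟩
    · refine ⟨x * (y ^ q)⁻¹, C.mul_mem hx (C.inv_mem (C.pow_mem hy _)), Or.inr ?_⟩
      rw [map_mul, mul_assoc, sw_tor hF, mul_assoc]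
    · refine ⟨x * (y ^ q)⁻¹, C.mul_mem hx (C.inv_mem (C.pow_mem hy _)), Or.inl ?_⟩
      rw [map_mul, mul_assoc, ← mul_assoc sw, sw_tor hF, mul_assoc (tor q _), sw_mul, mul_one]
  one_mem' := ⟨1, C.one_mem, Or.inl (map_one _).symm⟩
  inv_mem' := by
    rintro _ ⟨x, hx, rfl | rfl⟩
    · exact ⟨x⁻¹, C.inv_mem hx, Or.inl (map_inv _ _).symm⟩
    · refine ⟨x ^ q, C.pow_mem hx _, Or.inr ?_⟩
      rw [mul_inv_rev, inv_eq_of_mul_eq_one_right sw_mul, ← map_inv, sw_tor hF, inv_pow, inv_inv]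

theorem tor_ne_sw (x y : Kˣ) : (tor q x : G2 K) ≠ tor q y * sw := by
  intro h
  have h3 := (perm_of_eq (d := ![x, (x ^ q)⁻¹]) (d' := ![y, (y ^ q)⁻¹]) (σ := 1) (σ' := swap 0 1) (by rw [map_one, mul_one]; exact h)).1
  exact absurd h3 (by decide)

theorem card_semi (hF : Fintype.card K = q ^ 2) (C : Subgroup Kˣ) : Nat.card (semi hF C) = Nat.card C * 2 := by
  let f : C × Bool → semi hF C := fun x => if x.2 then ⟨tor q (x.1 : Kˣ) * sw, x.1, x.1.2, Or.inr rfl⟩ else ⟨tor q (x.1 : Kˣ), x.1, x.1.2, Or.inl rfl⟩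
  have hf : Function.Bijective f := by
    constructor
    · rintro ⟨x, b⟩ ⟨y, c⟩ h
      cases b <;> cases c
      · have h1 : (tor q (x : Kˣ) : G2 K) = tor q (y : Kˣ) := congrArg Subtype.val h
        rw [Subtype.ext (tor_injective q h1)]
      · exact absurd (congrArg Subtype.val h : (tor q (x : Kˣ) : G2 K) = tor q (y : Kˣ) * sw) (tor_ne_sw _ _)
      · exact absurd (congrArg Subtype.val h : (tor q (x : Kˣ) : G2 K) * sw = tor q (y : Kˣ)).symm (tor_ne_sw _ _)
      · have h1 : (tor q (x : Kˣ) : G2 K) * sw = tor q (y : Kˣ) * sw := congrArg Subtype.val h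
        rw [Subtype.ext (tor_injective q (mul_right_cancel h1))]
    · rintro ⟨_, x, hx, rfl | rfl⟩
      · exact ⟨(⟨x, hx⟩, false), rfl⟩
      · exact ⟨(⟨x, hx⟩, true), rfl⟩
  rw [← Nat.card_congr (Equiv.ofBijective f hf), Nat.card_prod]
  simp only [_root_.Nat.card_eq_fintype_card, _root_.Fintype.card_bool]

theorem mem_mone {d : Kˣ} : d ∈ zpowers (-1 : Kˣ) ↔ d = 1 ∨ d = -1 := by
  constructor
  · rintro ⟨k, rfl⟩
    rcases Int.even_or_odd k with h | h
    · left
      exact h.neg_one_zpow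
    · right
      exact h.neg_one_zpow
  · rintro (rfl | rfl)
    · exact one_mem _
    · exact mem_zpowers _

/-- the case `q ≡ 1 (mod 4)` -/
theorem pdat_semi (hF : Fintype.card K = q ^ 2) (hq : q % 4 = 1) (SD : Sylow 2 Kˣ) :
    ∃ c0 t0 : G2 K, PDat (semi hF (SD : Subgroup Kˣ)) ((SD : Subgroup Kˣ).map (tor q)) (zpowers (-1 : Kˣ)) c0 t0 ∧
      NInfo (semi hF (SD : Subgroup Kˣ)) ((SD : Subgroup Kˣ).map (tor q)) (zpowers (-1 : Kˣ)) false
        ((q - 1).factorization 2 + 1) := by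
  have hp : Fact (Nat.Prime 2) := ⟨Nat.prime_two⟩
  have hq1 : 1 < q := two_le hF
  have hoddq : Odd q := by rw [Nat.odd_iff]; omega
  have hodd : Odd (Fintype.card K) := by rw [hF]; exact hoddq.pow
  have two : (2 : K) ≠ 0 := two_of_odd hodd
  obtain ⟨ζ, hζ, hζg, hζn⟩ := D2_gen two SD
  obtain ⟨a, ha⟩ : ∃ a, a = (q - 1).factorization 2 := ⟨_, rfl⟩
  have ha2 : 2 ≤ a := by
    rw [ha, ← Nat.Prime.pow_dvd_iff_le_factorization Nat.prime_two (by omega)]
    omega
  have hfac : (q + 1).factorization 2 = 1 := S1217.factorization_two_of_mod (by omega)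
  have hSDcard : Nat.card (SD : Subgroup Kˣ) = 2 ^ (a + 1) := by
    have h0 : q ^ 2 - 1 = (q + 1) * (q - 1) := by simpa only [_root_.one_pow] using Nat.sq_sub_sq q 1
    rw [SD.card_eq_multiplicity, Nat.card_units, Nat.card_eq_fintype_card, hF, h0,
      Nat.factorization_mul (by omega) (by omega), Finsupp.add_apply, hfac, ← ha]
    congr 1
    ring
  have hζo : orderOf ζ = 2 ^ (a + 1) := by
    rw [← hSDcard, ← Nat.card_zpowers]
    congr 1
    have : zpowers ζ = (SD : Subgroup Kˣ) := le_antisymm (by rw [zpowers_le]; exact hζ) (fun d hd => hζg d hd)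
    rw [this]
  obtain ⟨u, hu⟩ : ∃ u, q - 1 = 2 ^ a * u := by rw [ha]; exact Nat.ordProj_dvd (q - 1) 2
  have huodd : ¬ 2 ∣ u := by
    rintro ⟨v, rfl⟩
    have h1 : 2 ^ (a + 1) ∣ q - 1 := ⟨v, by rw [hu, pow_succ]; ring⟩
    rw [Nat.Prime.pow_dvd_iff_le_factorization Nat.prime_two (by omega), ← ha] at h1
    omega
  obtain ⟨v, hv⟩ : ∃ v, q + 1 = 2 * v := ⟨(q + 1) / 2, by omega⟩
  have hvodd : ¬ 2 ∣ v := by omega
  -- powers
  have hpow1 : ∀ x ∈ (SD : Subgroup Kˣ), (x ^ (q - 1)) ^ 2 = 1 := by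
    intro x hx
    obtain ⟨k, rfl⟩ := mem_zpowers_iff.1 (hζg x hx)
    have h1 : ζ ^ (2 ^ (a + 1)) = 1 := by rw [← hζo, pow_orderOf_eq_one]
    rw [← pow_mul, hu, show 2 ^ a * u * 2 = 2 ^ (a + 1) * u by ring, ← zpow_natCast, ← zpow_mul, mul_comm, zpow_mul,
      zpow_natCast, pow_mul, h1, one_pow, one_zpow]
  have hqs : ∀ x : Kˣ, x ^ q = x ^ (q - 1) * x := by
    intro x
    rw [← pow_succ]
    congr 1
    (clear * - hv; omega)
  have hpm : ∀ y : Kˣ, y ^ 2 = 1 → y = 1 ∨ y = -1 := by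
    intro y hy
    have h3 : (y : K) * (y : K) = 1 := by rw [← Units.val_mul, ← pow_two, hy, Units.val_one]
    rcases mul_self_eq_one_iff.1 h3 with h4 | h4
    · exact Or.inl (Units.ext h4)
    · exact Or.inr (Units.ext (by rw [h4, Units.val_neg, Units.val_one]))
  have hdet : ∀ x : Kˣ, LinearEquiv.det (tor q x : G2 K) = (x ^ (q - 1))⁻¹ := by
    intro x
    rw [tor_apply, det_dg, Fin.prod_univ_two]
    change x * (x ^ q)⁻¹ = _
    rw [hqs, mul_inv, mul_comm x, mul_assoc, inv_mul_cancel, mul_one]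
  have hζq : ζ ^ (q - 1) = -1 := by
    refine (hpm _ (hpow1 ζ hζ)).resolve_left fun h1 => ?_
    have h2 := orderOf_dvd_of_pow_eq_one h1
    rw [hζo, Nat.Prime.pow_dvd_iff_le_factorization Nat.prime_two (by (clear * - hq1; omega)), ← ha] at h2
    omega
  have hnegSD : (-1 : Kˣ) ∈ (SD : Subgroup Kˣ) := (D2_neg two SD).1
  have hneg1 : (-1 : Kˣ) ≠ 1 := (D2_neg two SD).2
  have hmemM : ∀ x : Kˣ, (tor q x : G2 K) ∈ (SD : Subgroup Kˣ).map (tor q) ↔ x ∈ (SD : Subgroup Kˣ) := by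
    intro x
    constructor
    · rintro ⟨y, hy, hyx⟩
      exact tor_injective q hyx ▸ hy
    · exact fun h => ⟨x, h, rfl⟩
  have hout : ∀ f ∈ semi hF (SD : Subgroup Kˣ), f ∉ (SD : Subgroup Kˣ).map (tor q) → ∃ x ∈ (SD : Subgroup Kˣ), f = tor q x * sw := by
    rintro _ ⟨x, hx, rfl | rfl⟩ hf
    · exact absurd ((hmemM x).2 hx) hf
    · exact ⟨x, hx, rfl⟩
  have hswn : ∀ x : Kˣ, (tor q x * sw : G2 K) ∉ (SD : Subgroup Kˣ).map (tor q) := by
    rintro x ⟨y, -, hy⟩
    exact tor_ne_sw y x hy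
  have hconj : ∀ x y : Kˣ, (tor q x * sw : G2 K) * tor q y * (tor q x * sw)⁻¹ = tor q (y ^ q)⁻¹ := by
    intro x y
    rw [mul_assoc (tor q x), sw_tor hF, mul_inv_rev]
    calc tor q x * (tor q (y ^ q)⁻¹ * sw) * (sw⁻¹ * (tor q x)⁻¹) = tor q x * tor q (y ^ q)⁻¹ * (tor q x)⁻¹ := by group
      _ = _ := by rw [← map_mul, ← map_inv, ← map_mul, mul_comm x, mul_inv_cancel_right]
  have hscal : ∀ x : Kˣ, (x ^ q)⁻¹ = x → (tor q x : G2 K) = sc x := by
    intro x hx
    rw [tor_apply, sc, hx]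
    congr 1
    funext i
    fin_cases i <;> rfl
  refine ⟨tor q (ζ ^ 2), tor q ζ * sw, ?_, ?_⟩
  swap
  · rw [← ha]
    have hζpow : ∀ x ∈ (SD : Subgroup Kˣ), x ^ 2 ^ (a + 1) = 1 := by
      intro x hx
      obtain ⟨k, rfl⟩ := mem_zpowers_iff.1 (hζg x hx)
      rw [← zpow_natCast, ← zpow_mul, mul_comm, zpow_mul, zpow_natCast, ← hζo, pow_orderOf_eq_one, one_zpow]
    refine ⟨by omega, fun _ => by omega, ⟨tor q ζ, (hmemM _).2 hζ, ?_⟩, ?_, ?_, ?_, ?_⟩
    · rw [orderOf_injective (tor q) (tor_injective q), hζo]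
    · rintro _ ⟨x, hx, rfl⟩
      rw [← map_pow, hζpow x hx, map_one]
    · rintro _ ⟨x, hx, rfl | rfl⟩
      · refine ⟨tor q ζ, (hmemM _).2 hζ, fun h1 => ?_⟩
        rw [← map_inv, ← map_inv, ← map_mul, ← map_mul, mul_comm x, mul_inv_cancel_right] at h1
        have h2 := tor_injective q h1
        have h3 : ζ ^ 2 = 1 := by rw [pow_two]; nth_rw 2 [h2]; exact mul_inv_cancel _
        have h4 := orderOf_dvd_of_pow_eq_one h3
        rw [hζo] at h4
        have h5 : (2 : ℕ) ^ 3 ∣ 2 := (pow_dvd_pow 2 (by omega)).trans h4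
        norm_num at h5
      · refine ⟨tor q ζ, (hmemM _).2 hζ, fun h1 => ?_⟩
        rw [hconj, ← map_inv] at h1
        have h2 := inv_injective (tor_injective q h1)
        rw [hqs, hζq] at h2
        have h3 : (-1 : Kˣ) * ζ = 1 * ζ := by rw [h2, one_mul]
        exact hneg1 (mul_right_cancel h3)
    · rw [Nat.card_congr (Subgroup.equivMapOfInjective _ _ (tor_injective q)).symm.toEquiv, hSDcard]
      rfl
    · have ho : orderOf (-1 : Kˣ) = 2 := orderOf_eq_prime (by simp only [_root_.even_two, _root_.Even.neg_pow, _root_.one_pow]) hneg1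
      rw [Nat.card_zpowers, ho]
      rfl
  have hζ2q : (ζ ^ 2) ^ (q - 1) = 1 := by rw [← pow_mul, mul_comm, pow_mul, hζq]; simp only [_root_.even_two, _root_.Even.neg_pow, _root_.one_pow]
  exact
  { MP := by
      rintro _ ⟨x, hx, rfl⟩
      exact ⟨x, hx, Or.inl rfl⟩
    comm := by
      rintro _ ⟨x, hx, rfl⟩ _ ⟨y, hy, rfl⟩
      rw [← map_mul, ← map_mul, mul_comm]
    two := by
      intro f hf g hg hfM hgM
      obtain ⟨x, hx, rfl⟩ := hout f hf hfM
      obtain ⟨y, hy, rfl⟩ := hout g hg hgM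
      refine ⟨x * (y ^ q)⁻¹, mul_mem hx (inv_mem (pow_mem hy _)), ?_⟩
      rw [map_mul]
      calc tor q x * tor q (y ^ q)⁻¹ = tor q x * (tor q (y ^ q)⁻¹ * sw) * sw := by
            rw [mul_assoc (tor q x), mul_assoc (tor q (y ^ q)⁻¹), sw_mul, mul_one]
        _ = tor q x * (sw * tor q y) * sw := by rw [sw_tor hF]
        _ = _ := by group
    det_mem := by
      rintro _ ⟨x, hx, rfl | rfl⟩
      · rw [hdet, inv_mem_iff, mem_mone]
        exact hpm _ (hpow1 x hx)
      · rw [map_mul, det_sw]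
        refine mul_mem ?_ (mem_zpowers _)
        rw [hdet, inv_mem_iff, mem_mone]
        exact hpm _ (hpow1 x hx)
    sc_mem := by
      intro d hd
      rcases mem_mone.1 hd with rfl | rfl
      · rw [sc_one]
        exact one_mem _
      · rw [← hscal (-1) (by rw [hoddq.neg_one_pow, inv_neg, inv_one])]
        exact (hmemM _).2 hnegSD
    c0M := (hmemM _).2 (pow_mem hζ 2)
    c0det := by rw [hdet, hζ2q, inv_one]
    c0ord := by
      refine ⟨a, ha2, ?_⟩
      rw [orderOf_injective (tor q) (tor_injective q), orderOf_pow_of_dvd (by norm_num) (by rw [hζo]; exact dvd_pow_self 2 (by omega)), hζo,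
        pow_succ]
      simp
    c0gen := by
      rintro _ ⟨x, hx, rfl⟩ hd
      rw [hdet, inv_eq_one] at hd
      obtain ⟨k, rfl⟩ := mem_zpowers_iff.1 (hζg x hx)
      have h1 : ζ ^ (k * ((q - 1 : ℕ) : ℤ)) = 1 := by rw [zpow_mul, zpow_natCast, hd]
      have h2 : (orderOf ζ : ℤ) ∣ k * ((q - 1 : ℕ) : ℤ) := orderOf_dvd_iff_zpow_eq_one.2 h1
      rw [hζo, hu] at h2
      push_cast at h2
      have h3 : (2 : ℤ) ∣ k * u := by
        have h4 : (2 : ℤ) ^ a * 2 ∣ 2 ^ a * (k * u) := by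
          rw [← pow_succ]
          refine h2.trans (dvd_of_eq (by ring))
        exact (mul_dvd_mul_iff_left (pow_ne_zero _ (by norm_num))).1 h4
      have h5 : (2 : ℤ) ∣ k := by
        rcases Int.prime_two.dvd_or_dvd h3 with h6 | h6
        · exact h6
        · exact absurd (by exact_mod_cast h6) huodd
      obtain ⟨l, rfl⟩ := h5
      refine ⟨l, ?_⟩
      change (tor q (ζ ^ 2)) ^ l = tor q (ζ ^ (2 * l))
      rw [← map_zpow, zpow_mul]
      rfl
    inv := by
      intro f hf hfM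
      obtain ⟨x, hx, rfl⟩ := hout f hf hfM
      rw [hconj, hqs, hζ2q, one_mul, map_inv]
    usurj := by
      intro f hf hfM
      obtain ⟨x, hx, rfl⟩ := hout f hf hfM
      -- solve `k v = -1 mod 2 ^ a`
      have hcop : IsCoprime (v : ℤ) ((2 : ℤ) ^ a) := by
        refine IsCoprime.pow_right ?_
        rw [Int.isCoprime_iff_gcd_eq_one, Int.gcd_eq_natAbs]
        change Nat.Coprime v 2
        exact ((Nat.Prime.coprime_iff_not_dvd Nat.prime_two).2 hvodd).symm
      obtain ⟨r, t, hrt⟩ := hcop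
      refine ⟨tor q (ζ ^ (-r)), (hmemM _).2 (zpow_mem hζ _), ?_⟩
      rw [hconj, ← map_inv, ← map_mul]
      congr 1
      have h1 : ζ ^ (2 ^ (a + 1)) = 1 := by rw [← hζo, pow_orderOf_eq_one]
      have h1' : ζ ^ ((2 : ℤ) ^ (a + 1)) = 1 := by
        have := h1
        rw [← zpow_natCast] at this
        push_cast at this
        exact this
      have hy : ∀ y : Kˣ, (y ^ q)⁻¹ * y⁻¹ = y ^ (-((q : ℤ) + 1)) := fun y => by
        rw [neg_add, zpow_add, zpow_neg, zpow_natCast, zpow_neg, zpow_one]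
      calc ((ζ ^ (-r)) ^ q)⁻¹ * (ζ ^ (-r))⁻¹ = (ζ ^ (-r)) ^ (-((q : ℤ) + 1)) := hy _
        _ = ζ ^ (r * ((q : ℤ) + 1)) := by rw [← zpow_mul]; congr 1; ring
        _ = ζ ^ (2 : ℤ) * (ζ ^ ((2 : ℤ) ^ (a + 1))) ^ (-t) := by
            rw [← zpow_mul, ← zpow_add]
            congr 1
            have h2 : ((q : ℤ) + 1) = 2 * v := by exact_mod_cast hv
            rw [h2, pow_succ]
            linear_combination 2 * hrt
        _ = ζ ^ 2 := by
            rw [h1', one_zpow, mul_one]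
            rfl
    fix := by
      intro f hf hfM b hb hfb
      obtain ⟨x, hx, rfl⟩ := hout f hf hfM
      obtain ⟨y, hy, rfl⟩ := hb
      have h1 := hconj x y
      rw [hfb, mul_inv_cancel_right] at h1
      exact ⟨y, hscal y (tor_injective q h1).symm⟩
    dsurj := by
      intro d hd
      rcases mem_mone.1 hd with rfl | rfl
      · exact ⟨1, one_mem _, map_one _⟩
      · exact ⟨tor q ζ, (hmemM _).2 hζ, by rw [hdet, hζq, inv_neg, inv_one]⟩
    t0P := ⟨ζ, hζ, Or.inr rfl⟩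
    t0M := hswn ζ
    t0det := by rw [map_mul, det_sw, hdet, hζq]; simp
    neg := by
      refine ⟨(2 : ℤ) ^ (a - 1), ?_⟩
      have h1 : ζ ^ (2 ^ a) = -1 := by
        refine (hpm _ ?_).resolve_left fun h2 => ?_
        · rw [← pow_mul, ← pow_succ, ← hζo, pow_orderOf_eq_one]
        · have h3 := orderOf_dvd_of_pow_eq_one h2
          rw [hζo] at h3
          have := (Nat.pow_dvd_pow_iff_le_right (x := 2) (by norm_num)).1 h3
          omega
      have h2 : (ζ ^ 2) ^ ((2 : ℤ) ^ (a - 1)) = -1 := by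
        rw [← h1, ← zpow_natCast, ← zpow_natCast, ← zpow_mul]
        congr 1
        push_cast
        rw [← pow_succ']
        congr 1
        omega
      rw [← map_zpow, h2]
      exact hscal (-1) (by rw [hoddq.neg_one_pow, inv_neg, inv_one])
    nonsq := by
      refine ⟨-1, mem_zpowers _, fun e he hee => ?_⟩
      rcases mem_mone.1 he with rfl | rfl
      · rw [mul_one] at hee
        exact hneg1 hee.symm
      · rw [neg_mul_neg, mul_one] at hee
        exact hneg1 hee.symm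
    sc_P := by
      rintro d ⟨x, hx, h1 | h1⟩
      · have h2 := dg_injective (h1 : dg (fun _ => d) = dg ![x, (x ^ q)⁻¹])
        have h3 : d = x := congrFun h2 0
        have h4 : d = (x ^ q)⁻¹ := congrFun h2 1
        rw [← h3] at h4 hx
        rw [mem_mone]
        refine hpm d ?_
        -- `d ^ (q + 1) = 1` and `(d ^ (q - 1)) ^ 2 = 1`
        have h5 : d ^ (q + 1) = 1 := by
          rw [pow_succ]
          nth_rw 2 [h4]
          exact mul_inv_cancel _
        have h6 : d ^ (2 * v) = 1 := by rw [← hv, h5]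
        obtain ⟨k, rfl⟩ := mem_zpowers_iff.1 (hζg d hx)
        have h7 : ζ ^ (k * ((2 * v : ℕ) : ℤ)) = 1 := by rw [zpow_mul, zpow_natCast, h6]
        have h8 : (orderOf ζ : ℤ) ∣ k * ((2 * v : ℕ) : ℤ) := orderOf_dvd_iff_zpow_eq_one.2 h7
        have h9 : (orderOf ζ : ℤ) ∣ k * 2 := by
          rw [hζo] at h8 ⊢
          push_cast at h8 ⊢
          have h10 : (2 : ℤ) ^ (a + 1) ∣ (k * 2) * v := h8.trans (dvd_of_eq (by ring))
          refine IsCoprime.dvd_of_dvd_mul_right ?_ h10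
          refine IsCoprime.pow_left ?_
          rw [Int.isCoprime_iff_gcd_eq_one, Int.gcd_eq_natAbs]
          change Nat.Coprime 2 v
          exact (Nat.Prime.coprime_iff_not_dvd Nat.prime_two).2 hvodd
        have h11 := orderOf_dvd_iff_zpow_eq_one.1 h9
        rw [zpow_mul] at h11
        exact h11
      · exfalso
        have h3 := (perm_of_eq (d := fun _ => d) (d' := ![x, (x ^ q)⁻¹]) (σ := 1) (σ' := swap 0 1) (by rw [map_one, mul_one]; exact h1)).1
        exact absurd h3 (by decide) }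

end semi

end Cfsg.Agent.H763.Psa
end

-- part: H763/PsuSyl
section
/-!
# Sylow 2-subgroups of `PSU_n(q)`, `q` odd, `n ≥ 3`: no automorphisms of odd order, not abelian (helper763, S5161)
-/

set_option autoImplicit false
set_option linter.unusedVariables false
set_option linter.unusedSectionVars false

namespace Cfsg.Agent.H763.Psa

open Subgroup Equiv
open Cfsg.Agent.FooteOdd
open Cfsg.Agent.LieClassical.GUOrder (frob frob_apply frob_frob two_le card_ker_pow)
open Cfsg.Agent.LieClassical.SUBasic (mem_center_SU_iff suScalar)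
open Matrix (SpecialLinearGroup ProjectiveSpecialLinearGroup)

section gu2

variable {K : Type*} [Field K] [Fintype K] {q : ℕ}

/-- a hyperbolic basis -/
theorem exists_hyp (hF : Fintype.card K = q ^ 2) (two : (2 : K) ≠ 0) : ∃ k : G2 K,
    hB hF (Fin 2) (k⁻¹ (Pi.single 0 1)) (k⁻¹ (Pi.single 0 1)) = 0 ∧
    hB hF (Fin 2) (k⁻¹ (Pi.single 0 1)) (k⁻¹ (Pi.single 1 1)) = 1 ∧
    hB hF (Fin 2) (k⁻¹ (Pi.single 1 1)) (k⁻¹ (Pi.single 0 1)) = 1 ∧
    hB hF (Fin 2) (k⁻¹ (Pi.single 1 1)) (k⁻¹ (Pi.single 1 1)) = 0 := by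
  obtain ⟨c, hc0, hc⟩ := Cfsg.Agent.LieClassical.HermBasic.exists_norm_eq_ne hF (c := (-1 : K))
    ((odd_q hF two).neg_one_pow) (neg_ne_zero.2 one_ne_zero)
  have hc' : frob hF c * c = -1 := by rw [frob_apply, mul_comm, hc]
  have ht : (1 : K) * (-(-(2 * c)⁻¹ * c)) - -(2 * c)⁻¹ * c = 1 := by
    field_simp
    norm_num
  let g : G2 K := m2 1 (-(2 * c)⁻¹) c (-(-(2 * c)⁻¹ * c)) ht * dg ![1, Units.mk0 (-c) (neg_ne_zero.2 hc0)]
  have g0 : g (Pi.single 0 1) = ![1, c] := by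
    change m2 _ _ _ _ ht (dg _ (Pi.single 0 1)) = _
    rw [m2_apply]
    simp
  have g1 : g (Pi.single 1 1) = ![1 / 2, -(c / 2)] := by
    change m2 _ _ _ _ ht (dg _ (Pi.single 1 1)) = _
    rw [m2_apply]
    funext i
    fin_cases i
    · simp only [_root_.Nat.succ_eq_add_one, _root_.Nat.reduceAdd, _root_.Fin.isValue, _root_.Cfsg.Agent.FooteOdd.dg_apply, _root_.Matrix.cons_val_zero, _root_.Units.val_one, _root_.ne_eq, _root_.zero_ne_one, _root_.not_false_eq_true, _root_.Pi.single_eq_of_ne, _root_.MulZeroClass.mul_zero, _root_.mul_inv_rev, _root_.Matrix.cons_val_one, _root_.Matrix.cons_val_fin_one, _root_.Units.val_mk0, _root_.Pi.single_eq_same, _root_.mul_one, _root_.mul_neg, _root_.neg_mul, _root_.neg_neg, _root_.zero_add, _root_.Fin.zero_eta, _root_.one_div]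
      field_simp
    · simp only [_root_.Nat.succ_eq_add_one, _root_.Nat.reduceAdd, _root_.Fin.isValue, _root_.Cfsg.Agent.FooteOdd.dg_apply, _root_.Matrix.cons_val_zero, _root_.Units.val_one, _root_.ne_eq, _root_.zero_ne_one, _root_.not_false_eq_true, _root_.Pi.single_eq_of_ne, _root_.MulZeroClass.mul_zero, _root_.mul_inv_rev, _root_.Matrix.cons_val_one, _root_.Matrix.cons_val_fin_one, _root_.Units.val_mk0, _root_.Pi.single_eq_same, _root_.mul_one, _root_.mul_neg, _root_.neg_mul, _root_.neg_neg, _root_.zero_add, _root_.Fin.mk_one, _root_.one_div, _root_.neg_inj]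
      field_simp
  have hf2 : frob hF (1 / 2 : K) = 1 / 2 := by rw [map_div₀, map_one, map_ofNat]
  refine ⟨g⁻¹, ?_, ?_, ?_, ?_⟩
  · rw [inv_inv, g0, hB_two]
    change frob hF 1 * 1 + frob hF c * c = 0
    rw [hc', map_one]
    norm_num
  · rw [inv_inv, g0, g1, hB_two]
    change frob hF 1 * (1 / 2) + frob hF c * (-(c / 2)) = 1
    have : frob hF 1 * (1 / 2) + frob hF c * (-(c / 2)) = 1 / 2 - (frob hF c * c) / 2 := by rw [map_one]; ring
    rw [this, hc']
    field_simp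
    norm_num
  · rw [inv_inv, g0, g1, hB_two]
    change frob hF (1 / 2) * 1 + frob hF (-(c / 2)) * c = 1
    have : frob hF (1 / 2) * 1 + frob hF (-(c / 2)) * c = 1 / 2 - (frob hF c * c) / 2 := by
      rw [hf2, map_neg, map_div₀, map_ofNat]; ring
    rw [this, hc']
    field_simp
    norm_num
  · rw [inv_inv, g1, hB_two]
    change frob hF (1 / 2) * (1 / 2) + frob hF (-(c / 2)) * (-(c / 2)) = 0
    have : frob hF (1 / 2) * (1 / 2) + frob hF (-(c / 2)) * (-(c / 2)) = (1 + frob hF c * c) * (1 / 2 * (1 / 2)) := by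
      rw [hf2, map_neg, map_div₀, map_ofNat]
      ring
    rw [this, hc']
    ring

theorem tor_e0 (x : Kˣ) : tor q x (Pi.single 0 (1 : K)) = (x : K) • Pi.single 0 1 := by
  funext j
  rw [tor_apply, dg_apply]
  fin_cases j <;> simp

theorem tor_e1 (x : Kˣ) : tor q x (Pi.single 1 (1 : K)) = (((x ^ q)⁻¹ : Kˣ) : K) • Pi.single 1 1 := by
  funext j
  rw [tor_apply, dg_apply]
  fin_cases j <;> simp

theorem semi_le (hF : Fintype.card K = q ^ 2) {k : G2 K}
    (h00 : hB hF (Fin 2) (k⁻¹ (Pi.single 0 1)) (k⁻¹ (Pi.single 0 1)) = 0)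
    (h01 : hB hF (Fin 2) (k⁻¹ (Pi.single 0 1)) (k⁻¹ (Pi.single 1 1)) = 1)
    (h10 : hB hF (Fin 2) (k⁻¹ (Pi.single 1 1)) (k⁻¹ (Pi.single 0 1)) = 1)
    (h11 : hB hF (Fin 2) (k⁻¹ (Pi.single 1 1)) (k⁻¹ (Pi.single 1 1)) = 0) {C : Subgroup Kˣ} :
    (semi hF C).map (MulAut.conj k⁻¹).toMonoidHom ≤ gu hF (Fin 2) := by
  have hks : ∀ (a : K) (v : Fin 2 → K), k⁻¹ (a • v) = a • k⁻¹ v := fun a v => map_smul _ _ _
  have h1 : ∀ x : Kˣ, k⁻¹ * tor q x * k ∈ gu hF (Fin 2) := by
    intro x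
    have hx : frob hF (x : K) * (((x ^ q)⁻¹ : Kˣ) : K) = 1 := by
      rw [frob_apply, ← Units.val_pow_eq_pow_val, ← Units.val_mul, mul_inv_cancel, Units.val_one]
    have hx' : frob hF (((x ^ q)⁻¹ : Kˣ) : K) * (x : K) = 1 := by
      have h2 := congrArg (frob hF) hx
      rw [map_mul, frob_frob, map_one, mul_comm] at h2
      exact h2
    refine mem_gu_of_basis hF fun i j => ?_
    fin_cases i <;> fin_cases j
    · change hB hF (Fin 2) (k⁻¹ (tor q x (Pi.single 0 1))) (k⁻¹ (tor q x (Pi.single 0 1))) = hB hF (Fin 2) (k⁻¹ (Pi.single 0 1)) (k⁻¹ (Pi.single 0 1))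
      rw [tor_e0, hks, hB_smul_left, hB_smul_right, h00]
      ring
    · change hB hF (Fin 2) (k⁻¹ (tor q x (Pi.single 0 1))) (k⁻¹ (tor q x (Pi.single 1 1))) = hB hF (Fin 2) (k⁻¹ (Pi.single 0 1)) (k⁻¹ (Pi.single 1 1))
      rw [tor_e0, tor_e1, hks, hks, hB_smul_left, hB_smul_right, h01, mul_one, hx]
    · change hB hF (Fin 2) (k⁻¹ (tor q x (Pi.single 1 1))) (k⁻¹ (tor q x (Pi.single 0 1))) = hB hF (Fin 2) (k⁻¹ (Pi.single 1 1)) (k⁻¹ (Pi.single 0 1))
      rw [tor_e0, tor_e1, hks, hks, hB_smul_left, hB_smul_right, h10, mul_one, hx']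
    · change hB hF (Fin 2) (k⁻¹ (tor q x (Pi.single 1 1))) (k⁻¹ (tor q x (Pi.single 1 1))) = hB hF (Fin 2) (k⁻¹ (Pi.single 1 1)) (k⁻¹ (Pi.single 1 1))
      rw [tor_e1, hks, hB_smul_left, hB_smul_right, h11]
      ring
  have h2 : k⁻¹ * sw * k ∈ gu hF (Fin 2) := by
    have e0 : (sw : G2 K) (Pi.single 0 1) = Pi.single 1 1 := by
      funext j
      rw [sw, pm_apply]
      fin_cases j <;> simp
    have e1 : (sw : G2 K) (Pi.single 1 1) = Pi.single 0 1 := by
      funext j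
      rw [sw, pm_apply]
      (revert j; simp only [_root_.Fin.forall_fin_succ, Fin.isValue, _root_.Equiv.swap_inv, _root_.Equiv.swap_apply_left, _root_.Pi.single_eq_same, _root_.ne_eq, _root_.Fin.succ_ne_zero, _root_.not_false_eq_true, _root_.Pi.single_eq_of_ne, _root_.Fin.succ_zero_eq_one, _root_.Equiv.swap_apply_right, _root_.zero_ne_one, _root_.IsEmpty.forall_iff, _root_.and_self])
    refine mem_gu_of_basis hF fun i j => ?_
    fin_cases i <;> fin_cases j
    · change hB hF (Fin 2) (k⁻¹ (sw (Pi.single 0 1))) (k⁻¹ (sw (Pi.single 0 1))) = hB hF (Fin 2) (k⁻¹ (Pi.single 0 1)) (k⁻¹ (Pi.single 0 1))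
      rw [e0, h00, h11]
    · change hB hF (Fin 2) (k⁻¹ (sw (Pi.single 0 1))) (k⁻¹ (sw (Pi.single 1 1))) = hB hF (Fin 2) (k⁻¹ (Pi.single 0 1)) (k⁻¹ (Pi.single 1 1))
      rw [e0, e1, h01, h10]
    · change hB hF (Fin 2) (k⁻¹ (sw (Pi.single 1 1))) (k⁻¹ (sw (Pi.single 0 1))) = hB hF (Fin 2) (k⁻¹ (Pi.single 1 1)) (k⁻¹ (Pi.single 0 1))
      rw [e0, e1, h01, h10]
    · change hB hF (Fin 2) (k⁻¹ (sw (Pi.single 1 1))) (k⁻¹ (sw (Pi.single 1 1))) = hB hF (Fin 2) (k⁻¹ (Pi.single 1 1)) (k⁻¹ (Pi.single 1 1))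
      rw [e1, h00, h11]
  rintro _ ⟨_, ⟨x, hx, rfl | rfl⟩, rfl⟩
  · change k⁻¹ * tor q x * (k⁻¹)⁻¹ ∈ _
    rw [inv_inv]
    exact h1 x
  · change k⁻¹ * (tor q x * sw) * (k⁻¹)⁻¹ ∈ _
    have : k⁻¹ * (tor q x * sw) * (k⁻¹)⁻¹ = (k⁻¹ * tor q x * k) * (k⁻¹ * sw * k) := by group
    rw [this]
    exact mul_mem (h1 x) h2

/-- the 2-part of the order of `GU_2(q)` -/
theorem card_gu_two (hF : Fintype.card K = q ^ 2) (two : (2 : K) ≠ 0) :
    (Nat.card (gu hF (Fin 2))).factorization 2 = (q + 1).factorization 2 + (q ^ 2 - 1).factorization 2 := by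
  have h1 : 1 < q := two_le hF
  rw [card_gu hF (n := 2) (by simp)]
  have e2 := Num.v2_gu (odd_q hF two) h1 1 0 (2 * (2 - 1) / 2) (by norm_num)
  simp only [Num.v2] at e2
  simp only [mul_one, add_zero, one_mul, Nat.factorial_one, Nat.factorization_one, Finsupp.coe_zero, Pi.zero_apply,
      zero_mul] at e2
  exact e2

/-- transport of `NInfo` -/
theorem NInfo.map {K : Type*} [Field K] {P M : Subgroup (G2 K)} {D2 : Subgroup Kˣ} {ty : Bool} {w : ℕ} (h : NInfo P M D2 ty w)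
    (θ : G2 K ≃* G2 K) : NInfo (P.map θ.toMonoidHom) (M.map θ.toMonoidHom) D2 ty w := by
  refine ⟨h.hw, h.hw3, ?_, ?_, ?_, ?_, h.cardD⟩
  · obtain ⟨x, hx, hxo⟩ := h.exM
    exact ⟨θ x, ⟨x, hx, rfl⟩, by rw [MulEquiv.orderOf_eq, hxo]⟩
  · rintro _ ⟨x, hx, rfl⟩
    change θ x ^ 2 ^ w = 1
    rw [← map_pow, h.powM x hx, map_one]
  · rintro _ ⟨f, hf, rfl⟩
    obtain ⟨x, hx, hxi⟩ := h.noinv f hf
    refine ⟨θ x, ⟨x, hx, rfl⟩, fun h1 => hxi (θ.injective ?_)⟩
    rw [map_mul, map_mul, map_inv, map_inv]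
    exact h1
  · rw [Nat.card_congr (Subgroup.equivMapOfInjective _ _ θ.injective).symm.toEquiv, h.cardM]

/-- the type and the parameter of `GU_2(q)` -/
theorem pdat_gu_info (hF : Fintype.card K = q ^ 2) (two : (2 : K) ≠ 0) :
    ∃ (P M : Subgroup (G2 K)) (D2 : Subgroup Kˣ) (c0 t0 : G2 K), P ≤ gu hF (Fin 2) ∧
      D2 ≤ (powMonoidHom (q + 1) : Kˣ →* Kˣ).ker ∧
      Nat.card P = 2 ^ (Nat.card (gu hF (Fin 2))).factorization 2 ∧
      Nat.card D2 = 2 ^ (Nat.card (powMonoidHom (q + 1) : Kˣ →* Kˣ).ker).factorization 2 ∧ PDat P M D2 c0 t0 ∧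
      (q % 4 = 3 → NInfo P M D2 true ((q + 1).factorization 2)) ∧
      (q % 4 = 1 → NInfo P M D2 false ((q - 1).factorization 2 + 1)) := by
  have hp : Fact (Nat.Prime 2) := ⟨Nat.prime_two⟩
  have hoddq := odd_q hF two
  have hq1 : 1 < q := two_le hF
  have h0 : q ^ 2 - 1 = (q + 1) * (q - 1) := by simpa only [_root_.one_pow] using Nat.sq_sub_sq q 1
  have hnegk : (-1 : Kˣ) ∈ (powMonoidHom (q + 1) : Kˣ →* Kˣ).ker := by
    rw [MonoidHom.mem_ker, powMonoidHom_apply]
    exact Even.neg_one_pow hoddq.add_one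
  have hneg1 : (-1 : Kˣ) ≠ 1 := fun h => by
    have := congrArg Units.val h
    rw [Units.val_neg, Units.val_one] at this
    exact two (by linear_combination -this)
  rcases Nat.odd_mod_four_iff.1 (Nat.odd_iff.1 hoddq) with hq | hq
  · -- `q ≡ 1 (mod 4)`
    let SD : Sylow 2 Kˣ := default
    obtain ⟨c0, t0, h, hN⟩ := pdat_semi hF hq SD
    obtain ⟨k, h00, h01, h10, h11⟩ := exists_hyp hF two
    have hfac : (q + 1).factorization 2 = 1 := S1217.factorization_two_of_mod (by omega)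
    refine ⟨_, _, zpowers (-1), _, _, semi_le hF h00 h01 h10 h11 (C := (SD : Subgroup Kˣ)), by rwa [zpowers_le], ?_, ?_,
      h.map (MulAut.conj k⁻¹) (fun g => ?_) (fun d => ?_), fun h3 => by omega, fun _ => hN.map (MulAut.conj k⁻¹)⟩
    · rw [Nat.card_congr (Subgroup.equivMapOfInjective _ _ (MulAut.conj k⁻¹).injective).symm.toEquiv, card_semi,
        SD.card_eq_multiplicity, Nat.card_units, Nat.card_eq_fintype_card, hF, card_gu_two hF two, hfac, pow_add, pow_one,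
        mul_comm]
    · rw [card_ker_pow hF, hfac, Nat.card_zpowers, pow_one]
      exact orderOf_eq_prime (by simp only [_root_.even_two, _root_.Even.neg_pow, _root_.one_pow]) hneg1
    · rw [MulAut.conj_apply, map_mul, map_mul, mul_right_comm, ← map_mul, mul_inv_cancel, map_one, one_mul]
    · rw [MulAut.conj_apply, ← sc_comm, mul_inv_cancel_right]
  · -- `q ≡ 3 (mod 4)`
    set N1 := (powMonoidHom (q + 1) : Kˣ →* Kˣ).ker with hN1
    let SQ : Sylow 2 ↥N1 := default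
    set! D2 : Subgroup Kˣ := ((SQ : Subgroup ↥N1).map N1.subtype :) with hD2
    have hcard : Nat.card D2 = 2 ^ (Nat.card N1).factorization 2 := by
      rw [hD2, Nat.card_congr (Subgroup.equivMapOfInjective _ _ N1.subtype_injective).symm.toEquiv, SQ.card_eq_multiplicity]
    have hcN : Nat.card N1 = q + 1 := card_ker_pow hF
    have hw : 2 ≤ (q + 1).factorization 2 := by
      rw [← Nat.Prime.pow_dvd_iff_le_factorization Nat.prime_two (by omega)]
      omega
    have hcyc : IsCyclic ↥D2 := inferInstance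
    obtain ⟨⟨ζ, hζ⟩, hg⟩ := hcyc.exists_generator
    have hgen : ∀ d ∈ D2, d ∈ zpowers ζ := by
      intro d hd
      obtain ⟨k, hk⟩ := mem_zpowers_iff.1 (hg ⟨d, hd⟩)
      exact ⟨k, congrArg Subtype.val hk⟩
    have hζo : orderOf ζ = 2 ^ (q + 1).factorization 2 := by
      rw [← hcN, ← hcard, ← Nat.card_zpowers]
      congr 1
      have : zpowers ζ = D2 := le_antisymm (by rw [zpowers_le]; exact hζ) (fun d hd => hgen d hd)
      rw [this]
    have hneg : (-1 : Kˣ) ∈ D2 := by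
      refine ⟨⟨-1, hnegk⟩, mem_sylow_of_comm SQ (n := 1) ?_, rfl⟩
      exact Subtype.ext (by simp only [_root_.pow_one, _root_.SubmonoidClass.mk_pow, _root_.even_two, _root_.Even.neg_pow, _root_.one_pow, _root_.OneMemClass.coe_one])
    have hD2le : D2 ≤ N1 := by
      rw [hD2]
      exact map_subtype_le _
    refine ⟨mono D2, diag D2, D2, _, _, ?_, hD2le, ?_, hcard, pdat_mono hζ hgen hneg hw hζo,
      fun _ => ninfo_mono hζ hgen hw hζo _, fun h3 => by omega⟩
    · rintro _ ⟨d, σ, hd, rfl⟩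
      refine mul_mem (dg_mem_gu hF fun i => ?_) (pm_mem_gu hF σ)
      have h1 := hD2le (hd i)
      rw [hN1, MonoidHom.mem_ker, powMonoidHom_apply] at h1
      exact h1
    · have hfac : (q - 1).factorization 2 = 1 := S1217.factorization_two_of_mod (by omega)
      rw [card_mono, hcard, card_gu_two hF two, hcN, h0, Nat.factorization_mul (by omega) (by omega), Finsupp.add_apply,
        hfac, ← pow_mul, ← pow_succ]
      congr 1
      ring

/-- the facts for a Sylow 2-subgroup of `GU_2(q)` -/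
theorem pdat_gu (hF : Fintype.card K = q ^ 2) (two : (2 : K) ≠ 0) :
    ∃ (P M : Subgroup (G2 K)) (D2 : Subgroup Kˣ) (c0 t0 : G2 K), P ≤ gu hF (Fin 2) ∧
      D2 ≤ (powMonoidHom (q + 1) : Kˣ →* Kˣ).ker ∧
      Nat.card P = 2 ^ (Nat.card (gu hF (Fin 2))).factorization 2 ∧
      Nat.card D2 = 2 ^ (Nat.card (powMonoidHom (q + 1) : Kˣ →* Kˣ).ker).factorization 2 ∧ PDat P M D2 c0 t0 := by
  obtain ⟨P, M, D2, c0, t0, h1, h2, h3, h4, h5, -⟩ := pdat_gu_info hF two
  exact ⟨P, M, D2, c0, t0, h1, h2, h3, h4, h5⟩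

end gu2

section sys

variable {K : Type*} [Field K] {α β : Type*} [Fintype α] [DecidableEq α] [Fintype β] [DecidableEq β]

/-- the block model of a Sylow 2-subgroup of a quotient by scalars -/
theorem exists_mod_sys [Finite K] (s : Sys K α β) {P : Subgroup (G2 K)} {D2 : Subgroup Kˣ} (hP : P ≤ s.L2) (hD : D2 ≤ s.D)
    (hPc : Nat.card P = 2 ^ (Nat.card s.L2).factorization 2) (hDc : Nat.card D2 = 2 ^ (Nat.card s.D).factorization 2)
    (Q : Sylow 2 (Perm α)) {G : Type*} [Group G] [Finite G] (ψ : ↥s.Γ →* G) (hψ : Function.Surjective ψ)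
    (hker : ∀ g, ψ g = 1 ↔ ∃ c : Kˣ, (g : (Ix α β → K) ≃ₗ[K] (Ix α β → K)) = sc c) :
    ∃ T : Sylow 2 G, Nonempty (Mod α β P D2 (Q : Subgroup (Perm α)) ↥(T : Subgroup G)) := by
  have hp : Fact (Nat.Prime 2) := ⟨Nat.prime_two⟩
  have hf1 : Finite ((Ix α β → K) ≃ₗ[K] (Ix α β → K)) := Finite.of_injective _ DFunLike.coe_injective
  have hRL : R P D2 (Q : Subgroup (Perm α)) ≤ s.L := by
    rintro _ ⟨p, π, hπ, h1, h2, rfl⟩
    exact mul_mem (s.blk p (fun i => hP (h1 i)) (fun j => hD (h2 j))) (s.perm _)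
  let TL : Sylow 2 ↥s.L := Sylow.ofCard ((R P D2 (Q : Subgroup (Perm α))).subgroupOf s.L) (by
    rw [Nat.card_congr (subgroupOfEquivOfLe hRL).toEquiv, card_R, hPc, hDc, Q.card_eq_multiplicity, s.h4, ← pow_mul,
      ← pow_mul, ← pow_add, ← pow_add]
    congr 1
    ring)
  set! ST := St α β P D2 (Q : Subgroup (Perm α)) with hST
  have hle : ST ≤ s.Γ := inf_le_inf_right _ hRL
  have hΓn : (s.Γ.subgroupOf s.L).Normal := by
    refine ⟨fun n hn g => ?_⟩
    exact s.conj_mem g.2 hn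
  have hpg : IsPGroup 2 ↥(ST.subgroupOf s.Γ) := by
    have h1 : IsPGroup 2 ↥(R P D2 (Q : Subgroup (Perm α))) :=
      TL.2.of_equiv (subgroupOfEquivOfLe hRL)
    have h2 : IsPGroup 2 ↥ST := h1.to_le inf_le_left
    exact h2.of_equiv (subgroupOfEquivOfLe hle).symm
  have hidx : ¬ 2 ∣ (ST.subgroupOf s.Γ).index := by
    have h1 := Cfsg.Agent.CharactersDeep.QuatSylow.not_dvd_relIndex_of_normal TL (s.Γ.subgroupOf s.L)
    have h2 : (TL : Subgroup ↥s.L) = (R P D2 (Q : Subgroup (Perm α))).subgroupOf s.L := rfl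
    have h3 : s.Γ ≤ s.L := inf_le_left
    rw [h2, relIndex_subgroupOf h3, ← inf_relIndex_right] at h1
    have h4 : R P D2 (Q : Subgroup (Perm α)) ⊓ s.Γ = ST := by
      rw [hST, St, Sys.Γ, ← inf_assoc, inf_eq_left.2 hRL]
    rw [h4] at h1
    exact h1
  let TN : Sylow 2 ↥s.Γ := hpg.toSylow hidx
  have hTN : (TN : Subgroup ↥s.Γ) = ST.subgroupOf s.Γ := rfl
  let T : Sylow 2 G := TN.mapSurjective hψ
  have hT : (T : Subgroup G) = (ST.subgroupOf s.Γ).map ψ := Sylow.coe_mapSurjective hψ TN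
  refine ⟨T, ⟨?_⟩⟩
  classical
  have hmem : ∀ g, ∀ h : g ∈ ST, ψ ⟨g, hle h⟩ ∈ (T : Subgroup G) := by
    intro g h
    rw [hT]
    exact ⟨⟨g, hle h⟩, h, rfl⟩
  refine ⟨fun g => if h : g ∈ ST then ⟨ψ ⟨g, hle h⟩, hmem g h⟩ else 1, ?_, ?_, ?_⟩
  · intro g hg h hh
    rw [dif_pos hg, dif_pos hh, dif_pos (mul_mem hg hh)]
    refine Subtype.ext ?_
    change ψ _ = ψ _ * ψ _
    rw [← map_mul]
    rfl
  · rintro ⟨x, hx⟩
    rw [hT] at hx
    obtain ⟨g, hg, rfl⟩ := hx
    refine ⟨g, hg, ?_⟩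
    rw [dif_pos (show (g : (Ix α β → K) ≃ₗ[K] (Ix α β → K)) ∈ ST from hg)]
  · intro g hg
    rw [dif_pos hg, ← hker ⟨g, hle hg⟩]
    constructor
    · intro h
      exact congrArg Subtype.val h
    · intro h
      exact Subtype.ext h

end sys

section psu

variable {K : Type*} [Field K] [Fintype K] {q : ℕ}

/-- Sylow 2-subgroups of `PSU_n(q)` in terms of the block model -/
theorem exists_mod_psu_info {n : ℕ} (hn : 3 ≤ n) (hF : Fintype.card K = q ^ 2) (two : (2 : K) ≠ 0) :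
    ∃ (P M : Subgroup (G2 K)) (D2 : Subgroup Kˣ) (c0 t0 : G2 K) (_ : PDat P M D2 c0 t0) (Q : Sylow 2 (Perm (Fin (n / 2))))
      (T : Sylow 2 (Cfsg.PSU n K q)),
      Nonempty (Mod (Fin (n / 2)) (Fin (n % 2)) P D2 (Q : Subgroup (Perm (Fin (n / 2)))) ↥(T : Subgroup (Cfsg.PSU n K q))) ∧
      (q % 4 = 3 → NInfo P M D2 true ((q + 1).factorization 2)) ∧
      (q % 4 = 1 → NInfo P M D2 false ((q - 1).factorization 2 + 1)) := by
  have hm : Nonempty (Fin (n / 2)) := ⟨⟨0, by omega⟩⟩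
  have hnn : Nonempty (Fin n) := ⟨⟨0, by omega⟩⟩
  obtain ⟨P, M, D2, c0, t0, h1, h2, h3, h4, h, h5, h6⟩ := pdat_gu_info hF two
  let Q : Sylow 2 (Perm (Fin (n / 2))) := default
  set s := guSys hF two (n / 2) (n % 2) (by omega) with hs
  have hcard : Fintype.card (Ix (Fin (n / 2)) (Fin (n % 2))) = n := by
    simp only [_root_.Fintype.card_sum, _root_.Fintype.card_prod, _root_.Fintype.card_fin]; omega
  let e : Ix (Fin (n / 2)) (Fin (n % 2)) ≃ Fin n := Fintype.equivFinOfCardEq hcard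
  have hΓ : s.Γ ≤ (LinearEquiv.det : _ →* Kˣ).ker := inf_le_right
  have hfinSU : Finite (Cfsg.SU n K q) := inferInstance
  have hfin : Finite (Cfsg.PSU n K q) := Finite.of_surjective (QuotientGroup.mk' (center (Cfsg.SU n K q))) (QuotientGroup.mk'_surjective _)
  let φ : ↥s.Γ →* Cfsg.SU n K q := MonoidHom.codRestrict (toSL.comp ((reKer e).comp (inclusion hΓ))) (Cfsg.SU n K q) fun g => by
    change toSL (reKer e (inclusion hΓ g)) ∈ _
    rw [toSL_mem_SU hF]
    exact (cjE_mem_gu hF e _).2 g.2.1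
  have hφ : Function.Surjective φ := by
    rintro ⟨A, hA⟩
    obtain ⟨g, rfl⟩ := toSL_surjective A
    obtain ⟨h, rfl⟩ := reKer_surjective e g
    rw [toSL_mem_SU hF] at hA
    exact ⟨⟨h, (cjE_mem_gu hF e _).1 hA, h.2⟩, rfl⟩
  let ψ : ↥s.Γ →* Cfsg.PSU n K q := (QuotientGroup.mk' (center (Cfsg.SU n K q))).comp φ
  obtain ⟨T, hT⟩ := exists_mod_sys s (P := P) (D2 := D2) h1 h2 h3 h4 Q ψ (by
    intro x
    obtain ⟨A, rfl⟩ := QuotientGroup.mk'_surjective _ x
    obtain ⟨g, rfl⟩ := hφ A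
    exact ⟨g, rfl⟩) (by
    intro g
    have h1 : ψ g = 1 ↔ toSL (reKer e (inclusion hΓ g)) ∈ center (_root_.Matrix.SpecialLinearGroup (Fin n) K) := by
      change (QuotientGroup.mk' (center (Cfsg.SU n K q))) (φ g) = 1 ↔ _
      rw [QuotientGroup.mk'_apply, QuotientGroup.eq_one_iff]
      constructor
      · intro h
        obtain ⟨c, hcn, hcq, hc⟩ := (mem_center_SU_iff hF hn _).1 h
        rw [Matrix.SpecialLinearGroup.mem_center_iff]
        refine ⟨c, by rw [Fintype.card_fin]; exact hcn, ?_⟩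
        have h2 := congrArg (fun X : Cfsg.SU n K q => ((X : _root_.Matrix.SpecialLinearGroup (Fin n) K) : Matrix (Fin n) (Fin n) K)) hc
        exact h2.symm
      · intro h
        rw [mem_center_iff] at h ⊢
        intro B
        exact Subtype.ext (h B)
    rw [h1, toSL_mem_center, reKer_scalar]
    rfl)
  exact ⟨P, M, D2, c0, t0, h, Q, T, hT, h5, h6⟩

/-- Sylow 2-subgroups of `PSU_n(q)` in terms of the block model -/
theorem exists_mod_psu {n : ℕ} (hn : 3 ≤ n) (hF : Fintype.card K = q ^ 2) (two : (2 : K) ≠ 0) :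
    ∃ (P M : Subgroup (G2 K)) (D2 : Subgroup Kˣ) (c0 t0 : G2 K) (_ : PDat P M D2 c0 t0) (Q : Sylow 2 (Perm (Fin (n / 2))))
      (T : Sylow 2 (Cfsg.PSU n K q)),
      Nonempty (Mod (Fin (n / 2)) (Fin (n % 2)) P D2 (Q : Subgroup (Perm (Fin (n / 2)))) ↥(T : Subgroup (Cfsg.PSU n K q))) := by
  obtain ⟨P, M, D2, c0, t0, h, Q, T, hT, -⟩ := exists_mod_psu_info hn hF two
  exact ⟨P, M, D2, c0, t0, h, Q, T, hT⟩

/-- **`n ≥ 4`**: no automorphisms of odd order. -/
theorem noOdd_psu {n : ℕ} (hn : 4 ≤ n) (hF : Fintype.card K = q ^ 2) (two : (2 : K) ≠ 0)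
    (S : Sylow 2 (Cfsg.PSU n K q)) {φ : (MulAut ↥(S : Subgroup (Cfsg.PSU n K q)) :)}
    {k : ℕ} (hk : Odd k) (hφ : φ ^ k = 1) : φ = 1 := by
  have hp : Fact (Nat.Prime 2) := ⟨Nat.prime_two⟩
  have hfinSU : Finite (Cfsg.SU n K q) := inferInstance
  have hfin : Finite (Cfsg.PSU n K q) := Finite.of_surjective (QuotientGroup.mk' (center (Cfsg.SU n K q))) (QuotientGroup.mk'_surjective _)
  obtain ⟨P, M, D2, c0, t0, h, Q, T, ⟨md⟩⟩ := exists_mod_psu (by omega : 3 ≤ n) hF two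
  have key : ∀ ψ : (MulAut ↥(T : Subgroup (Cfsg.PSU n K q)) :), ψ ^ k = 1 → ψ = 1 := by
    intro ψ hψ
    rcases eq_or_ne n 4 with hn4 | hn4
    · subst hn4
      have hβ : IsEmpty (Fin (4 % 2)) := Fin.isEmpty
      refine md.eq_one_four T.2 two h (i1 := (⟨0, by norm_num⟩ : Fin (4 / 2))) (i2 := ⟨1, by norm_num⟩) (by simp) ?_ ?_ hk hψ
      · intro i
        rcases i with ⟨i, hi⟩
        simp only [Fin.mk.injEq]
        omega
      · have hc : Nat.card (Perm (Fin (4 / 2))) = 2 := by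
          rw [Nat.card_perm, Nat.card_eq_fintype_card, Fintype.card_fin]; rfl
        have hQ : (Q : Subgroup (Perm (Fin (4 / 2)))) = ⊤ := by
          apply Subgroup.eq_top_of_card_eq
          rw [Q.card_eq_multiplicity, hc, Nat.Prime.factorization_self Nat.prime_two, pow_one]
        rw [hQ]
        exact mem_top _
    · have hm : Nonempty (Fin (n / 2)) := ⟨⟨0, by omega⟩⟩
      have hβ : Subsingleton (Fin (n % 2)) := by
        rcases Nat.mod_two_eq_zero_or_one n with h0 | h0 <;> rw [h0] <;> infer_instance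
      refine md.eq_one_five T.2 two h Q rfl ?_ hk hψ
      intro l l'
      have hcard : 3 ≤ Fintype.card (Fin (n / 2) ⊕ Fin (n % 2)) := by
        rw [Fintype.card_sum, Fintype.card_fin, Fintype.card_fin]; omega
      by_contra hcon
      push Not at hcon
      have h1 : (Finset.univ : Finset (Fin (n / 2) ⊕ Fin (n % 2))) ⊆ {l, l'} := by
        intro x _
        rw [Finset.mem_insert, Finset.mem_singleton]
        by_cases hx : x = l
        · exact Or.inl hx
        · exact Or.inr (hcon x hx)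
      have h2 := Finset.card_le_card h1
      rw [Finset.card_univ] at h2
      have h3 := Finset.card_le_two (a := l) (b := l')
      omega
  let e : ↥(S : Subgroup (Cfsg.PSU n K q)) ≃* ↥(T : Subgroup (Cfsg.PSU n K q)) := Sylow.equiv S T
  have h1 : (MulAut.congr e φ) ^ k = 1 := by rw [← map_pow, hφ, map_one]
  exact (MulAut.congr e).injective ((key _ h1).trans (map_one _).symm)

/-- **`n ≥ 3`**: not abelian. -/
theorem noncomm_psu {n : ℕ} (hn : 3 ≤ n) (hF : Fintype.card K = q ^ 2) (two : (2 : K) ≠ 0) (S : Sylow 2 (Cfsg.PSU n K q)) :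
    ∃ x y : ↥(S : Subgroup (Cfsg.PSU n K q)), x * y ≠ y * x := by
  have hp : Fact (Nat.Prime 2) := ⟨Nat.prime_two⟩
  have hfinSU : Finite (Cfsg.SU n K q) := inferInstance
  have hfin : Finite (Cfsg.PSU n K q) := Finite.of_surjective (QuotientGroup.mk' (center (Cfsg.SU n K q))) (QuotientGroup.mk'_surjective _)
  obtain ⟨P, M, D2, c0, t0, h, Q, T, ⟨md⟩⟩ := exists_mod_psu hn hF two
  obtain ⟨x, y, hxy⟩ := md.noncomm h (fun l => by
    have hcard : 2 ≤ Fintype.card (Fin (n / 2) ⊕ Fin (n % 2)) := by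
      rw [Fintype.card_sum, Fintype.card_fin, Fintype.card_fin]; omega
    have : Nontrivial (Fin (n / 2) ⊕ Fin (n % 2)) := Fintype.one_lt_card_iff_nontrivial.1 (by omega)
    exact exists_ne l) ⟨0, by omega⟩
  let e : ↥(S : Subgroup (Cfsg.PSU n K q)) ≃* ↥(T : Subgroup (Cfsg.PSU n K q)) := Sylow.equiv S T
  refine ⟨e.symm x, e.symm y, fun hc => hxy ?_⟩
  rw [← map_mul, ← map_mul] at hc
  exact e.symm.injective hc

/-- **`n ≥ 3`**: no automorphisms of odd order, not abelian. -/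
theorem psu_main {n : ℕ} (hn : 3 ≤ n) (hF : Fintype.card K = q ^ 2) (two : (2 : K) ≠ 0) (S : Sylow 2 (Cfsg.PSU n K q)) :
    (∀ (φ : (MulAut ↥(S : Subgroup (Cfsg.PSU n K q)) :)) (k : ℕ), Odd k → φ ^ k = 1 → φ = 1) ∧
      ∃ x y : ↥(S : Subgroup (Cfsg.PSU n K q)), x * y ≠ y * x := by
  refine ⟨?_, noncomm_psu hn hF two S⟩
  rcases (by omega : n = 3 ∨ 4 ≤ n) with rfl | h4
  · have hfinSU : Finite (Cfsg.SU 3 K q) := inferInstance
    have hfin : Finite (Cfsg.PSU 3 K q) := Finite.of_surjective (QuotientGroup.mk' (center (Cfsg.SU 3 K q))) (QuotientGroup.mk'_surjective _)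
    have hS := Cfsg.Agent.GH.Cov.SylowThree.psu_three hF (odd_q hF two) (MulEquiv.refl _) S
    have hA := Cfsg.Agent.Classification.QDW.AutSylow.isPGroup_mulAut hS
    intro φ k hk hφ
    obtain ⟨m, hm⟩ := hA φ
    rw [← orderOf_eq_one_iff]
    exact Nat.eq_one_of_dvd_coprimes (Nat.Coprime.pow_left m (Nat.coprime_two_left.2 hk))
      (orderOf_dvd_of_pow_eq_one hm) (orderOf_dvd_of_pow_eq_one hφ)
  · exact fun φ k hk hφ => noOdd_psu h4 hF two S hk hφ

end psu

end Cfsg.Agent.H763.Psa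
end

private theorem dce_b9746d765465 : _root_.True := by
  try have : _root_.True := by simp only [_root_.Cfsg.Agent.H763.Psa.sw.eq_1]
  try have : _root_.True := by simp only [_root_.Cfsg.Agent.H763.Psa.St.eq_1]
  exact _root_.True.intro
end

-- part: H763/PsaPsp
section
prune_inst 0xd01071040400020000010082410002043400009010008001408002000300062009002000000010000000000000000108100000008000000000000000000401208002040011000004a60099801000000000000000000000000000000000000000000000000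
set_option linter.all false
open scoped Cfsg.Agent.FastGrp

-- part: H763/PsaInv
section
/-!
# The Sylow 2-subgroup of `PSL_n^ε(q)` determines `n`, the type and the parameter (helper763, S5173)

`Top A a c w` : `A` is an abelian normal subgroup containing every abelian normal subgroup, of index `2 ^ a`, order `2 ^ c`,
exponent `2 ^ w`, and not inverted by an element.
-/

set_option autoImplicit false
set_option linter.unusedVariables false
set_option linter.unusedSectionVars false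

namespace Cfsg.Agent.H763.Psa

open Subgroup Equiv
open Cfsg.Agent.FooteOdd
open Matrix (SpecialLinearGroup ProjectiveSpecialLinearGroup)

/-- the largest abelian normal subgroup with its numerical invariants -/
structure Top {S : Type*} [Group S] (A : Subgroup S) (a c w : ℕ) : Prop where
  normal : A.Normal
  comm : ∀ x ∈ A, ∀ y ∈ A, x * y = y * x
  le : ∀ N : Subgroup S, N.Normal → (∀ x ∈ N, ∀ y ∈ N, x * y = y * x) → N ≤ A
  index : A.index = 2 ^ a
  card : Nat.card A = 2 ^ c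
  exp : ∀ k, (∀ x ∈ A, x ^ 2 ^ k = 1) ↔ w ≤ k
  noinv : ∀ s : S, ∃ x ∈ A, s * x * s⁻¹ ≠ x⁻¹

theorem Top.comap_le {S S1 : Type*} [Group S] [Group S1] {A : Subgroup S} {a c w : ℕ} (h : Top A a c w) (e : S ≃* S1)
    {A1 : Subgroup S1} (hn : A1.Normal) (hab : ∀ x ∈ A1, ∀ y ∈ A1, x * y = y * x) : A1.comap e.toMonoidHom ≤ A := by
  refine h.le _ (hn.comap _) ?_
  intro x hx y hy
  apply e.injective
  rw [map_mul, map_mul]
  exact hab _ hx _ hy

/-- an abelian normal subgroup containing its centralizer is the largest one -/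
theorem Top.eq_of_scn {S S1 : Type*} [Group S] [Group S1] {A : Subgroup S} {a c w : ℕ} (h : Top A a c w) (e : S ≃* S1)
    {A1 : Subgroup S1} (hn : A1.Normal) (hab : ∀ x ∈ A1, ∀ y ∈ A1, x * y = y * x)
    (hc : ∀ s : S1, (∀ x ∈ A1, s * x = x * s) → s ∈ A1) : A1 = A.map e.toMonoidHom := by
  have h1 := h.comap_le e hn hab
  have hmem : ∀ x ∈ A1, e.symm x ∈ A := fun x hx => h1 (by
    change e (e.symm x) ∈ A1
    rw [e.apply_symm_apply]
    exact hx)
  apply le_antisymm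
  · intro x hx
    exact ⟨e.symm x, hmem x hx, e.apply_symm_apply x⟩
  · rintro _ ⟨x, hx, rfl⟩
    refine hc _ fun y hy => ?_
    have h2 := h.comm x hx _ (hmem y hy)
    have h3 := congrArg e h2
    rw [map_mul, map_mul, e.apply_symm_apply] at h3
    exact h3

/-- the index of an abelian normal subgroup is at least that of the largest one -/
theorem Top.index_le {S S1 : Type*} [Group S] [Group S1] [Finite S1] {A : Subgroup S} {a c w : ℕ} (h : Top A a c w) (e : S ≃* S1)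
    {A1 : Subgroup S1} (hn : A1.Normal) (hab : ∀ x ∈ A1, ∀ y ∈ A1, x * y = y * x) : 2 ^ a ≤ A1.index := by
  have h1 := h.comap_le e hn hab
  have h2 : (A1.comap e.toMonoidHom).index = A1.index := index_comap_of_surjective _ e.surjective
  rw [← h2, ← h.index]
  refine Nat.le_of_dvd (Nat.pos_of_ne_zero ?_) (index_dvd_of_le h1)
  rw [h2]
  exact index_ne_zero_of_finite

/-- transport -/
theorem Top.map {S S1 : Type*} [Group S] [Group S1] {A : Subgroup S} {a c w : ℕ} (h : Top A a c w) (e : S ≃* S1) :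
    Top (A.map e.toMonoidHom) a c w := by
  refine ⟨h.normal.map _ e.surjective, ?_, ?_, ?_, ?_, ?_, ?_⟩
  · rintro _ ⟨x, hx, rfl⟩ _ ⟨y, hy, rfl⟩
    change e x * e y = e y * e x
    rw [← map_mul, h.comm x hx y hy, map_mul]
  · intro N hN hab x hx
    refine ⟨e.symm x, h.comap_le e hN hab ?_, e.apply_symm_apply x⟩
    change e (e.symm x) ∈ N
    rw [e.apply_symm_apply]
    exact hx
  · rw [← h.index]
    have h2 : ((A.map e.toMonoidHom).comap e.toMonoidHom).index = (A.map e.toMonoidHom).index :=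
      index_comap_of_surjective _ e.surjective
    rw [← h2, comap_map_eq_self_of_injective (f := e.toMonoidHom) e.injective]
  · rw [← h.card]
    exact Nat.card_congr (Subgroup.equivMapOfInjective _ _ e.injective).symm.toEquiv
  · intro k
    rw [← h.exp k]
    constructor
    · intro h1 x hx
      have := h1 (e x) ⟨x, hx, rfl⟩
      rw [← map_pow] at this
      exact e.injective (this.trans (map_one e).symm)
    · rintro h1 _ ⟨x, hx, rfl⟩
      change e x ^ 2 ^ k = 1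
      rw [← map_pow, h1 x hx, map_one]
  · intro s
    obtain ⟨x, hx, hxi⟩ := h.noinv (e.symm s)
    refine ⟨e x, ⟨x, hx, rfl⟩, fun h1 => hxi (e.injective ?_)⟩
    rw [map_mul, map_mul, map_inv, map_inv, e.apply_symm_apply]
    exact h1

/-- the invariants are determined -/
theorem Top.unique {S S1 : Type*} [Group S] [Group S1] {A : Subgroup S} {a c w : ℕ} (h : Top A a c w) (e : S ≃* S1)
    {A1 : Subgroup S1} {a1 c1 w1 : ℕ} (h1 : Top A1 a1 c1 w1) : a = a1 ∧ c = c1 ∧ w = w1 := by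
  have h2 := h.map e
  have key : A.map e.toMonoidHom = A1 := le_antisymm (h1.le _ h2.normal h2.comm) (h2.le _ h1.normal h1.comm)
  rw [key] at h2
  refine ⟨Nat.pow_right_injective le_rfl (h2.index.symm.trans h1.index), Nat.pow_right_injective le_rfl (h2.card.symm.trans h1.card), ?_⟩
  apply le_antisymm
  · exact (h2.exp w1).1 ((h1.exp w1).2 le_rfl)
  · exact (h1.exp w).1 ((h2.exp w).2 le_rfl)

namespace Mod

variable {K : Type*} [Field K] {α β : Type*} [Fintype α] [DecidableEq α] [Fintype β] [DecidableEq β]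
variable {P M : Subgroup (G2 K)} {D2 : Subgroup Kˣ} {c0 t0 : G2 K} {Q : Subgroup (Perm α)} {S : Type*} [Group S]
variable (md : Mod α β P D2 Q S)

/-- elements with the same image have the same entries modulo `M` -/
theorem mem_iff (h : PDat P M D2 c0 t0) {a b : Pa K α β} (ha : IsB P D2 a) (hb : IsB P D2 b) (hab : md.Ψ (J a) = md.Ψ (J b))
    (i : α) : a.1 i ∈ M ↔ b.1 i ∈ M := by
  obtain ⟨d, hd⟩ := md.ent_eq ha hb hab
  have h1 : a.1 i = sc d * b.1 i := hd (Sum.inl i)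
  have h2 : d ∈ D2 := by
    refine h.sc_P d ?_
    have : sc d = a.1 i * (b.1 i)⁻¹ := by rw [h1, mul_inv_cancel_right]
    rw [this]
    exact P.mul_mem (ha.1 i) (P.inv_mem (hb.1 i))
  rw [h1]
  exact M.mul_mem_cancel_left (h.sc_mem d h2)

theorem mul_iff (h : PDat P M D2 c0 t0) {f g : G2 K} (hf : f ∈ P) (hg : g ∈ P) : f * g ∈ M ↔ (f ∈ M ↔ g ∈ M) := by
  constructor
  · intro h1
    constructor
    · intro h2
      exact (M.mul_mem_cancel_left h2).1 h1
    · intro h2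
      exact (M.mul_mem_cancel_right h2).1 h1
  · intro h1
    by_cases h2 : f ∈ M
    · exact M.mul_mem h2 (h1.1 h2)
    · exact h.two f hf g hg h2 (fun h3 => h2 (h1.2 h3))

/-- **The index of `A`.** -/
theorem index_A (h : PDat P M D2 c0 t0) : (md.A h.MP).index = 2 ^ Fintype.card α * Nat.card Q := by
  classical
  obtain ⟨ρ, hρ, hρ'⟩ := md.exists_perm
  have hex : ∀ s : ρ.ker, ∃ p : Pa K α β, IsB P D2 p ∧ md.Ψ (J p) = (s : S) := by
    rintro ⟨s, hs⟩
    obtain ⟨g, hg, rfl⟩ := md.surj s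
    obtain ⟨p, π, hπ, hp, rfl⟩ := exists_of_mem hg
    rw [MonoidHom.mem_ker, hρ' p π hp hπ] at hs
    subst hs
    refine ⟨p, hp, ?_⟩
    change md.Ψ (J p) = md.Ψ (J p * bp 1)
    rw [map_one, mul_one]
  choose f hf hf' using hex
  have hone : (-1 : ℤˣ) ≠ 1 := by decide
  let κ : ρ.ker →* (α → ℤˣ) := MonoidHom.mk' (fun s i => if (f s).1 i ∈ M then 1 else -1) (by
    intro s s'
    funext i
    have h1 : md.Ψ (J (f (s * s'))) = md.Ψ (J (f s * f s')) := by
      rw [hf', md.Jmul (hf s) (hf s'), hf', hf']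
      rfl
    have h2 := md.mem_iff h (hf (s * s')) ((hf s).mul (hf s')) h1 i
    have h3 : (f s * f s').1 i = (f s).1 i * (f s').1 i := rfl
    rw [h3, mul_iff h ((hf s).1 i) ((hf s').1 i)] at h2
    change (if (f (s * s')).1 i ∈ M then (1 : ℤˣ) else -1) = (if (f s).1 i ∈ M then 1 else -1) * (if (f s').1 i ∈ M then 1 else -1)
    by_cases h4 : (f s).1 i ∈ M <;> by_cases h5 : (f s').1 i ∈ M
    · rw [if_pos (h2.2 ⟨fun _ => h5, fun _ => h4⟩), if_pos h4, if_pos h5]; rfl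
    · rw [if_neg (fun h6 => h5 ((h2.1 h6).1 h4)), if_pos h4, if_neg h5]; rfl
    · rw [if_neg (fun h6 => h4 ((h2.1 h6).2 h5)), if_neg h4, if_pos h5]; rfl
    · rw [if_pos (h2.2 ⟨fun h6 => absurd h6 h4, fun h6 => absurd h6 h5⟩), if_neg h4, if_neg h5]; rfl)
  have hκ : ∀ s i, κ s i = if (f s).1 i ∈ M then 1 else -1 := fun _ _ => rfl
  have hle : md.A h.MP ≤ ρ.ker := by
    rintro _ ⟨a, ha, rfl⟩
    rw [MonoidHom.mem_ker]
    have := hρ' a 1 (ha.mono h.MP) (one_mem _)
    rwa [map_one, mul_one] at this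
  have hker : κ.ker = (md.A h.MP).subgroupOf ρ.ker := by
    ext s
    rw [MonoidHom.mem_ker, mem_subgroupOf]
    constructor
    · intro h1
      refine ⟨f s, ⟨fun i => ?_, (hf s).2.1, (hf s).2.2⟩, hf' s⟩
      by_contra h2
      have h3 := congrFun h1 i
      rw [hκ, if_neg h2] at h3
      exact hone h3
    · rintro ⟨a, ha, has⟩
      funext i
      rw [hκ, if_pos]
      · rfl
      · exact (md.mem_iff h (hf s) (ha.mono h.MP) (by rw [hf', has]) i).2 (ha.1 i)
  have hsurj : Function.Surjective κ := by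
    intro x
    have hB : IsB P D2 ((fun i => if x i = 1 then 1 else t0, 1) : Pa K α β) := by
      refine ⟨fun i => ?_, fun j => D2.one_mem, ?_⟩
      · change (if x i = 1 then 1 else t0) ∈ P
        split_ifs
        · exact P.one_mem
        · exact h.t0P
      · rw [det_J]
        have : ∀ i, LinearEquiv.det (if x i = 1 then (1 : G2 K) else t0) = 1 := by
          intro i
          split_ifs
          · exact map_one _
          · exact h.t0det
        simp only [this, _root_.Finset.prod_const_one, _root_.Pi.one_apply, _root_.mul_one]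
    have hs : md.Ψ (J ((fun i => if x i = 1 then 1 else t0, 1) : Pa K α β)) ∈ ρ.ker := by
      rw [MonoidHom.mem_ker]
      have := hρ' _ 1 hB (one_mem _)
      rwa [map_one, mul_one] at this
    refine ⟨⟨_, hs⟩, ?_⟩
    funext i
    rw [hκ]
    have h1 := md.mem_iff h (hf ⟨_, hs⟩) hB (hf' ⟨_, hs⟩) i
    change _ ↔ (if x i = 1 then (1 : G2 K) else t0) ∈ M at h1
    rcases Int.units_eq_one_or (x i) with hx | hx
    · rw [if_pos hx] at h1
      rw [if_pos (h1.2 M.one_mem), hx]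
    · rw [if_neg (by rw [hx]; exact hone)] at h1
      rw [if_neg (fun h2 => h.t0M (h1.1 h2)), hx]
  have h1 : (md.A h.MP).relIndex ρ.ker = 2 ^ Fintype.card α := by
    rw [relIndex, ← hker, index_ker, MonoidHom.range_eq_top.2 hsurj, card_top, Nat.card_fun, Nat.card_eq_fintype_card (α := ℤˣ),
      Nat.card_eq_fintype_card (α := α)]
    rfl
  rw [← relIndex_mul_index hle, h1, index_ker, hρ]

/-- block diagonal matrices with entries in `M` and determinant one -/
def BM (α β : Type*) [Fintype α] [DecidableEq α] [Fintype β] [DecidableEq β] (M : Subgroup (G2 K)) (D2 : Subgroup Kˣ) :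
    Subgroup (Pa K α β) where
  carrier := {a | IsB M D2 a}
  mul_mem' ha hb := IsB.mul ha hb
  one_mem' := IsB.one
  inv_mem' ha := IsB.inv ha

/-- **The order of `A`.** -/
theorem card_A [Finite K] [Nonempty α] (h : PDat P M D2 c0 t0) :
    Nat.card (md.A h.MP) * Nat.card {d : D2 // (d : Kˣ) ^ (2 * Fintype.card α + Fintype.card β) = 1} * Nat.card D2 =
      Nat.card M ^ Fintype.card α * Nat.card D2 ^ Fintype.card β := by
  have hfG : Finite (G2 K) := Finite.of_injective _ DFunLike.coe_injective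
  -- the determinant
  let jj : ((α → M) × (β → D2)) → Pa K α β := fun x => (fun i => (x.1 i : G2 K), fun j => (x.2 j : Kˣ))
  let dJ : Pa K α β →* Kˣ := (LinearEquiv.det : ((Ix α β → K) ≃ₗ[K] (Ix α β → K)) →* Kˣ).comp J
  let δ : ((α → M) × (β → D2)) →* D2 := MonoidHom.mk' (fun x => ⟨dJ (jj x), by
      change LinearEquiv.det (J (jj x)) ∈ D2
      rw [det_J]
      exact mul_mem (Subgroup.prod_mem _ fun i _ => h.det_mem _ (h.MP (x.1 i).2)) (Subgroup.prod_mem _ fun j _ => (x.2 j).2)⟩) (by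
    intro x y
    exact Subtype.ext (map_mul dJ (jj x) (jj y)))
  have hδ : Function.Surjective δ := by
    rintro ⟨d, hd⟩
    obtain ⟨i⟩ := ‹Nonempty α›
    obtain ⟨b, h1, h2, h3, -⟩ := exists_adj (α := α) (β := β) h (Sum.inl i) hd
    exact ⟨(fun i => ⟨b.1 i, h1 i⟩, fun j => ⟨b.2 j, h2 j⟩), Subtype.ext h3⟩
  have hBM : Nat.card (BM α β M D2) = Nat.card δ.ker := by
    refine Nat.card_congr
      { toFun := fun a => ⟨(fun i => ⟨(a : Pa K α β).1 i, a.2.1 i⟩, fun j => ⟨(a : Pa K α β).2 j, a.2.2.1 j⟩), Subtype.ext a.2.2.2⟩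
        invFun := fun x => ⟨(fun i => ((x : (α → M) × (β → D2)).1 i : G2 K), fun j => ((x : (α → M) × (β → D2)).2 j : Kˣ)),
          fun i => ((x : (α → M) × (β → D2)).1 i).2, fun j => ((x : (α → M) × (β → D2)).2 j).2, congrArg Subtype.val x.2⟩
        left_inv := fun a => rfl
        right_inv := fun x => rfl }
  have h1 : Nat.card (BM α β M D2) * Nat.card D2 = Nat.card M ^ Fintype.card α * Nat.card D2 ^ Fintype.card β := by
    rw [hBM]
    have h2 := card_mul_index δ.ker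
    rw [index_ker, MonoidHom.range_eq_top.2 hδ, card_top] at h2
    rw [h2, Nat.card_prod, Nat.card_fun, Nat.card_fun, Nat.card_eq_fintype_card (α := α), Nat.card_eq_fintype_card (α := β)]
  -- the map to `A`
  let ψ : BM α β M D2 →* S := MonoidHom.mk' (fun a => md.Ψ (J (a : Pa K α β))) fun a b =>
    md.Jmul (IsB.mono h.MP a.2) (IsB.mono h.MP b.2)
  have hψ : ψ.range = md.A h.MP := by
    ext s
    constructor
    · rintro ⟨a, rfl⟩
      exact ⟨a, a.2, rfl⟩
    · rintro ⟨a, ha, rfl⟩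
      exact ⟨⟨a, ha⟩, rfl⟩
  have hdetsc : ∀ d : Kˣ, LinearEquiv.det (J ((fun _ => sc d, fun _ => d) : Pa K α β)) = d ^ (2 * Fintype.card α + Fintype.card β) := by
    intro d
    rw [det_J]
    simp only [det_sc2, Finset.prod_const, Finset.card_univ]
    rw [← pow_two, ← pow_mul, ← pow_add]
  have hker : Nat.card ψ.ker = Nat.card {d : D2 // (d : Kˣ) ^ (2 * Fintype.card α + Fintype.card β) = 1} := by
    have hB : ∀ d : {d : D2 // (d : Kˣ) ^ (2 * Fintype.card α + Fintype.card β) = 1},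
        IsB M D2 ((fun _ => sc ((d : D2) : Kˣ), fun _ => ((d : D2) : Kˣ)) : Pa K α β) := fun d =>
      ⟨fun i => h.sc_mem _ d.1.2, fun j => d.1.2, by rw [hdetsc, d.2]⟩
    refine (Nat.card_congr (Equiv.ofBijective (fun d : {d : D2 // (d : Kˣ) ^ (2 * Fintype.card α + Fintype.card β) = 1} =>
      (⟨⟨_, hB d⟩, ?_⟩ : ψ.ker)) ⟨?_, ?_⟩)).symm
    · rw [MonoidHom.mem_ker]
      change md.Ψ (J _) = 1
      rw [md.ker _ ((hB d).mono h.MP).mem]
      exact ⟨_, (sc_eq_J _).symm⟩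
    · intro d d' hdd
      have h2 := congrArg (fun x : ψ.ker => ((x : BM α β M D2) : Pa K α β)) hdd
      obtain ⟨i⟩ := ‹Nonempty α›
      have h3 := congrFun (congrArg Prod.fst h2) i
      exact Subtype.ext (Subtype.ext (sc_inj h3))
    · rintro ⟨⟨a, ha⟩, hk⟩
      rw [MonoidHom.mem_ker] at hk
      change md.Ψ (J a) = 1 at hk
      obtain ⟨d, hd⟩ := (md.ker _ (ha.mono h.MP).mem).1 hk
      rw [sc_eq_J] at hd
      have h2 := J_injective hd
      have hdD : d ∈ D2 := by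
        obtain ⟨i⟩ := ‹Nonempty α›
        refine h.sc_P d ?_
        have h3 := congrFun (congrArg Prod.fst h2) i
        change a.1 i = sc d at h3
        rw [← h3]
        exact h.MP (ha.1 i)
      have hdp : d ^ (2 * Fintype.card α + Fintype.card β) = 1 := by
        rw [← hdetsc, ← h2]
        exact ha.2.2
      exact ⟨⟨⟨d, hdD⟩, hdp⟩, Subtype.ext (Subtype.ext h2.symm)⟩
  have h2 := card_mul_index ψ.ker
  rw [index_ker, hψ, hker] at h2
  rw [← h1, ← h2]
  ring

/-- **The exponent of `A`.** -/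
theorem exp_A [Nonempty α] (h : PDat P M D2 c0 t0) (h3 : ∀ l l' : α ⊕ β, ∃ k, k ≠ l ∧ k ≠ l') (N : ℕ) :
    (∀ x ∈ md.A h.MP, x ^ N = 1) ↔ ∀ x ∈ M, x ^ N = 1 := by
  have hpow : ∀ (a : Pa K α β), IsB P D2 a → ∀ n : ℕ, md.Ψ (J a) ^ n = md.Ψ (J (a ^ n)) ∧ IsB P D2 (a ^ n) := by
    intro a ha n
    induction n with
    | zero => rw [pow_zero, pow_zero, map_one, md.one]; exact ⟨rfl, IsB.one⟩
    | succ n ih => rw [pow_succ, pow_succ, ih.1, ← md.Jmul ih.2 ha]; exact ⟨rfl, ih.2.mul ha⟩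
  have entpow : ∀ (a : Pa K α β) (n : ℕ) (l : α ⊕ β), ent (a ^ n) l = ent a l ^ n := by
    intro a n l
    induction n with
    | zero => rw [pow_zero, pow_zero, ent_one]
    | succ n ih => rw [pow_succ, pow_succ, ent_mul, ih]
  constructor
  · intro h1 x hx
    obtain ⟨i⟩ := ‹Nonempty α›
    obtain ⟨k, hk, -⟩ := h3 (Sum.inl i) (Sum.inl i)
    obtain ⟨a, ha, ha1, ha2⟩ := exists_A h hk hx
    obtain ⟨k', hk1, hk2⟩ := h3 (Sum.inl i) k
    have h4 := h1 _ ⟨a, ha, rfl⟩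
    rw [(hpow a (ha.mono h.MP) N).1] at h4
    obtain ⟨d, hd⟩ := (md.ker _ (hpow a (ha.mono h.MP) N).2.mem).1 h4
    have h5 : J (a ^ N) = sc d * J (1 : Pa K α β) := by rw [hd, map_one, mul_one]
    have h6 := J_eq_sc_mul h5
    have h7 := h6 k'
    rw [entpow, ha2 k' hk1 hk2, one_pow, ent_one, mul_one] at h7
    have h8 := h6 (Sum.inl i)
    rwa [entpow, ha1, ← h7, ent_one, mul_one] at h8
  · rintro h1 _ ⟨a, ha, rfl⟩
    rw [(hpow a (ha.mono h.MP) N).1]
    have h2 : a ^ N = 1 := by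
      apply ext_ent
      intro l
      rw [entpow, ent_one]
      rcases l with i | j
      · exact h1 _ (ha.1 i)
      · exact h1 _ (h.sc_mem _ (ha.2.1 j))
    rw [h2, map_one, md.one]

/-- **No element inverts `A`.** -/
theorem noinv_A [Nonempty α] (h : PDat P M D2 c0 t0) {ty : Bool} {w : ℕ} (hN : NInfo P M D2 ty w)
    (h3 : ∀ l l' : α ⊕ β, ∃ k, k ≠ l ∧ k ≠ l') (s : S) : ∃ x ∈ md.A h.MP, s * x * s⁻¹ ≠ x⁻¹ := by
  by_contra hcon
  push Not at hcon
  obtain ⟨g, hg, rfl⟩ := md.surj s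
  obtain ⟨p, π, hπ, hp, rfl⟩ := exists_of_mem hg
  have key : ∀ a, IsB M D2 a → ∃ d : Kˣ, ∀ l, ent (cj p π a) l = sc d * ent a⁻¹ l := by
    intro a ha
    have haP := ha.mono h.MP
    refine md.ent_eq (cj_isB hp hπ haP) haP.inv ?_
    rw [← md.conj_eq hp hπ haP, hcon _ ⟨a, ha, rfl⟩, md.Jinv haP]
  -- the permutation is trivial
  have hπ1 : ∀ i, π i = i := by
    intro i
    by_contra hi
    obtain ⟨d, hd⟩ := key (sg i c0) (isB_sg h.c0M h.c0det)
    have h1 := hd (Sum.inl i)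
    rw [cj_sg, sg_ne (fun h => hi (Sum.inl.inj h).symm), ent_inv, sg_same] at h1
    have h4 : c0 = sc d := by
      have := eq_mul_inv_iff_mul_eq.1 h1
      rwa [one_mul] at this
    exact h.c0ns h4
  obtain ⟨i⟩ := ‹Nonempty α›
  obtain ⟨x, hx, hxi⟩ := hN.noinv (p.1 i) (hp.1 i)
  obtain ⟨k, hk, -⟩ := h3 (Sum.inl i) (Sum.inl i)
  obtain ⟨a, ha, ha1, ha2⟩ := exists_A h hk hx
  obtain ⟨k', hk1, hk2⟩ := h3 (Sum.inl i) k
  obtain ⟨d, hd⟩ := key a ha
  have h5 : π⁻¹ i = i := by rw [Perm.inv_eq_iff_eq, hπ1]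
  have h1 := hd (Sum.inl i)
  rw [cj_inl, h5, ent_inv, ha1] at h1
  have h2 := hd k'
  have h6 : ent (cj p π a) k' = 1 := by
    rcases k' with j | j
    · have h7 : π⁻¹ j = j := by rw [Perm.inv_eq_iff_eq, hπ1]
      rw [cj_inl, h7, ha2 _ hk1 hk2, mul_one, mul_inv_cancel]
    · rw [cj_inr, ha2 _ hk1 hk2]
  rw [h6, ent_inv, ha2 _ hk1 hk2, inv_one, mul_one] at h2
  rw [← h2, one_mul] at h1
  exact hxi h1

end Mod

end Cfsg.Agent.H763.Psa
end

-- part: H763/PsaPar
section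
/-!
# The Sylow 2-subgroup of `PSL_n^ε(q)`, `n ≥ 6`, determines `n`, the type and the parameter (helper763, S5173)

`psl_psl`, `psl_psu` : if the Sylow 2-subgroups of `PSL_n(q)`, `n ≥ 6`, and of `PSL_k(r)`, `k ≥ 2` (`PSU_k(r)`, `k ≥ 3`) are
isomorphic then `n = k` and the 2-parts of `r - 1`, `r + 1` are those of `q - 1`, `q + 1` (of `q + 1`, `q - 1`).
-/

set_option autoImplicit false
set_option linter.unusedVariables false
set_option linter.unusedSectionVars false

namespace Cfsg.Agent.H763.Psa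

open Subgroup Equiv
open Cfsg.Agent.FooteOdd
open Matrix (SpecialLinearGroup ProjectiveSpecialLinearGroup)

theorem gcd_two_pow (b : ℕ) {n : ℕ} (hn : n ≠ 0) : Nat.gcd (2 ^ b) n = 2 ^ min b (n.factorization 2) := by
  apply Nat.dvd_antisymm
  · obtain ⟨i, hi, h⟩ := (Nat.dvd_prime_pow Nat.prime_two).1 (Nat.gcd_dvd_left (2 ^ b) n)
    rw [h]
    refine pow_dvd_pow 2 (le_min hi ?_)
    rw [← Nat.Prime.pow_dvd_iff_le_factorization Nat.prime_two hn, ← h]
    exact Nat.gcd_dvd_right _ _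
  · refine Nat.dvd_gcd (pow_dvd_pow 2 (min_le_left _ _)) ?_
    rw [Nat.Prime.pow_dvd_iff_le_factorization Nat.prime_two hn]
    exact min_le_right _ _

/-- strict monotonicity -/
theorem index_mono {m m' : ℕ} (h : m + (Nat.factorial m).factorization 2 = m' + (Nat.factorial m').factorization 2) : m = m' := by
  have hs : ∀ a b : ℕ, a ≤ b → (Nat.factorial a).factorization 2 ≤ (Nat.factorial b).factorization 2 := by
    intro a b hab
    exact (Nat.factorization_le_iff_dvd (Nat.factorial_ne_zero a) (Nat.factorial_ne_zero b)).2 (Nat.factorial_dvd_factorial hab) 2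
  rcases Nat.lt_trichotomy m m' with h1 | h1 | h1
  · have := hs m m' h1.le
    omega
  · exact h1
  · have := hs m' m h1.le
    omega

/-- the order of `A` -/
def Rel (n : ℕ) (ty : Bool) (w c : ℕ) : Prop :=
  c + min (if ty then w else 1) (n.factorization 2) + (if ty then w else 1) =
    (if ty then 2 * w else w) * (n / 2) + (if ty then w else 1) * (n % 2)

/-- the data of a Sylow 2-subgroup of `PSL_n^ε(q)` -/
structure Par (S : Type*) [Group S] (n : ℕ) (ty : Bool) (w : ℕ) : Prop where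
  hw : 2 ≤ w
  hw3 : ty = false → 3 ≤ w
  alt : (6 ≤ n ∧ ∃ (A : Subgroup S) (c : ℕ), Top A (n / 2 + (Nat.factorial (n / 2)).factorization 2) c w ∧ Rel n ty w c) ∨
    (n ≤ 5 ∧ ∃ A : Subgroup S, A.Normal ∧ (∀ x ∈ A, ∀ y ∈ A, x * y = y * x) ∧ A.index ≤ 8)

/-- **The parameters are determined by the group.** -/
theorem Par.unique {S S' : Type*} [Group S] [Group S'] [Finite S'] (e : S ≃* S') {n n' : ℕ} (hn : 6 ≤ n) {ty ty' : Bool}
    {w w' : ℕ} (h : Par S n ty w) (h' : Par S' n' ty' w') : n = n' ∧ ty = ty' ∧ w = w' := by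
  rcases h.alt with ⟨-, A, c, hA, hr⟩ | ⟨h5, -⟩
  swap
  · omega
  rcases h'.alt with ⟨hn', A', c', hA', hr'⟩ | ⟨h5, A', hA1, hA2, hA3⟩
  · obtain ⟨e1, e2, e3⟩ := hA.unique e hA'
    have hm := index_mono e1
    subst e2 e3
    have h2w := h.hw
    have hX : 3 * w ≤ w * (n / 2) := by
      have : 3 ≤ n / 2 := by omega
      nlinarith only [this]
    have hv : ∀ k : ℕ, k ≠ 0 → k % 2 = 0 → 1 ≤ k.factorization 2 := by
      intro k hk hk2
      rw [← Nat.Prime.pow_dvd_iff_le_factorization Nat.prime_two hk, pow_one]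
      exact Nat.dvd_of_mod_eq_zero hk2
    have hv0 : ∀ k : ℕ, k % 2 = 1 → k.factorization 2 = 0 := by
      intro k hk2
      exact Nat.factorization_eq_zero_of_not_dvd (by omega)
    have hodd : ∀ (k : ℕ) (t : Bool), k / 2 = n / 2 → Rel k t w c → k ≠ 0 →
        (t = true ∧ k % 2 = 1 ∧ c = 2 * (w * (n / 2))) ∨
        (t = true ∧ k % 2 = 0 ∧ ∃ g, 1 ≤ g ∧ g ≤ w ∧ c + g + w = 2 * (w * (n / 2))) ∨
        (t = false ∧ k % 2 = 1 ∧ c = w * (n / 2)) ∨ (t = false ∧ k % 2 = 0 ∧ c + 2 = w * (n / 2)) := by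
      intro k t hk hR hk0
      rw [Rel, hk] at hR
      cases t
      · simp only [Bool.false_eq_true, if_false] at hR
        rcases Nat.mod_two_eq_zero_or_one k with h1 | h1
        · right; right; right
          refine ⟨rfl, h1, ?_⟩
          have := hv k hk0 h1
          rw [min_eq_left this, h1] at hR
          omega
        · right; right; left
          refine ⟨rfl, h1, ?_⟩
          rw [hv0 k h1, h1] at hR
          simp at hR
          omega
      · simp only [if_true] at hR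
        rw [mul_assoc] at hR
        rcases Nat.mod_two_eq_zero_or_one k with h1 | h1
        · right; left
          refine ⟨rfl, h1, min w (k.factorization 2), le_min (by omega) (hv k hk0 h1), min_le_left _ _, ?_⟩
          rw [h1] at hR
          simpa only [_root_.MulZeroClass.mul_zero, _root_.add_zero] using hR
        · left
          refine ⟨rfl, h1, ?_⟩
          rw [hv0 k h1, h1] at hR
          simp at hR
          omega
    rcases hodd n ty rfl hr (by omega) with ⟨a1, a2, a3⟩ | ⟨a1, a2, g, a3, a4, a5⟩ | ⟨a1, a2, a3⟩ | ⟨a1, a2, a3⟩ <;>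
    rcases hodd n' ty' hm.symm hr' (by omega) with ⟨b1, b2, b3⟩ | ⟨b1, b2, g', b3, b4, b5⟩ | ⟨b1, b2, b3⟩ | ⟨b1, b2, b3⟩ <;>
    first
      | (exfalso; omega)
      | (exact ⟨by (clear * - e1 hm a2 b2; omega), by rw [a1, b1], rfl⟩)
  · exfalso
    have h1 := hA.index_le e hA1 hA2
    have h2 : 3 ≤ n / 2 := by omega
    have h3 : 1 ≤ (Nat.factorial (n / 2)).factorization 2 := by
      rw [← Nat.Prime.pow_dvd_iff_le_factorization Nat.prime_two (Nat.factorial_ne_zero _), pow_one]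
      exact Nat.dvd_factorial (by norm_num) (by omega)
    have h4 : (2 : ℕ) ^ 4 ≤ 2 ^ (n / 2 + (Nat.factorial (n / 2)).factorization 2) := Nat.pow_le_pow_right (by norm_num) (by omega)
    omega

theorem Par.congr {S S' : Type*} [Group S] [Group S'] (e : S ≃* S') {n : ℕ} {ty : Bool}
    {w : ℕ} (h : Par S n ty w) : Par S' n ty w := by
  refine ⟨h.hw, h.hw3, ?_⟩
  rcases h.alt with ⟨hn, A, c, hA, hr⟩ | ⟨h5, A, hA1, hA2, hA3⟩
  · exact Or.inl ⟨hn, _, c, hA.map e, hr⟩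
  · refine Or.inr ⟨h5, A.map e.toMonoidHom, hA1.map _ e.surjective, ?_, ?_⟩
    · rintro _ ⟨x, hx, rfl⟩ _ ⟨y, hy, rfl⟩
      change e x * e y = e y * e x
      rw [← map_mul, hA2 x hx y hy, map_mul]
    · have h2 : ((A.map e.toMonoidHom).comap e.toMonoidHom).index = (A.map e.toMonoidHom).index :=
        index_comap_of_surjective _ e.surjective
      rw [← h2, comap_map_eq_self_of_injective (f := e.toMonoidHom) e.injective]
      exact hA3

/-- the parameters of a model -/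
theorem par_of_mod {K : Type*} [Field K] [Finite K] {n : ℕ} (hn : 2 ≤ n) {P M : Subgroup (G2 K)} {D2 : Subgroup Kˣ} {c0 t0 : G2 K}
    (QS : Sylow 2 (Perm (Fin (n / 2)))) {S : Type*} [Group S] [Finite S]
    (md : Mod (Fin (n / 2)) (Fin (n % 2)) P D2 (QS : Subgroup (Perm (Fin (n / 2)))) S) (h : PDat P M D2 c0 t0)
    {ty : Bool} {w : ℕ} (hN : NInfo P M D2 ty w) : Par S n ty w := by
  have hp : Fact (Nat.Prime 2) := ⟨Nat.prime_two⟩
  have hα : Nonempty (Fin (n / 2)) := ⟨⟨0, by omega⟩⟩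
  have hidx : (md.A h.MP).index = 2 ^ (n / 2 + (Nat.factorial (n / 2)).factorization 2) := by
    rw [md.index_A h, QS.card_eq_multiplicity, Nat.card_perm, Nat.card_eq_fintype_card (α := Fin (n / 2)), Fintype.card_fin, pow_add]
  refine ⟨hN.hw, hN.hw3, ?_⟩
  rcases (by omega : 6 ≤ n ∨ n ≤ 5) with h6 | h5
  · left
    have h3 : ∀ l l' : Fin (n / 2) ⊕ Fin (n % 2), ∃ k, k ≠ l ∧ k ≠ l' := by
      intro l l'
      have hcard : 3 ≤ Fintype.card (Fin (n / 2) ⊕ Fin (n % 2)) := by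
        rw [Fintype.card_sum, Fintype.card_fin, Fintype.card_fin]; omega
      by_contra hcon
      push Not at hcon
      have h1 : (Finset.univ : Finset (Fin (n / 2) ⊕ Fin (n % 2))) ⊆ {l, l'} := by
        intro x _
        rw [Finset.mem_insert, Finset.mem_singleton]
        by_cases hx : x = l
        · exact Or.inl hx
        · exact Or.inr (hcon x hx)
      have h2 := Finset.card_le_card h1
      rw [Finset.card_univ] at h2
      have h3 := Finset.card_le_two (a := l) (b := l')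
      omega
    have hcA := md.card_A h
    -- the number of scalars
    have hn0 : n ≠ 0 := by omega
    have hsc : Nat.card {d : D2 // (d : Kˣ) ^ (2 * Fintype.card (Fin (n / 2)) + Fintype.card (Fin (n % 2))) = 1} =
        2 ^ min (if ty then w else 1) (n.factorization 2) := by
      have e1 : 2 * Fintype.card (Fin (n / 2)) + Fintype.card (Fin (n % 2)) = n := by
        rw [Fintype.card_fin, Fintype.card_fin]; omega
      rw [e1, ← gcd_two_pow _ hn0, ← hN.cardD, ← IsCyclic.card_powMonoidHom_ker]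
      refine Nat.card_congr (Equiv.subtypeEquivRight fun d => ?_)
      rw [MonoidHom.mem_ker, powMonoidHom_apply]
      constructor
      · intro h; exact Subtype.ext h
      · intro h; exact congrArg Subtype.val h
    obtain ⟨c, hc⟩ : ∃ c, Nat.card (md.A h.MP) = 2 ^ c := by
      have h1 : Nat.card (md.A h.MP) ∣ 2 ^ ((if ty then 2 * w else w) * (n / 2) + (if ty then w else 1) * (n % 2)) := by
        rw [hN.cardM, hN.cardD, Fintype.card_fin, Fintype.card_fin, ← pow_mul, ← pow_mul, ← pow_add, mul_assoc] at hcA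
        exact Dvd.intro _ hcA
      obtain ⟨c, -, hc⟩ := (Nat.dvd_prime_pow Nat.prime_two).1 h1
      exact ⟨c, hc⟩
    refine ⟨h6, md.A h.MP, c, ⟨⟨fun x hx g => md.hnorm h g x hx⟩, md.hcomm h, fun N hNn hab => md.le_A h h3 N hNn hab, hidx, hc, ?_,
      fun s => md.noinv_A h hN h3 s⟩, ?_⟩
    · intro k
      rw [md.exp_A h h3]
      constructor
      · intro h1
        obtain ⟨x, hx, hxo⟩ := hN.exM
        have h2 := orderOf_dvd_of_pow_eq_one (h1 x hx)
        rw [hxo] at h2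
        exact (Nat.pow_dvd_pow_iff_le_right (by norm_num)).1 h2
      · intro h1 x hx
        obtain ⟨j, rfl⟩ := Nat.exists_eq_add_of_le h1
        rw [pow_add, pow_mul, hN.powM x hx, one_pow]
    · rw [hc, hsc, hN.cardM, hN.cardD, Fintype.card_fin, Fintype.card_fin, ← pow_mul, ← pow_mul, ← pow_add, ← pow_add, ← pow_add] at hcA
      exact Nat.pow_right_injective le_rfl hcA
  · right
    refine ⟨h5, md.A h.MP, ⟨fun x hx g => md.hnorm h g x hx⟩, md.hcomm h, ?_⟩
    rw [hidx]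
    rcases (by omega : n / 2 = 1 ∨ n / 2 = 2) with h1 | h1
    · rw [h1]
      simp
    · rw [h1]
      have : (Nat.factorial 2).factorization 2 = 1 := by
        rw [Nat.factorial_two]
        exact Nat.Prime.factorization_self Nat.prime_two
      rw [this]
      norm_num

/-- the type of `PSL` -/
def ltype (q : ℕ) : Bool := decide (q % 4 = 1)

/-- the parameter of `PSL` -/
def lpar (q : ℕ) : ℕ := if q % 4 = 1 then (q - 1).factorization 2 else (q + 1).factorization 2 + 1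

/-- the type of `PSU` -/
def utype (q : ℕ) : Bool := decide (q % 4 = 3)

/-- the parameter of `PSU` -/
def upar (q : ℕ) : ℕ := if q % 4 = 3 then (q + 1).factorization 2 else (q - 1).factorization 2 + 1

theorem par_psl {n : ℕ} (hn : 2 ≤ n) {F : Type*} [Field F] [Fintype F] (hF : Odd (Fintype.card F))
    (S : Sylow 2 (ProjectiveSpecialLinearGroup (Fin n) F)) :
    Par ↥(S : Subgroup (ProjectiveSpecialLinearGroup (Fin n) F)) n (ltype (Fintype.card F)) (lpar (Fintype.card F)) := by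
  have hp : Fact (Nat.Prime 2) := ⟨Nat.prime_two⟩
  have two := two_of_odd hF
  have hfin : Finite (ProjectiveSpecialLinearGroup (Fin n) F) := inferInstanceAs (Finite (_ ⧸ _))
  obtain ⟨P, SD, M, c0, t0, h, hN⟩ : ∃ (P : Sylow 2 (G2 F)) (SD : Sylow 2 Fˣ) (M : Subgroup (G2 F)) (c0 t0 : G2 F),
      PDat (P : Subgroup (G2 F)) M (SD : Subgroup Fˣ) c0 t0 ∧
        NInfo (P : Subgroup (G2 F)) M (SD : Subgroup Fˣ) (ltype (Fintype.card F)) (lpar (Fintype.card F)) := by
    rcases Nat.odd_mod_four_iff.1 (Nat.odd_iff.1 hF) with h | h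
    · rw [ltype, lpar, if_pos h, h]
      exact pdat_one_info h
    · rw [ltype, lpar, if_neg (by omega), h]
      exact pdat_three_info h
  let Q : Sylow 2 (Perm (Fin (n / 2))) := default
  obtain ⟨T, ⟨md⟩⟩ := exists_mod_psl (K := F) hn two P SD Q
  exact (par_of_mod hn Q md h hN).congr (Sylow.equiv T S)

theorem par_psu {n : ℕ} (hn : 3 ≤ n) {F : Type*} [Field F] [Fintype F] {q : ℕ} (hF : Fintype.card F = q ^ 2)
    (two : (2 : F) ≠ 0) (S : Sylow 2 (Cfsg.PSU n F q)) :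
    Par ↥(S : Subgroup (Cfsg.PSU n F q)) n (utype q) (upar q) := by
  have hp : Fact (Nat.Prime 2) := ⟨Nat.prime_two⟩
  have hfinSU : Finite (Cfsg.SU n F q) := inferInstance
  have hfin : Finite (Cfsg.PSU n F q) := Finite.of_surjective (QuotientGroup.mk' (Subgroup.center (Cfsg.SU n F q)))
    (QuotientGroup.mk'_surjective _)
  obtain ⟨P, M, D2, c0, t0, h, Q, T, ⟨md⟩, h3, h1⟩ := exists_mod_psu_info hn hF two
  have hN : NInfo P M D2 (utype q) (upar q) := by
    rcases Nat.odd_mod_four_iff.1 (Nat.odd_iff.1 (odd_q hF two)) with h | h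
    · rw [utype, upar, if_neg (by omega), h]
      exact h1 h
    · rw [utype, upar, if_pos h, h]
      exact h3 h
  exact (par_of_mod (by omega) Q md h hN).congr (Sylow.equiv T S)

theorem padic_eq (a : ℕ) : padicValNat 2 a = a.factorization 2 := (Nat.factorization_def a Nat.prime_two).symm

theorem f1 {q : ℕ} (h : q % 4 = 1) : (q + 1).factorization 2 = 1 := S1217.factorization_two_of_mod (by omega)
theorem f3 {q : ℕ} (h : q % 4 = 3) : (q - 1).factorization 2 = 1 := S1217.factorization_two_of_mod (by omega)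

/-- **`PSL_n(q)` against `PSL_k(r)`.** -/
theorem psl_psl {n k : ℕ} (hn : 6 ≤ n) (hk : 2 ≤ k) {F F' : Type*} [Field F] [Fintype F] [Field F'] [Fintype F'] {q r : ℕ}
    (hq : Fintype.card F = q) (hr : Fintype.card F' = r) (hqo : Odd q) (hro : Odd r)
    (S : Sylow 2 (ProjectiveSpecialLinearGroup (Fin n) F)) (S' : Sylow 2 (ProjectiveSpecialLinearGroup (Fin k) F'))
    (e : ↥(S : Subgroup (ProjectiveSpecialLinearGroup (Fin n) F)) ≃* ↥(S' : Subgroup (ProjectiveSpecialLinearGroup (Fin k) F'))) :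
    n = k ∧ padicValNat 2 (r - 1) = padicValNat 2 (q - 1) ∧ padicValNat 2 (r + 1) = padicValNat 2 (q + 1) := by
  subst hq hr
  have hfin : Finite (ProjectiveSpecialLinearGroup (Fin k) F') := inferInstanceAs (Finite (_ ⧸ _))
  obtain ⟨e1, e2, e3⟩ := Par.unique e hn (par_psl (by omega) hqo S) (par_psl hk hro S')
  refine ⟨e1, ?_⟩
  simp only [padic_eq]
  rcases Nat.odd_mod_four_iff.1 (Nat.odd_iff.1 hqo) with h | h <;> rcases Nat.odd_mod_four_iff.1 (Nat.odd_iff.1 hro) with h' | h'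
  · rw [lpar, lpar, if_pos h, if_pos h'] at e3
    exact ⟨e3.symm, by rw [f1 h, f1 h']⟩
  · rw [ltype, ltype, h, h'] at e2
    simp at e2
  · rw [ltype, ltype, h, h'] at e2
    simp at e2
  · rw [lpar, lpar, if_neg (by omega), if_neg (by omega)] at e3
    exact ⟨by rw [f3 h, f3 h'], by omega⟩

/-- **`PSL_n(q)` against `PSU_k(r)`.** -/
theorem psl_psu {n k : ℕ} (hn : 6 ≤ n) (hk : 3 ≤ k) {F F' : Type*} [Field F] [Fintype F] [Field F'] [Fintype F'] {q r : ℕ}
    (hq : Fintype.card F = q) (hr : Fintype.card F' = r ^ 2) (hqo : Odd q) (two : (2 : F') ≠ 0)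
    (S : Sylow 2 (ProjectiveSpecialLinearGroup (Fin n) F)) (S' : Sylow 2 (Cfsg.PSU k F' r))
    (e : ↥(S : Subgroup (ProjectiveSpecialLinearGroup (Fin n) F)) ≃* ↥(S' : Subgroup (Cfsg.PSU k F' r))) :
    n = k ∧ padicValNat 2 (r + 1) = padicValNat 2 (q - 1) ∧ padicValNat 2 (r - 1) = padicValNat 2 (q + 1) := by
  subst hq
  have hfinSU : Finite (Cfsg.SU k F' r) := inferInstance
  have hfin : Finite (Cfsg.PSU k F' r) := Finite.of_surjective (QuotientGroup.mk' (Subgroup.center (Cfsg.SU k F' r)))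
    (QuotientGroup.mk'_surjective _)
  obtain ⟨e1, e2, e3⟩ := Par.unique e hn (par_psl (by omega) hqo S) (par_psu hk hr two S')
  refine ⟨e1, ?_⟩
  simp only [padic_eq]
  rcases Nat.odd_mod_four_iff.1 (Nat.odd_iff.1 hqo) with h | h <;>
    rcases Nat.odd_mod_four_iff.1 (Nat.odd_iff.1 (odd_q hr two)) with h' | h'
  · rw [ltype, utype, h, h'] at e2
    simp at e2
  · rw [lpar, upar, if_pos h, if_pos h'] at e3
    exact ⟨e3.symm, by rw [f1 h, f3 h']⟩
  · rw [lpar, upar, if_neg (by omega), if_neg (by omega)] at e3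
    exact ⟨by rw [f3 h, f1 h'], by omega⟩
  · rw [ltype, utype, h, h'] at e2
    simp at e2

end Cfsg.Agent.H763.Psa
end

-- part: H763/PsaInvt
section
/-!
# Inverted self-centralizing normal subgroups (helper763, S5173)

`Invt S` : `S` has an abelian normal subgroup containing its centralizer and inverted by an element of `S`. The Sylow 2-subgroups
of `PSL_n^ε(q)`, `n ≥ 6`, have no such subgroup.
-/

set_option autoImplicit false

namespace Cfsg.Agent.H763.Psa

open Subgroup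

/-- an abelian normal subgroup containing its centralizer, inverted by an element -/
def Invt (S : Type*) [Group S] : Prop :=
  ∃ A : Subgroup S, A.Normal ∧ (∀ x ∈ A, ∀ y ∈ A, x * y = y * x) ∧ (∀ s, (∀ x ∈ A, s * x = x * s) → s ∈ A) ∧
    ∃ s, ∀ x ∈ A, s * x * s⁻¹ = x⁻¹

theorem Par.not_invt {S S1 : Type*} [Group S] [Group S1] {n : ℕ} {ty : Bool} {w : ℕ} (h : Par S n ty w) (hn : 6 ≤ n)
    (e : S ≃* S1) : ¬ Invt S1 := by
  rintro ⟨A1, hN, hab, hc, s, hs⟩
  rcases h.alt with ⟨-, A, c, hA, -⟩ | ⟨h5, -⟩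
  swap
  · omega
  have h1 := hA.eq_of_scn e hN hab hc
  have h2 := hA.map e
  rw [← h1] at h2
  obtain ⟨x, hx, hxs⟩ := h2.noinv s
  exact hxs (hs x hx)

/-- The criterion in a covering group. -/
theorem invt_of_cover {G H : Type*} [Group G] [Group H] (π : G →* H) {W A0 : Subgroup G} {S : Subgroup H}
    (hS : W.map π = S) (hAW : A0 ≤ W) (hn : ∀ w ∈ W, ∀ x ∈ A0, w * x * w⁻¹ ∈ A0) (hab : ∀ x ∈ A0, ∀ y ∈ A0, x * y = y * x)
    (hc : ∀ w ∈ W, (∀ x ∈ A0, π (w * x) = π (x * w)) → w ∈ A0) {s : G} (hs : s ∈ W) (hi : ∀ x ∈ A0, s * x * s⁻¹ = x⁻¹) :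
    Invt ↥S := by
  subst hS
  refine ⟨(A0.map π).subgroupOf (W.map π), ?_, ?_, ?_, ⟨π s, mem_map_of_mem _ hs⟩, ?_⟩
  · constructor
    rintro ⟨_, _⟩ hx ⟨_, w, hw, rfl⟩
    rw [mem_subgroupOf] at hx ⊢
    obtain ⟨x, hx, hx'⟩ := hx
    simp only at hx'
    refine ⟨w * x * w⁻¹, hn w hw x hx, ?_⟩
    rw [map_mul, map_mul, map_inv, hx']
    rfl
  · rintro ⟨_, _⟩ hx ⟨_, _⟩ hy
    rw [mem_subgroupOf] at hx hy
    obtain ⟨x, hx, hx'⟩ := hx
    obtain ⟨y, hy, hy'⟩ := hy
    simp only at hx' hy'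
    apply Subtype.ext
    change _ * _ = _ * _
    simp only
    rw [← hx', ← hy', ← map_mul, hab x hx y hy, map_mul]
  · rintro ⟨_, w, hw, rfl⟩ h
    rw [mem_subgroupOf]
    refine ⟨w, hc w hw fun x hx => ?_, rfl⟩
    have := congrArg Subtype.val (h ⟨π x, mem_map_of_mem _ (hAW hx)⟩ (mem_subgroupOf.2 (mem_map_of_mem _ hx)))
    rw [map_mul, map_mul]
    exact this
  · rintro ⟨_, _⟩ hx
    rw [mem_subgroupOf] at hx
    obtain ⟨x, hx, hx'⟩ := hx
    simp only at hx'
    apply Subtype.ext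
    change π s * _ * (π s)⁻¹ = (_)⁻¹
    simp only
    rw [← hx', ← map_inv, ← map_inv, ← map_mul, ← map_mul, hi x hx]

end Cfsg.Agent.H763.Psa
end

-- part: H763/PsaPsp
section
/-!
# The Sylow 2-subgroup of `PSp_2m(q)`, `m ≥ 2`, `q` odd, has an inverted self-centralizing normal subgroup (helper763, S5173)
-/

set_option autoImplicit false
set_option linter.unusedSectionVars false

namespace Cfsg.Agent.H763.Psa

open Subgroup

theorem Invt.congr {S S' : Type*} [Group S] [Group S'] (e : S ≃* S') (h : Invt S) : Invt S' := by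
  obtain ⟨A, hN, hab, hc, s, hs⟩ := h
  refine ⟨A.map e.toMonoidHom, hN.map _ e.surjective, ?_, ?_, e s, ?_⟩
  · rintro _ ⟨x, hx, rfl⟩ _ ⟨y, hy, rfl⟩
    change e x * e y = e y * e x
    rw [← map_mul, hab x hx y hy, map_mul]
  · intro t ht
    refine ⟨e.symm t, hc _ fun x hx => ?_, e.apply_symm_apply t⟩
    apply e.injective
    rw [map_mul, map_mul, e.apply_symm_apply]
    exact ht _ ⟨x, hx, rfl⟩
  · rintro _ ⟨x, hx, rfl⟩
    change e s * e x * (e s)⁻¹ = (e x)⁻¹
    rw [← map_inv, ← map_inv, ← map_mul, ← map_mul, hs x hx]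

namespace Psp

open Matrix Cfsg Cfsg.Agent.ClassicalGeometry.SympBasic Cfsg.Agent.HoltZ.Psp Cfsg.Agent.ClosedTwo.Psp

variable {F : Type*} [Field F] {m : ℕ}

local notation "V" => (Fin m ⊕ Fin m → F)
local notation "G" => Matrix.symplecticGroup (Fin m) F
local notation "Mat" => Matrix (Fin m ⊕ Fin m) (Fin m ⊕ Fin m) F
local notation "SL" => Matrix.SpecialLinearGroup (Fin 2) F

/-- the 2-part of `q^(2 i) - 1` -/
theorem val_pow2 {q : ℕ} (hq : Odd q) (h1 : 1 < q) (i : ℕ) :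
    padicValNat 2 (q ^ (2 * (i + 1)) - 1) = padicValNat 2 (q ^ 2 - 1) + padicValNat 2 (i + 1) := by
  have h2 : Fact (Nat.Prime 2) := ⟨Nat.prime_two⟩
  have hd : 2 ∣ q - 1 := by
    obtain ⟨k, hk⟩ := hq
    exact ⟨k, by omega⟩
  have hq2 : ¬ 2 ∣ q := fun h => (Nat.not_even_iff_odd.2 hq) (even_iff_two_dvd.2 h)
  have e1 := padicValNat.pow_two_sub_pow h1 hd hq2 (n := 2 * (i + 1)) (by omega) ⟨i + 1, by ring⟩
  have e2 := padicValNat.pow_two_sub_pow h1 hd hq2 (n := 2) (by omega) ⟨1, rfl⟩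
  rw [one_pow] at e1 e2
  have e3 : padicValNat 2 (2 * (i + 1)) = 1 + padicValNat 2 (i + 1) := by
    rw [padicValNat.mul two_ne_zero (Nat.succ_ne_zero i), padicValNat.self (by norm_num)]
  have e4 : padicValNat 2 2 = 1 := padicValNat.self (by norm_num)
  omega

/-- the order of the Sylow 2-subgroup -/
theorem val_sp2 {F : Type*} [Field F] [Fintype F] (hF : Odd (Fintype.card F)) (m : ℕ) :
    (Nat.card (Matrix.symplecticGroup (Fin m) F)).factorization 2 =
      m * (Nat.card (Matrix.SpecialLinearGroup (Fin 2) F)).factorization 2 +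
        (Nat.card (Equiv.Perm (Fin m))).factorization 2 := by
  have h2 : Fact (Nat.Prime 2) := ⟨Nat.prime_two⟩
  have h1 : 1 < Fintype.card F := Fintype.one_lt_card
  set q := Fintype.card F with hq
  have hq0 : padicValNat 2 q = 0 := by
    refine padicValNat.eq_zero_of_not_dvd fun h => (Nat.not_even_iff_odd.2 hF) (even_iff_two_dvd.2 h)
  have hqm : padicValNat 2 (q ^ m ^ 2) = 0 := by
    refine padicValNat.eq_zero_of_not_dvd fun h => (Nat.not_even_iff_odd.2 (hF.pow (n := m ^ 2))) (even_iff_two_dvd.2 h)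
  have hpos : ∀ i : ℕ, q ^ (2 * (i + 1)) - 1 ≠ 0 := by
    intro i h
    have := Nat.one_lt_pow (n := 2 * (i + 1)) (by omega) h1
    omega
  rw [Nat.factorization_def _ Nat.prime_two, Nat.factorization_def _ Nat.prime_two,
    Nat.factorization_def _ Nat.prime_two, Cfsg.Agent.LieClassical.SympCount.card_symplecticGroup,
    Cfsg.Agent.S0276.card_sl_two rfl, ← hq, Nat.card_perm, Nat.card_eq_fintype_card (α := Fin m), Fintype.card_fin,
    ← Finset.prod_range_add_one_eq_factorial,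
    padicValNat.mul (pow_ne_zero _ (by omega)) (Finset.prod_ne_zero_iff.2 fun i _ => hpos i),
    padicValNat.mul (by omega) (by have := hpos 0; simpa only [_root_.ne_eq, _root_.zero_add, _root_.mul_one] using this), hqm, hq0, zero_add, zero_add]
  have hprod : ∀ k : ℕ, padicValNat 2 (∏ i ∈ Finset.range k, (q ^ (2 * (i + 1)) - 1)) =
      k * padicValNat 2 (q ^ 2 - 1) + padicValNat 2 (∏ i ∈ Finset.range k, (i + 1)) := by
    intro k
    induction k with
    | zero => simp only [_root_.Finset.range_zero, _root_.Finset.prod_empty, _root_.padicValNat_one_right, _root_.MulZeroClass.zero_mul, _root_.add_zero]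
    | succ k ih =>
      rw [Finset.prod_range_succ, Finset.prod_range_succ,
        padicValNat.mul (Finset.prod_ne_zero_iff.2 fun i _ => hpos i) (hpos k),
        padicValNat.mul (Finset.prod_ne_zero_iff.2 fun i _ => Nat.succ_ne_zero i) (Nat.succ_ne_zero k), ih,
        val_pow2 hF h1]
      ring
  exact hprod m

/-- the cyclic subgroup of index 2 of the quaternion group -/
theorem exists_c [Fintype F] (hF : Odd (Fintype.card F)) (P : Sylow 2 SL) :
    ∃ c j : SL, c ∈ P ∧ j ∈ P ∧ j * c * j⁻¹ = c⁻¹ ∧ c ≠ 1 ∧ c * c ≠ 1 ∧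
      (∀ x ∈ P, x * c = c * x → x ∈ zpowers c) ∧ (∀ x ∈ P, x * c * x⁻¹ ∈ zpowers c) := by
  obtain ⟨k, hk, ⟨e⟩⟩ := Cfsg.Agent.S0261.result hF P
  set n := 2 ^ k with hn
  have hn2 : 2 ≤ n := by
    calc 2 = 2 ^ 1 := rfl
      _ ≤ 2 ^ k := Nat.pow_le_pow_right (by norm_num) hk
  have : NeZero n := ⟨by omega⟩
  let C : P := e.symm (QuaternionGroup.a 1)
  let J : P := e.symm (QuaternionGroup.xa 0)
  have hord : orderOf (C : SL) = 2 * n := by
    rw [Subgroup.orderOf_coe, MulEquiv.orderOf_eq, QuaternionGroup.orderOf_a_one]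
  have hel : ∀ i : ZMod (2 * n), ((e.symm (QuaternionGroup.a i) : P) : SL) ∈ zpowers (C : SL) := by
    intro i
    obtain ⟨l, rfl⟩ := ZMod.natCast_zmod_surjective i
    rw [← QuaternionGroup.a_one_pow, map_pow]
    exact ⟨(l : ℤ), by simp [C]⟩
  refine ⟨C, J, C.2, J.2, ?_, ?_, ?_, ?_, ?_⟩
  · have : J * C * J⁻¹ = C⁻¹ := by
      apply e.injective
      simp only [C, J, map_mul, map_inv, MulEquiv.apply_symm_apply]
      rw [mul_inv_eq_iff_eq_mul]
      change _ = QuaternionGroup.a (-1) * QuaternionGroup.xa 0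
      rw [QuaternionGroup.xa_mul_a, QuaternionGroup.a_mul_xa]
      congr 1
      ring
    exact congrArg Subtype.val this
  · intro h
    rw [h, orderOf_one] at hord
    omega
  · intro h
    have h3 := orderOf_dvd_of_pow_eq_one (show (C : SL) ^ 2 = 1 by rw [pow_two, h])
    rw [hord] at h3
    have := Nat.le_of_dvd (by norm_num) h3
    omega
  · intro x hx hxc
    have h1 : (⟨x, hx⟩ : P) * C = C * ⟨x, hx⟩ := Subtype.ext hxc
    rcases hq : e ⟨x, hx⟩ with i | i
    · have := hel i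
      rw [← hq, e.symm_apply_apply] at this
      exact this
    · exfalso
      have h2 := congrArg e h1
      rw [map_mul, map_mul, hq] at h2
      simp only [C, MulEquiv.apply_symm_apply] at h2
      rw [QuaternionGroup.xa_mul_a, QuaternionGroup.a_mul_xa] at h2
      have h3 : i + 1 = i - 1 := by injection h2
      have h4 : ((2 : ℕ) : ZMod (2 * n)) = 0 := by
        push_cast
        linear_combination h3
      rw [ZMod.natCast_eq_zero_iff] at h4
      have := Nat.le_of_dvd (by norm_num) h4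
      omega
  · intro x hx
    rcases hq : e ⟨x, hx⟩ with i | i
    · have : (⟨x, hx⟩ : P) * C * (⟨x, hx⟩ : P)⁻¹ = e.symm (QuaternionGroup.a 1) := by
        apply e.injective
        rw [map_mul, map_mul, map_inv, hq]
        simp only [C, MulEquiv.apply_symm_apply]
        rw [mul_inv_eq_iff_eq_mul, QuaternionGroup.a_mul_a, QuaternionGroup.a_mul_a, add_comm]
      have h2 := hel 1
      rw [← this] at h2
      exact h2
    · have : (⟨x, hx⟩ : P) * C * (⟨x, hx⟩ : P)⁻¹ = e.symm (QuaternionGroup.a (-1)) := by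
        apply e.injective
        rw [map_mul, map_mul, map_inv, hq]
        simp only [C, MulEquiv.apply_symm_apply]
        rw [mul_inv_eq_iff_eq_mul, QuaternionGroup.xa_mul_a, QuaternionGroup.a_mul_xa]
        congr 1
        ring
      have h2 := hel (-1)
      rw [← this] at h2
      exact h2

theorem exists_mem_wr {P : Subgroup SL} {T : Subgroup (Equiv.Perm (Fin m))} {w : G} (hw : w ∈ Wr P T) :
    ∃ (g : Fin m → SL) (σ : Equiv.Perm (Fin m)), (∀ i, g i ∈ P) ∧ σ ∈ T ∧ w = blk g * pmh σ := by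
  unfold Wr at hw
  rw [sup_eq_closure_mul] at hw
  induction hw using closure_induction with
  | mem x hx =>
    obtain ⟨_, ⟨g, hg, rfl⟩, _, ⟨σ, hσ, rfl⟩, rfl⟩ := hx
    exact ⟨g, σ, fun i => hg i (Set.mem_univ i), hσ, rfl⟩
  | one => exact ⟨1, 1, fun _ => P.one_mem, T.one_mem, by rw [map_one, map_one, mul_one]⟩
  | mul x y _ _ hx hy =>
    obtain ⟨g, σ, hg, hσ, rfl⟩ := hx
    obtain ⟨h, τ, hh, hτ, rfl⟩ := hy
    refine ⟨g * fun i => h (σ.symm i), σ * τ, fun i => P.mul_mem (hg i) (hh _), T.mul_mem hσ hτ, ?_⟩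
    rw [map_mul, ← pmh_blk, map_mul]
    group
  | inv x _ hx =>
    obtain ⟨g, σ, hg, hσ, rfl⟩ := hx
    refine ⟨fun i => (g (σ i))⁻¹, σ⁻¹, fun i => P.inv_mem (hg _), T.inv_mem hσ, ?_⟩
    have h1 : (pmh σ⁻¹ : G) * blk g⁻¹ * (pmh σ⁻¹ : G)⁻¹ = blk fun i => (g (σ i))⁻¹ := pmh_blk _ _
    rw [← h1, map_inv, map_inv]
    group

/-- **`PSp_2m(q)`** -/
theorem invt_psp {F : Type*} [Field F] [Fintype F] (hF : Odd (Fintype.card F)) {m : ℕ} (hm : 2 ≤ m) (S : Sylow 2 (PSp m F)) :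
    Invt ↥(S : Subgroup (PSp m F)) := by
  classical
  have hp : Fact (Nat.Prime 2) := ⟨Nat.prime_two⟩
  let π : Matrix.symplecticGroup (Fin m) F →* PSp m F := QuotientGroup.mk' _
  have hπ : Function.Surjective π := QuotientGroup.mk'_surjective _
  let P : Sylow 2 (Matrix.SpecialLinearGroup (Fin 2) F) := default
  let T : Sylow 2 (Equiv.Perm (Fin m)) := default
  let W : Subgroup (Matrix.symplecticGroup (Fin m) F) := Wr (P : Subgroup (Matrix.SpecialLinearGroup (Fin 2) F)) (T : Subgroup (Equiv.Perm (Fin m)))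
  have hW : IsPGroup 2 W := isPGroup_wr P.2 T.2
  obtain ⟨T', hT'⟩ := hW.exists_le_sylow
  have hc : Nat.card T' ≤ Nat.card W := by
    rw [Sylow.card_eq_multiplicity]
    refine le_trans (le_of_eq ?_) (card_wr_ge _ _)
    rw [val_sp2 hF, pow_add, mul_comm m, pow_mul, ← Sylow.card_eq_multiplicity P, ← Sylow.card_eq_multiplicity T]
  have hWT : W = (T' : Subgroup _) := Subgroup.eq_of_le_of_card_ge hT' hc
  have hmap : W.map π = ((T'.mapSurjective hπ : Sylow 2 (PSp m F)) : Subgroup (PSp m F)) := by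
    rw [Sylow.coe_mapSurjective, hWT]
  refine Invt.congr (Sylow.equiv (T'.mapSurjective hπ) S) ?_
  obtain ⟨c, j, hcP, hjP, hj, hc1, hc2, hcen, hnor⟩ := exists_c hF P
  let A0 : Subgroup (Matrix.symplecticGroup (Fin m) F) := (Subgroup.pi Set.univ (fun _ : Fin m => zpowers c)).map blk
  have hmemA : ∀ g : Fin m → Matrix.SpecialLinearGroup (Fin 2) F, (∀ i, g i ∈ zpowers c) → blk g ∈ A0 := fun g hg =>
    mem_map_of_mem _ fun i _ => hg i
  have hzc : ∀ x ∈ P, ∀ y ∈ zpowers c, x * y * x⁻¹ ∈ zpowers c := by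
    intro x hx y hy
    obtain ⟨n, rfl⟩ := mem_zpowers_iff.1 hy
    rw [← conj_zpow]
    exact zpow_mem (hnor x hx) n
  refine invt_of_cover π hmap (A0 := A0) (s := blk fun _ => j) ?_ ?_ ?_ ?_ ?_ ?_
  · rintro _ ⟨g, hg, rfl⟩
    exact blk_mem fun i => (zpowers_le.2 hcP) (hg i (Set.mem_univ i))
  · intro w hw x hx
    obtain ⟨g, σ, hg, hσ, rfl⟩ := exists_mem_wr hw
    obtain ⟨h, hh, rfl⟩ := hx
    have e : blk g * pmh σ * blk h * (blk g * pmh σ)⁻¹ = blk (g * (fun i => h (σ.symm i)) * g⁻¹) := by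
      rw [map_mul, map_mul, ← pmh_blk, map_inv]
      group
    rw [e]
    exact hmemA _ fun i => hzc _ (hg i) _ (hh _ (Set.mem_univ _))
  · rintro _ ⟨g, hg, rfl⟩ _ ⟨h, hh, rfl⟩
    rw [← map_mul, ← map_mul]
    congr 1
    funext i
    obtain ⟨a, ha⟩ := mem_zpowers_iff.1 (hg i (Set.mem_univ i))
    obtain ⟨b, hb⟩ := mem_zpowers_iff.1 (hh i (Set.mem_univ i))
    rw [Pi.mul_apply, Pi.mul_apply, ← ha, ← hb]
    exact (Commute.refl c).zpow_zpow a b
  · intro w hw hcomm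
    obtain ⟨g, σ, hg, hσ, rfl⟩ := exists_mem_wr hw
    -- commuting modulo the centre
    have key : ∀ x ∈ A0, (blk g * pmh σ) * x * (blk g * pmh σ)⁻¹ = x ∨ (blk g * pmh σ) * x * (blk g * pmh σ)⁻¹ = x * blk (fun _ => -1) := by
      intro x hx
      have h1 := hcomm x hx
      have h2 : x⁻¹ * ((blk g * pmh σ) * x * (blk g * pmh σ)⁻¹) ∈ center (Matrix.symplecticGroup (Fin m) F) := by
        rw [← QuotientGroup.eq_one_iff]
        change π _ = 1
        rw [map_mul, map_mul, h1, map_mul, map_inv, map_inv]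
        group
      rw [Cfsg.Agent.LieClassical.SympCenter.mem_center_iff] at h2
      obtain ⟨r, hr⟩ := h2
      have hrr := Cfsg.Agent.LieClassical.SympCenter.sq_eq_one_of_smul_mem (by omega : 1 ≤ m) (hr ▸ (x⁻¹ * ((blk g * pmh σ) * x * (blk g * pmh σ)⁻¹)).2)
      rcases mul_self_eq_one_iff.1 hrr with h | h
      · left
        have h3 : x⁻¹ * ((blk g * pmh σ) * x * (blk g * pmh σ)⁻¹) = 1 := by
          apply Subtype.ext
          rw [hr, h, one_smul]
          rfl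
        exact (inv_mul_eq_one.1 h3).symm
      · right
        have h3 : x⁻¹ * ((blk g * pmh σ) * x * (blk g * pmh σ)⁻¹) = blk (fun _ => -1) := by
          refine ext_mulVec fun v => ?_
          rw [hr, h, blk_mulVec]
          ext (i | i)
          · rw [bf_inl]
            simp only [Matrix.neg_mulVec, _root_.neg_smul, _root_.one_smul, _root_.Matrix.one_mulVec, _root_.Pi.neg_apply, _root_.Fin.isValue, _root_.Matrix.SpecialLinearGroup.coe_neg, _root_.Matrix.SpecialLinearGroup.coe_one, _root_.Matrix.neg_apply, _root_.Matrix.one_apply_eq, _root_.neg_mul, _root_.one_mul, _root_.ne_eq, _root_.zero_ne_one, _root_.not_false_eq_true, _root_.Matrix.one_apply_ne, _root_.neg_zero, _root_.MulZeroClass.zero_mul, _root_.add_zero]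
          · rw [bf_inr]
            simp only [Matrix.neg_mulVec, _root_.neg_smul, _root_.one_smul, _root_.Matrix.one_mulVec, _root_.Pi.neg_apply, _root_.Fin.isValue, _root_.Matrix.SpecialLinearGroup.coe_neg, _root_.Matrix.SpecialLinearGroup.coe_one, _root_.Matrix.neg_apply, _root_.ne_eq, _root_.one_ne_zero, _root_.not_false_eq_true, _root_.Matrix.one_apply_ne, _root_.neg_zero, _root_.MulZeroClass.zero_mul, _root_.Matrix.one_apply_eq, _root_.neg_mul, _root_.one_mul, _root_.zero_add]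
        rw [← h3, mul_inv_cancel_left]
    have hconj : ∀ h : Fin m → Matrix.SpecialLinearGroup (Fin 2) F, (blk g * pmh σ) * blk h * (blk g * pmh σ)⁻¹ =
        blk (g * (fun i => h (σ.symm i)) * g⁻¹) := by
      intro h
      rw [map_mul, map_mul, ← pmh_blk, map_inv]
      group
    -- the entries of the conjugate of a single entry
    have main : ∀ i, σ i = i ∧ g i * c = c * g i := by
      intro i
      obtain ⟨k, hk⟩ : ∃ k : Fin m, k ≠ i := by
        have : Nontrivial (Fin m) := Fin.nontrivial_iff_two_le.2 hm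
        exact exists_ne i
      have hxA : blk (Pi.mulSingle i c) ∈ A0 := hmemA _ fun l => by
        by_cases hl : l = i
        · subst hl; rw [Pi.mulSingle_eq_same]; exact mem_zpowers c
        · rw [Pi.mulSingle_eq_of_ne hl]; exact one_mem _
      have hsi : σ i = i := by
        by_contra hne
        have h1 := key _ hxA
        rw [hconj, ← map_mul] at h1
        have hi : (g * (fun l => (Pi.mulSingle i c : Fin m → _) (σ.symm l)) * g⁻¹) i = 1 := by
          simp only [Pi.mul_apply, Pi.inv_apply]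
          rw [Pi.mulSingle_eq_of_ne, mul_one, mul_inv_cancel]
          intro h
          exact hne (by rw [Equiv.symm_apply_eq] at h; exact h.symm)
        rcases h1 with h1 | h1
        · have h2 := congrFun (blk_injective h1) i
          rw [hi, Pi.mulSingle_eq_same] at h2
          exact hc1 h2.symm
        · have h2 := congrFun (blk_injective h1) i
          rw [hi, Pi.mul_apply, Pi.mulSingle_eq_same] at h2
          apply hc2
          have h3 : c = -1 := by
            rw [mul_neg_one] at h2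
            rw [h2, neg_neg]
          rw [h3, neg_mul_neg, one_mul]
      refine ⟨hsi, ?_⟩
      have hsk : σ.symm i = i := by rw [Equiv.symm_apply_eq, hsi]
      have hk' : σ.symm k ≠ i := by
        intro h
        rw [Equiv.symm_apply_eq, hsi] at h
        exact hk h
      have h1 := key _ hxA
      rw [hconj, ← map_mul] at h1
      have hkk : (g * (fun l => (Pi.mulSingle i c : Fin m → _) (σ.symm l)) * g⁻¹) k = 1 := by
        simp only [Pi.mul_apply, Pi.inv_apply]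
        rw [Pi.mulSingle_eq_of_ne hk', mul_one, mul_inv_cancel]
      have hii : (g * (fun l => (Pi.mulSingle i c : Fin m → _) (σ.symm l)) * g⁻¹) i = g i * c * (g i)⁻¹ := by
        simp only [Pi.mul_apply, Pi.inv_apply]
        rw [hsk, Pi.mulSingle_eq_same]
      rcases h1 with h1 | h1
      · have h2 := congrFun (blk_injective h1) i
        rw [hii, Pi.mulSingle_eq_same] at h2
        exact mul_inv_eq_iff_eq_mul.1 h2
      · have h2 := congrFun (blk_injective h1) k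
        rw [hkk, Pi.mul_apply, Pi.mulSingle_eq_of_ne hk, one_mul] at h2
        have h3 := congrFun (blk_injective h1) i
        rw [hii, Pi.mul_apply, Pi.mulSingle_eq_same] at h3
        change _ = c * (-1) at h3
        rw [← h2, mul_one] at h3
        exact mul_inv_eq_iff_eq_mul.1 h3
    have hσ1 : σ = 1 := Equiv.ext fun i => (main i).1
    rw [hσ1, map_one, mul_one]
    exact hmemA _ fun i => hcen _ (hg i) (main i).2
  · exact blk_mem fun _ => hjP
  · rintro _ ⟨h, hh, rfl⟩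
    rw [← map_inv, ← map_inv, ← map_mul, ← map_mul]
    congr 1
    funext i
    simp only [Pi.mul_apply, Pi.inv_apply]
    obtain ⟨n, hn⟩ := mem_zpowers_iff.1 (hh i (Set.mem_univ i))
    rw [← hn, ← conj_zpow, hj, _root_.inv_zpow]

end Psp

end Cfsg.Agent.H763.Psa
end

private theorem dce_abf387e73c37 : _root_.True := by
  try have : _root_.True := by simp only [_root_.Cfsg.Agent.H763.Psa.lpar.eq_1]
  try have : _root_.True := by simp only [_root_.Cfsg.Agent.H763.Psa.ltype.eq_1]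
  try have : _root_.True := by simp only [_root_.Cfsg.Agent.H763.Psa.utype.eq_1]
  try have : _root_.True := by simp only [_root_.Cfsg.Agent.H763.Psa.Rel.eq_1]
  try have : _root_.True := by simp only [_root_.Cfsg.Agent.H763.Psa.upar.eq_1]
  exact _root_.True.intro
end
end
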